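import Cfsg.Agent.Lib.Co2Three.W.Point
import Cfsg.Agent.Lib.LargeExtra.Basic
import Mathlib.GroupTheory.NoncommPiCoprod

/-!
The four quaternion groups commute pairwise and generate an extraspecial group of order 512.
-/

set_option autoImplicit false
set_option maxRecDepth 20000
set_option linter.style.haveILetI false
set_option linter.unusedSectionVars false

namespace Cfsg.Agent.Co2Three

open Subgroup
open scoped commutatorElement

theorem cp_bf : ∀ i j, bf (cp i) (cp j) = 0 ↔ i = j := by decide +kernel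

namespace Loc

variable {G : Type*} [Group G] [Finite G] (L : Loc G)

theorem t_ne : L.t ≠ 1 := fun h => by
  haveI : Fact (Nat.Prime 2) := ⟨Nat.prime_two⟩
  obtain ⟨x, hx⟩ := exists_prime_orderOf_dvd_card' (G := L.P) 2 (by rw [L.P_card]; norm_num)
  have h2 : (x : G) * x = 1 := by
    rw [← pow_two, ← hx, ← Subgroup.orderOf_coe, pow_orderOf_eq_one]
  rw [← Subgroup.orderOf_coe] at hx
  rcases L.P_invol x x.2 h2 with e | e
  · rw [e, orderOf_one] at hx; norm_num at hx
  · rw [e, h, orderOf_one] at hx; norm_num at hx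

theorem t_inv : L.t⁻¹ = L.t := inv_eq_of_mul_eq_one_right L.t_sq

/-- Any two of the quaternion groups commute. -/
theorem P4_pair {i j : Fin 4} (hij : i ≠ j) {x y : G} (hx : x ∈ L.P4 i) (hy : y ∈ L.P4 j) : Commute x y := by
  obtain ⟨g, gt, hg⟩ := L.exists_lift (Or.inl (np_qf i j)) (np_refl i j)
  obtain ⟨v, hv⟩ : ∃ v, (np i j).mulVec v = e2 := by
    have hinj : Function.Injective fun u => (np i j).mulVec u := fun a b e => L.el_inj (by
      have h : g * L.el a * g⁻¹ = g * L.el b * g⁻¹ := by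
        rw [hg, hg]; exact congrArg L.el e
      exact mul_left_cancel (mul_right_cancel h))
    exact Finite.surjective_of_injective hinj e2
  obtain ⟨hv1, hvi, hvj⟩ := np_pre i j hij v hv
  have img : ∀ {k : Fin 4} {z : G}, z ∈ L.P4 k → bf v (cp k) = 0 → (g * z * g⁻¹) ^ 4 = 1 ∧
      Commute (g * z * g⁻¹) (L.el e2) ∧ Commute (g * z * g⁻¹) L.t ∧
      Commute (g * z * g⁻¹) (L.el ((np i j).mulVec (cp k))) := by
    intro k z hz hb
    obtain ⟨z1, z2⟩ := mem_inf.1 (L.P4_le k hz)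
    refine ⟨by rw [conj_pow, L.P4_four hz, mul_one, mul_inv_cancel], ?_, ?_, ?_⟩
    · rw [← hv, ← hg]; exact (L.P4_comm hz hv1 hb).conj g
    · have h := (show Commute z L.t from mem_centralizer_singleton_iff.1 z2).conj g
      rwa [gt.eq, mul_inv_cancel_right] at h
    · rw [← hg]; exact (show Commute z (L.el (cp k)) from mem_centralizer_singleton_iff.1 z1).conj g
  obtain ⟨x4, x2, xt, x0⟩ := img hx hvi
  obtain ⟨y4, y2, yt, y3⟩ := img hy hvj
  obtain ⟨h0, h3⟩ := np_pts i j hij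
  have h := L.pair_comm x4 y4 (by
      rcases h0 with e | e <;> rw [e] at x0
      · exact x0
      · rw [L.el_neg] at x0; simpa using x0.inv_right) x2 xt (by
      rcases h3 with e | e <;> rw [e] at y3
      · exact y3
      · rw [L.el_neg] at y3; simpa using y3.inv_right) y2 yt
  have := h.conj g⁻¹
  simpa [mul_assoc] using this

theorem pairComm : Pairwise fun i j : Fin 4 => ∀ x y : G, x ∈ L.P4 i → y ∈ L.P4 j → Commute x y :=
  fun _ _ hij _ _ hx hy => L.P4_pair hij hx hy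

/-- The families. -/
abbrev PP := (i : Fin 4) → ↥(L.P4 i)

/-- Their product. -/
noncomputable def Phi : L.PP →* G := Subgroup.noncommPiCoprod L.pairComm

theorem Phi_single (i : Fin 4) (x : L.P4 i) : L.Phi (Pi.mulSingle i x) = x :=
  Subgroup.noncommPiCoprod_mulSingle i x

/-- The signaliser. -/
noncomputable def W : Subgroup G := ⨆ i, L.P4 i

theorem Phi_range : L.Phi.range = L.W := Subgroup.noncommPiCoprod_range

theorem P4_le_W (i : Fin 4) : L.P4 i ≤ L.W := le_iSup L.P4 i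

theorem W_dec {x : G} (hx : x ∈ L.W) : ∃ p, L.Phi p = x := by
  rw [← L.Phi_range] at hx; exact hx

theorem Phi_mem (p : L.PP) : L.Phi p ∈ L.W := by
  rw [← L.Phi_range]; exact ⟨p, rfl⟩

theorem W_le : L.W ≤ centralizer {L.t} := iSup_le fun i => (L.P4_le i).trans inf_le_right

theorem t_mem_W : L.t ∈ L.W := L.P4_le_W 0 (L.t_mem_P4 0)

/-- The group of order two. -/
abbrev Zt : Subgroup G := zpowers L.t

theorem mem_Zt {x : G} : x ∈ L.Zt ↔ x = 1 ∨ x = L.t := by
  constructor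
  · intro h
    obtain ⟨n, rfl⟩ := (isOfFinOrder_of_finite _).mem_powers_iff_mem_zpowers.2 h
    show L.t ^ n = 1 ∨ L.t ^ n = L.t
    rcases Nat.even_or_odd' n with ⟨k, rfl | rfl⟩
    · left; rw [pow_mul, pow_two, L.t_sq, one_pow]
    · right; rw [pow_succ, pow_mul, pow_two, L.t_sq, one_pow, one_mul]
  · rintro (rfl | rfl)
    · exact one_mem _
    · exact mem_zpowers _

theorem Phi_Zt {p : L.PP} (h : ∀ i, (p i : G) ∈ L.Zt) : L.Phi p ∈ L.Zt := by
  rw [Phi, Subgroup.noncommPiCoprod_apply]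
  exact Subgroup.noncommProd_mem _ _ fun i _ => h i

/-- Conjugation of the families by an element of the plane. -/
noncomputable def conjP {v : V4} (hv : v 1 = 0) : L.PP →* L.PP where
  toFun p i := ⟨L.el v * p i * (L.el v)⁻¹, L.P4_inv i v hv _ (p i).2⟩
  map_one' := funext fun i => Subtype.ext (by simp)
  map_mul' p q := funext fun i => Subtype.ext (by simp [mul_assoc])

theorem Phi_conjP {v : V4} (hv : v 1 = 0) (p : L.PP) :
    L.Phi (L.conjP hv p) = L.el v * L.Phi p * (L.el v)⁻¹ := by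
  have key : L.Phi.comp (L.conjP hv) = (MulAut.conj (L.el v)).toMonoidHom.comp L.Phi := by
    refine MonoidHom.ext fun q => ?_
    refine Subgroup.pi_mem_of_mulSingle_mem (H := MonoidHom.eqLocus _ _) q fun i => ?_
    show L.Phi.comp (L.conjP hv) (Pi.mulSingle i (q i)) = (MulAut.conj (L.el v)).toMonoidHom.comp L.Phi (Pi.mulSingle i (q i))
    generalize q i = x
    have e : L.conjP hv (Pi.mulSingle i x) =
        Pi.mulSingle i (⟨L.el v * x * (L.el v)⁻¹, L.P4_inv i v hv _ x.2⟩ : L.P4 i) := by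
      funext k
      by_cases hk : k = i
      · subst hk
        rw [Pi.mulSingle_eq_same]
        refine Subtype.ext ?_
        show L.el v * ((Pi.mulSingle k x : L.PP) k : G) * (L.el v)⁻¹ = _
        rw [Pi.mulSingle_eq_same]
      · rw [Pi.mulSingle_eq_of_ne hk]
        refine Subtype.ext ?_
        show L.el v * ((Pi.mulSingle i x : L.PP) k : G) * (L.el v)⁻¹ = _
        rw [Pi.mulSingle_eq_of_ne hk]
        simp
    rw [MonoidHom.comp_apply, MonoidHom.comp_apply, e, L.Phi_single, L.Phi_single]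
    rfl
  exact DFunLike.congr_fun key p

/-- The displacement by a point. -/
noncomputable def disp (j : Fin 4) (p : L.PP) : L.PP := p⁻¹ * L.conjP (cp_facts j).2.2 p

theorem Phi_disp {j : Fin 4} {p : L.PP} (h : L.Phi p ∈ L.Zt) : L.Phi (L.disp j p) = 1 := by
  rw [disp, map_mul, map_inv, L.Phi_conjP]
  rcases L.mem_Zt.1 h with e | e <;> rw [e]
  · group
  · rw [(L.t_plane (cp_facts j).2.2).eq.symm, mul_inv_cancel_right, inv_mul_cancel]

theorem disp_coe (j : Fin 4) (p : L.PP) (k : Fin 4) :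
    ((L.disp j p) k : G) = (p k : G)⁻¹ * (L.el (cp j) * (p k : G) * (L.el (cp j))⁻¹) := rfl

theorem disp_self (j : Fin 4) (p : L.PP) : ((L.disp j p) j : G) = 1 := by
  have hc : Commute (p j : G) (L.el (cp j)) := L.P4_comm (p j).2 (cp_facts j).2.2 ((cp_bf j j).2 rfl)
  rw [disp_coe, hc.symm.eq, mul_inv_cancel_right, inv_mul_cancel]

theorem disp_one {j k : Fin 4} {p : L.PP} (h : (p k : G) = 1) : ((L.disp j p) k : G) = 1 := by
  rw [disp_coe, h]; group

/-- A point off the tangent plane moves every element outside the centre. -/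
theorem move_Zt {k : Fin 4} {x : G} (hx : x ∈ L.P4 k) {v : V4} (hv : v 1 = 0) (hb : bf v (cp k) ≠ 0)
    (hz : x⁻¹ * (L.el v * x * (L.el v)⁻¹) ∈ L.Zt) : x ∈ L.Zt := by
  set g := L.el v with hg
  have htg : Commute L.t g := L.t_plane hv
  rcases L.mem_Zt.1 hz with e | e
  · refine L.mem_Zt.2 (L.P4_move hx hv hb ?_)
    exact (mul_inv_eq_iff_eq_mul.1 (inv_mul_eq_one.1 e).symm).symm
  · exfalso
    have e' : g * x * g⁻¹ = x * L.t := inv_mul_eq_iff_eq_mul.1 e
    have ht' : g * L.t * g⁻¹ = L.t := by rw [← htg.eq, mul_inv_cancel_right]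
    have h3 : g ^ 3 = 1 := L.el_cube _
    have e2 : g * (g * x * g⁻¹) * g⁻¹ = x := by
      rw [e', show g * (x * L.t) * g⁻¹ = (g * x * g⁻¹) * (g * L.t * g⁻¹) by group, e', ht', mul_assoc, L.t_sq,
        mul_one]
    have h1 : x = x * L.t := by
      calc x = g ^ 3 * x * (g ^ 3)⁻¹ := by rw [h3]; group
        _ = g * (g * (g * x * g⁻¹) * g⁻¹) * g⁻¹ := by rw [pow_three]; group
        _ = g * x * g⁻¹ := by rw [e2]
        _ = x * L.t := e'
    exact L.t_ne (mul_eq_left.1 h1.symm)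

theorem disp_out {j k : Fin 4} (hjk : j ≠ k) {p : L.PP} (h : (p k : G) ∉ L.Zt) : ((L.disp j p) k : G) ∉ L.Zt :=
  fun hz => h (L.move_Zt (p k).2 (cp_facts j).2.2 (fun e => hjk ((cp_bf j k).1 e)) (by rwa [disp_coe] at hz))

theorem Phi_mem_Zt {p : L.PP} (h : L.Phi p ∈ L.Zt) (i : Fin 4) : (p i : G) ∈ L.Zt := by
  by_contra hne
  obtain ⟨a, b, c, ha, hb, hc, hall⟩ : ∃ a b c : Fin 4, a ≠ i ∧ b ≠ i ∧ c ≠ i ∧
      ∀ k, k = i ∨ k = a ∨ k = b ∨ k = c :=
    (show ∀ i : Fin 4, ∃ a b c : Fin 4, a ≠ i ∧ b ≠ i ∧ c ≠ i ∧ ∀ k, k = i ∨ k = a ∨ k = b ∨ k = c by decide) i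
  set q := L.disp c (L.disp b (L.disp a p)) with hq
  have hq1 : L.Phi q = 1 := by
    refine L.Phi_disp ?_
    rw [L.Phi_disp (p := L.disp a p) (by rw [L.Phi_disp h]; exact one_mem _)]
    exact one_mem _
  have hqi : (q i : G) ∉ L.Zt := L.disp_out hc (L.disp_out hb (L.disp_out ha hne))
  have hqs : q = Pi.mulSingle i (q i) := by
    funext k
    by_cases hk : k = i
    · subst hk; rw [Pi.mulSingle_eq_same]
    · rw [Pi.mulSingle_eq_of_ne hk]
      refine Subtype.ext ?_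
      rw [Subgroup.coe_one]
      rcases hall k with e | e | e | e
      · exact absurd e hk
      · subst e; exact L.disp_one (L.disp_one (L.disp_self _ _))
      · subst e; exact L.disp_one (L.disp_self _ _)
      · subst e; exact L.disp_self _ _
  rw [hqs, L.Phi_single] at hq1
  exact hqi (hq1 ▸ one_mem _)

theorem P4_sq {i : Fin 4} {x : G} (hx : x ∈ L.P4 i) : x * x ∈ L.Zt := by
  refine L.mem_Zt.2 (L.P4_invol ((L.P4 i).mul_mem hx hx) ?_)
  rw [← L.P4_four hx, pow_succ, pow_three]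
  group

theorem W_sq {x : G} (hx : x ∈ L.W) : x * x ∈ L.Zt := by
  obtain ⟨p, rfl⟩ := L.W_dec hx
  rw [← map_mul]
  exact L.Phi_Zt fun i => L.P4_sq (p i).2

theorem card_W : Nat.card L.W = 512 := by
  classical
  have hPP : Nat.card L.PP = 4096 := by
    rw [Nat.card_pi, Fin.prod_univ_four, L.P4_card, L.P4_card, L.P4_card, L.P4_card]
    norm_num
  let z : Fin 2 → G := fun a => L.t ^ (a : ℕ)
  have hz : ∀ a i, z a ∈ L.P4 i := fun a i => pow_mem (L.t_mem_P4 i) _
  have hzinj : Function.Injective z := fun a b h => by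
    fin_cases a <;> fin_cases b
    · rfl
    · exact absurd (by simpa [z] using h.symm) L.t_ne
    · exact absurd (by simpa [z] using h) L.t_ne
    · rfl
  have hzs : ∀ {x : G}, x ∈ L.Zt → ∃ a, z a = x := fun hx => by
    rcases L.mem_Zt.1 hx with rfl | rfl
    · exact ⟨0, by simp [z]⟩
    · exact ⟨1, by simp [z]⟩
  let q : (Fin 3 → Fin 2) → L.PP := fun a i =>
    if h : i.val < 3 then ⟨z (a ⟨i.val, h⟩), hz _ i⟩ else 1
  have hrest : ∀ p : L.PP, L.Phi p = 1 → ∀ p' : L.PP, L.Phi p' = 1 → (∀ i : Fin 4, i.val < 3 → p i = p' i) → p = p' := by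
    intro p hp p' hp' h
    have hd : L.Phi (p⁻¹ * p') = 1 := by rw [map_mul, map_inv, hp, hp']; group
    have hs : p⁻¹ * p' = Pi.mulSingle 3 ((p⁻¹ * p') 3) := by
      funext k
      by_cases hk : k = 3
      · subst hk; rw [Pi.mulSingle_eq_same]
      · rw [Pi.mulSingle_eq_of_ne hk, Pi.mul_apply, Pi.inv_apply, h k (by omega), inv_mul_cancel]
    rw [hs, L.Phi_single] at hd
    have h3 : p⁻¹ * p' = 1 := by
      rw [hs, show (p⁻¹ * p') 3 = 1 from Subtype.ext hd, Pi.mulSingle_one]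
    exact inv_mul_eq_one.1 h3
  let fix3 : (Fin 3 → Fin 2) → L.PP := fun a => q a * Pi.mulSingle 3 ⟨(L.Phi (q a))⁻¹, by
    rcases L.mem_Zt.1 (inv_mem (L.Phi_Zt (p := q a) fun i => by
      simp only [q]
      split
      · exact pow_mem (mem_zpowers _) _
      · exact one_mem _)) with e | e <;> rw [e]
    exacts [one_mem _, L.t_mem_P4 3]⟩
  have hfix : ∀ a, L.Phi (fix3 a) = 1 := fun a => by
    simp only [fix3, map_mul, L.Phi_single]; exact mul_inv_cancel _
  have hfix3 : ∀ a (i : Fin 4) (h : i.val < 3), ((fix3 a) i : G) = z (a ⟨i.val, h⟩) := fun a i h => by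
    simp only [fix3, Pi.mul_apply, Pi.mulSingle_eq_of_ne (show i ≠ 3 by omega), mul_one, q, dif_pos h]
  have hker : Nat.card L.Phi.ker = 8 := by
    have hb : Function.Bijective fun a : Fin 3 → Fin 2 => (⟨fix3 a, hfix a⟩ : L.Phi.ker) := by
      constructor
      · intro a b h
        funext k
        have e := congrArg (fun p : L.PP => (p ⟨k.val, by omega⟩ : G)) (congrArg Subtype.val h)
        simp only at e
        rw [hfix3 a _ k.isLt, hfix3 b _ k.isLt] at e
        exact hzinj e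
      · rintro ⟨p, hp⟩
        have hmem : ∀ i, (p i : G) ∈ L.Zt := L.Phi_mem_Zt (by rw [MonoidHom.mem_ker.1 hp]; exact one_mem _)
        choose a ha using fun k : Fin 3 => hzs (hmem ⟨k.val, by omega⟩)
        refine ⟨a, Subtype.ext (hrest _ (hfix a) _ hp fun i hi => Subtype.ext ?_)⟩
        rw [hfix3 a i hi, ha]
    rw [← Nat.card_eq_of_bijective _ hb]
    simp
  have := L.Phi.ker.card_mul_index
  rw [Subgroup.index_ker, L.Phi_range, hker, hPP] at this
  omega

theorem center_P4 {i : Fin 4} {z : G} (hz : z ∈ L.P4 i) (hc : ∀ y ∈ L.P4 i, z * y = y * z) : z ∈ L.Zt := by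
  classical
  by_contra hne
  obtain ⟨j, hj⟩ := exists_ne i
  have hv := (cp_facts j).2.2
  set g := L.el (cp j) with hg
  set p : L.PP := Pi.mulSingle i ⟨z, hz⟩ with hp
  have hpi : (p i : G) = z := by rw [hp, Pi.mulSingle_eq_same]
  have ho := L.disp_out (p := p) hj (by rw [hpi]; exact hne)
  rw [disp_coe, hpi, ← hg] at ho
  have hz' : g * z * g⁻¹ ∈ L.P4 i := L.P4_inv i _ hv z hz
  have hzz : z * z = L.t := by
    rcases L.mem_Zt.1 (L.P4_sq hz) with e | e
    · exact absurd (L.mem_Zt.2 (L.P4_invol hz e)) hne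
    · exact e
  have htg : g * L.t * g⁻¹ = L.t := by rw [← (L.t_plane hv).eq, mul_inv_cancel_right]
  refine ho (L.mem_Zt.2 (L.P4_invol ((L.P4 i).mul_mem ((L.P4 i).inv_mem hz) hz') ?_))
  have e : z * (g * z * g⁻¹) = g * z * g⁻¹ * z := hc _ hz'
  calc z⁻¹ * (g * z * g⁻¹) * (z⁻¹ * (g * z * g⁻¹)) = z⁻¹ * ((g * z * g⁻¹) * z⁻¹) * (g * z * g⁻¹) := by group
    _ = z⁻¹ * (z⁻¹ * (g * z * g⁻¹)) * (g * z * g⁻¹) := by rw [(Commute.inv_left (show Commute z _ from e)).eq]
    _ = (z * z)⁻¹ * (g * (z * z) * g⁻¹) := by group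
    _ = 1 := by rw [hzz, htg, inv_mul_cancel]

theorem P4_nonabelian (i : Fin 4) : ∃ x ∈ L.P4 i, ∃ y ∈ L.P4 i, x * y ≠ y * x := by
  by_contra h
  push Not at h
  have hle : L.P4 i ≤ L.Zt := fun x hx => L.center_P4 hx (h x hx)
  have := Subgroup.card_le_of_le hle
  rw [L.P4_card, Nat.card_zpowers,
    orderOf_eq_prime (show L.t ^ 2 = 1 by rw [pow_two, L.t_sq]) L.t_ne] at this
  norm_num at this

theorem center_W {x : G} (hx : x ∈ L.W) (hc : ∀ y ∈ L.W, x * y = y * x) : x ∈ L.Zt := by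
  classical
  obtain ⟨p, rfl⟩ := L.W_dec hx
  refine L.Phi_Zt fun i => L.center_P4 (p i).2 fun y hy => ?_
  set s : L.PP := Pi.mulSingle i ⟨y, hy⟩ with hs
  have h1 : L.Phi (p * s * p⁻¹ * s⁻¹) = 1 := by
    rw [map_mul, map_mul, map_mul, map_inv, map_inv, hc _ (L.Phi_mem s)]
    group
  have h2 : p * s * p⁻¹ * s⁻¹ = Pi.mulSingle i (p i * ⟨y, hy⟩ * (p i)⁻¹ * (⟨y, hy⟩ : L.P4 i)⁻¹) := by
    funext k
    by_cases hk : k = i
    · subst hk; simp [hs]
    · simp [hs, hk]
  rw [h2, L.Phi_single] at h1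
  exact mul_inv_eq_iff_eq_mul.1 (mul_inv_eq_one.1 h1)

theorem W_extra : Cfsg.IsExtraspecial 2 L.W := by
  haveI : Fact (Nat.Prime 2) := ⟨Nat.prime_two⟩
  have hmem : ∀ {x : L.W}, x ∈ zpowers (⟨L.t, L.t_mem_W⟩ : L.W) ↔ (x : G) ∈ L.Zt := fun {x} => by
    constructor
    · intro h
      obtain ⟨n, rfl⟩ := mem_zpowers_iff.1 h
      exact zpow_mem (mem_zpowers _) _
    · intro h
      obtain ⟨n, hn⟩ := mem_zpowers_iff.1 h
      exact mem_zpowers_iff.2 ⟨n, Subtype.ext hn⟩
  have hsq : ∀ x : L.W, x ^ 2 ∈ zpowers (⟨L.t, L.t_mem_W⟩ : L.W) := fun x =>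
    hmem.2 (by rw [pow_two]; exact L.W_sq x.2)
  have htc : ∀ y ∈ L.W, Commute y L.t := fun y hy => mem_centralizer_singleton_iff.1 (L.W_le hy)
  have hzc : ∀ {z : G}, z ∈ L.Zt → ∀ y ∈ L.W, z * y = y * z := fun hz y hy => by
    rcases L.mem_Zt.1 hz with rfl | rfl
    · simp
    · exact (htc y hy).eq.symm
  refine LargeExtra.isExtraspecial_of (IsPGroup.of_card (n := 9) (by rw [L.card_W]; norm_num))
    (z := ⟨L.t, L.t_mem_W⟩) ?_ (fun x => ?_) (fun x y => ?_) hsq ?_
  · rw [← Subgroup.orderOf_coe]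
    exact orderOf_eq_prime (by rw [pow_two]; exact L.t_sq) L.t_ne
  · rw [hmem]
    exact ⟨fun h => L.center_W x.2 fun y hy => congrArg Subtype.val (h ⟨y, hy⟩),
      fun h y => Subtype.ext (hzc h y y.2)⟩
  · have e : ⁅x, y⁆ = x ^ 2 * (x⁻¹ * y) ^ 2 * (y⁻¹) ^ 2 := by
      rw [commutatorElement_def, pow_two, pow_two, pow_two]; group
    rw [e]
    exact mul_mem (mul_mem (hsq _) (hsq _)) (hsq _)
  · obtain ⟨x, hx, y, hy, hne⟩ := L.P4_nonabelian 0
    exact ⟨⟨x, L.P4_le_W 0 hx⟩, ⟨y, L.P4_le_W 0 hy⟩, fun e => hne (congrArg Subtype.val e)⟩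

end Loc

end Cfsg.Agent.Co2Three
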