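import Cfsg.Agent.Lib.Co2Three.W.Frame

/-!
The quaternion groups of the second reflection at the two points orthogonal to both: they normalise `W` and meet it
trivially.
-/

set_option autoImplicit false
set_option maxRecDepth 20000
set_option linter.style.haveILetI false
set_option linter.unusedSectionVars false

namespace Cfsg.Agent.Co2Three

open Subgroup

theorem two_points : ((0 : Fin 4) ≠ 1) ∧ cp 1 = e3 ∧ bf e3 (cp 0) ≠ 0 ∧ bf e0 (cp 1) ≠ 0 ∧
    (mp 1).mulVec e0 = e3 ∧ (mp 1).mulVec e3 = e0 := by decide +kernel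

namespace Loc

variable {G : Type*} [Group G] [Finite G] (L : Loc G) {r m : G}

/-- The data of the second reflection. -/
structure IsM (r m : G) : Prop where
  isR : L.IsR r
  conj : m * L.t * m⁻¹ = r
  act : ∀ v, m * L.el v * m⁻¹ = L.el (M12.mulVec v)

theorem exists_isM (hr : L.IsR r) : ∃ m, L.IsM r m := by
  obtain ⟨m, h1, h2⟩ := L.exists_conj_t hr
  exact ⟨m, hr, h1, h2⟩

/-- The swap of the two points. -/
theorem swap_norm : L.gp 1 ∈ normalizer (L.W : Set G) :=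
  L.norm_plane (mem_centralizer_singleton_iff.2 (L.gp_t 1).eq) fun v hv =>
    ⟨_, (mp_bf 1 v).2.2 hv, L.gp_act 1 v⟩

/-- Only the quaternion group at the second point is centralised by it. -/
theorem fix_point1 {x : G} (hx : x ∈ L.W) (hc : Commute x (L.el e3)) : x ∈ L.P4 1 := by
  refine L.mem_P4.2 (L.fix_point ?_ ?_)
  · refine (mem_normalizer_iff.1 L.swap_norm _).2 ?_
    rwa [show L.gp 1 * ((L.gp 1)⁻¹ * x * L.gp 1) * (L.gp 1)⁻¹ = x by group]
  · rw [← two_points.2.2.2.2.1, ← L.gp_act] at hc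
    have := hc.conj (L.gp 1)⁻¹
    simpa [mul_assoc] using this

theorem r_notMem_W (hr : L.IsR r) : r ∉ L.W := fun h => by
  have hc := mul_mem ((mem_normalizer_iff.1 (L.plane_norm e_facts.2.1) r).1 h) (inv_mem h)
  have e : L.el e2 * r * (L.el e2)⁻¹ * r⁻¹ = L.el (e2 + e2) := by
    rw [show L.el e2 * r * (L.el e2)⁻¹ * r⁻¹ = L.el e2 * (r * L.el e2 * r⁻¹)⁻¹ by group, hr.act,
      M12_facts.2.2.2.2.2.1, L.el_neg, inv_inv, L.el_add]
  rw [e] at hc
  have := Subgroup.orderOf_dvd_natCard L.W hc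
  rw [L.el_order M12_facts.2.2.2.2.2.2.1, L.card_W] at this
  norm_num at this

theorem r_ne_one (hr : L.IsR r) : r ≠ 1 := fun h => L.r_notMem_W hr (h ▸ one_mem _)

theorem r_ne_t (hr : L.IsR r) : r ≠ L.t := fun h => L.r_notMem_W hr (h ▸ L.t_mem_W)

theorem t_fixes (hr : L.IsR r) {v : V4} (h : v = e0 ∨ v = e3) : Commute r (L.el v) := by
  refine mul_inv_eq_iff_eq_mul.1 ?_
  rw [hr.act]
  rcases h with rfl | rfl <;> exact congrArg L.el (by decide +kernel)

/-- The pair of quaternion groups of the second reflection. -/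
noncomputable def R' (m : G) : Subgroup G := L.R.map (MulAut.conj m).toMonoidHom

/-- One of them. -/
noncomputable def P' (m : G) (i : Fin 4) : Subgroup G := (L.P4 i).map (MulAut.conj m).toMonoidHom

variable (hm : L.IsM r m)
include hm

theorem IsM.fix_pt {v : V4} (h : v = e0 ∨ v = e3) : m * L.el v * m⁻¹ = L.el v := by
  rw [hm.act]; rcases h with rfl | rfl <;> simp [M12_facts.2.1, M12_facts.2.2.1]

theorem P'_invol {i : Fin 4} {x : G} (hx : x ∈ L.P' m i) :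
    (x * x = 1 ∨ x * x = r) ∧ (x * x = 1 → x = 1 ∨ x = r) := by
  obtain ⟨p, hp, rfl⟩ := hx
  have one : ∀ {u : G}, u = 1 ∨ u = L.t → m * u * m⁻¹ = 1 ∨ m * u * m⁻¹ = r := by
    rintro u (rfl | rfl)
    exacts [Or.inl (by group), Or.inr hm.conj]
  show (m * p * m⁻¹ * (m * p * m⁻¹) = 1 ∨ _) ∧ (m * p * m⁻¹ * (m * p * m⁻¹) = 1 → m * p * m⁻¹ = 1 ∨ _)
  rw [show m * p * m⁻¹ * (m * p * m⁻¹) = m * (p * p) * m⁻¹ by group]
  refine ⟨?_, fun h => one (L.P4_invol hp (conj_eq_one_iff.1 h))⟩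
  show m * (p * p) * m⁻¹ = 1 ∨ m * p * m⁻¹ * (m * p * m⁻¹) = r
  rw [show m * p * m⁻¹ * (m * p * m⁻¹) = m * (p * p) * m⁻¹ by group]
  exact one (L.mem_Zt.1 (L.P4_sq hp))

theorem meet_P4 {i : Fin 4} {x : G} (hx : x ∈ L.P4 i) (hx' : x ∈ L.P' m i) : x = 1 := by
  obtain ⟨h1, h2⟩ := L.P'_invol hm hx'
  have hsq : x * x = 1 := by
    rcases h1 with h | h
    · exact h
    · rcases L.mem_Zt.1 (L.P4_sq hx) with e | e
      · exact e
      · exact absurd (h.symm.trans e) (L.r_ne_t hm.isR)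
  rcases h2 hsq with e | e
  · exact e
  · rcases L.P4_invol hx hsq with e' | e'
    · exact e'
    · exact absurd (e.symm.trans e') (L.r_ne_t hm.isR)

theorem R'_parts {x : G} (hx : x ∈ L.R' m) :
    ∃ a ∈ L.P' m 0, ∃ b ∈ L.P' m 1, x = a * b ∧ Commute a b := by
  obtain ⟨y, hy, rfl⟩ := hx
  obtain ⟨p, hp, q, hq, rfl⟩ := L.mem_R.1 hy
  refine ⟨m * p * m⁻¹, ⟨p, hp, rfl⟩, m * q * m⁻¹, ⟨q, hq, rfl⟩, ?_, (L.P4_pair two_points.1 hp hq).conj m⟩
  show m * (p * q) * m⁻¹ = _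
  group

theorem P'_le_R' {i : Fin 4} (hi : i = 0 ∨ i = 1) : L.P' m i ≤ L.R' m := by
  rintro _ ⟨p, hp, rfl⟩
  refine ⟨p, ?_, rfl⟩
  rcases hi with rfl | rfl
  · exact L.mem_R.2 ⟨p, hp, 1, one_mem _, mul_one p⟩
  · exact L.mem_R.2 ⟨1, one_mem _, p, hp, one_mul p⟩

theorem P'_comm0 {x : G} (hx : x ∈ L.P' m 0) : Commute x (L.el e0) := by
  obtain ⟨p, hp, rfl⟩ := hx
  rw [← hm.fix_pt L (Or.inl rfl)]
  exact (show Commute p (L.el (cp 0)) from mem_centralizer_singleton_iff.1 (mem_inf.1 (L.P4_le 0 hp)).1).conj m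

theorem P'_comm1 {x : G} (hx : x ∈ L.P' m 1) : Commute x (L.el e3) := by
  obtain ⟨p, hp, rfl⟩ := hx
  rw [← hm.fix_pt L (Or.inr rfl), ← two_points.2.1]
  exact (show Commute p (L.el (cp 1)) from mem_centralizer_singleton_iff.1 (mem_inf.1 (L.P4_le 1 hp)).1).conj m

theorem R'_comm_r {x : G} (hx : x ∈ L.R' m) : Commute x r := by
  obtain ⟨y, hy, rfl⟩ := hx
  rw [← hm.conj]
  exact (show Commute y L.t from mem_centralizer_singleton_iff.1 (mem_inf.1 (L.R_le_Dx hy)).2).conj m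

theorem R'_comm_t {x : G} (hx : x ∈ L.R' m) : Commute x L.t := by
  obtain ⟨y, hy, rfl⟩ := hx
  set g := m⁻¹ * L.t * m with hg
  have gm : m * g * m⁻¹ = L.t := by rw [hg]; group
  have fixed : ∀ {v : V4}, v = e0 ∨ v = e3 → Commute g (L.el v) := fun {v} hv => by
    have hv1 : v 1 = 0 := by rcases hv with rfl | rfl; exacts [e_facts.1, e_facts.2.2.1]
    have := (L.t_plane hv1).conj m⁻¹
    rw [inv_inv, ← hg] at this
    rwa [show m⁻¹ * L.el v * m = L.el v by conv_lhs => rw [← hm.fix_pt L hv]; simp [mul_assoc]] at this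
  have gt : Commute g L.t := by
    have := hm.isR.comm.symm.conj m⁻¹
    rw [inv_inv, ← hm.conj] at this
    simpa [mul_assoc, hg] using this
  have hc := (L.R_fixed (g := g) (by
    rw [hg, show m⁻¹ * L.t * m * (m⁻¹ * L.t * m) = m⁻¹ * (L.t * L.t) * m by group, L.t_sq]; group)
    gt (fixed (Or.inl rfl)) (fixed (Or.inr rfl)) hy).conj m
  rw [gm] at hc
  exact hc.symm

theorem R'_inv {v : V4} (hv : v = e0 ∨ v = e3) {x : G} (hx : x ∈ L.R' m) :
    L.el v * x * (L.el v)⁻¹ ∈ L.R' m := by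
  obtain ⟨y, hy, rfl⟩ := hx
  have hv1 : v 1 = 0 := by rcases hv with rfl | rfl; exacts [e_facts.1, e_facts.2.2.1]
  refine ⟨_, L.R_inv v hv1 y hy, ?_⟩
  conv_rhs => rw [← hm.fix_pt L hv]
  simp [mul_assoc]

theorem P'_inv {v : V4} (hv : v = e0 ∨ v = e3) {i : Fin 4} {x : G} (hx : x ∈ L.P' m i) :
    L.el v * x * (L.el v)⁻¹ ∈ L.P' m i := by
  obtain ⟨y, hy, rfl⟩ := hx
  have hv1 : v 1 = 0 := by rcases hv with rfl | rfl; exacts [e_facts.1, e_facts.2.2.1]
  refine ⟨_, L.P4_inv i v hv1 y hy, ?_⟩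
  conv_rhs => rw [← hm.fix_pt L hv]
  simp [mul_assoc]

theorem P'_move0 {x : G} (hx : x ∈ L.P' m 0) (hc : Commute x (L.el e3)) : x = 1 ∨ x = r := by
  obtain ⟨p, hp, rfl⟩ := hx
  rw [← hm.fix_pt L (Or.inr rfl)] at hc
  have h := hc.conj m⁻¹
  rcases L.P4_move hp e_facts.2.2.1 two_points.2.2.1 (by simpa [mul_assoc] using h) with rfl | rfl
  · left; simp
  · right; exact hm.conj

theorem P'_move1 {x : G} (hx : x ∈ L.P' m 1) (hc : Commute x (L.el e0)) : x = 1 ∨ x = r := by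
  obtain ⟨p, hp, rfl⟩ := hx
  rw [← hm.fix_pt L (Or.inl rfl)] at hc
  have h := hc.conj m⁻¹
  rcases L.P4_move hp e_facts.1 two_points.2.2.2.1 (by simpa [mul_assoc] using h) with rfl | rfl
  · left; simp
  · right; exact hm.conj

theorem R'_norm : L.R' m ≤ normalizer (L.W : Set G) := by
  intro x hx
  obtain ⟨a, ha, b, hb, rfl, -⟩ := L.R'_parts hm hx
  refine mul_mem (L.cent_singular (mem_inf.2 ⟨mem_centralizer_singleton_iff.2 (L.P'_comm0 hm ha).eq,
    mem_centralizer_singleton_iff.2 (L.R'_comm_t hm (L.P'_le_R' hm (Or.inl rfl) ha)).eq⟩)) ?_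
  set σ := L.gp 1 with hσ
  have h : σ⁻¹ * b * σ ∈ centralizer ({L.el e0} : Set G) ⊓ centralizer {L.t} := by
    refine mem_inf.2 ⟨mem_centralizer_singleton_iff.2 ?_, mem_centralizer_singleton_iff.2 ?_⟩
    · have h3 := L.P'_comm1 hm hb
      rw [← two_points.2.2.2.2.1, ← L.gp_act] at h3
      have := h3.conj σ⁻¹
      simpa [mul_assoc, hσ] using this.eq
    · have := (L.R'_comm_t hm (L.P'_le_R' hm (Or.inr rfl) hb)).conj σ⁻¹
      rw [inv_inv, show σ⁻¹ * L.t * σ = L.t by rw [mul_assoc, ← (L.gp_t 1).eq, inv_mul_cancel_left]] at this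
      exact this.eq
  have := mul_mem (mul_mem L.swap_norm (L.cent_singular h)) (inv_mem L.swap_norm)
  rwa [← hσ, show σ * (σ⁻¹ * b * σ) * σ⁻¹ = b by group] at this

/-- They meet `W` trivially. -/
theorem meet_W {x : G} (hx : x ∈ L.W) (hx' : x ∈ L.R' m) : x = 1 := by
  obtain ⟨a, ha, b, hb, rfl, hab⟩ := L.R'_parts hm hx'
  have a0 := L.P'_comm0 hm ha
  have b3 := L.P'_comm1 hm hb
  have hA : Commute a (L.el e3) := by
    have hcW := mul_mem ((mem_normalizer_iff.1 (L.plane_norm e_facts.2.2.1) _).1 hx) (inv_mem hx)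
    rw [show L.el e3 * (a * b) * (L.el e3)⁻¹ * (a * b)⁻¹ = L.el e3 * a * (b * (L.el e3)⁻¹) * b⁻¹ * a⁻¹ by group,
      b3.inv_right.eq, ← mul_assoc (L.el e3 * a), mul_inv_cancel_right] at hcW
    have hc0 : Commute (L.el e3 * a * (L.el e3)⁻¹ * a⁻¹) (L.el e0) :=
      (((L.el_comm e3 e0).mul_left a0).mul_left (L.el_comm e3 e0).inv_left).mul_left a0.inv_left
    have h1 := L.meet_P4 hm (by rw [L.P4_zero]; exact L.fix_point hcW hc0)
      (mul_mem (L.P'_inv hm (Or.inr rfl) ha) (inv_mem ha))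
    rw [mul_inv_eq_one, mul_inv_eq_iff_eq_mul] at h1
    exact h1.symm
  have hB : Commute b (L.el e0) := by
    have hcW := mul_mem ((mem_normalizer_iff.1 (L.plane_norm e_facts.1) _).1 hx) (inv_mem hx)
    rw [hab.eq, show L.el e0 * (b * a) * (L.el e0)⁻¹ * (b * a)⁻¹ = L.el e0 * b * (a * (L.el e0)⁻¹) * a⁻¹ * b⁻¹ by
      group, a0.inv_right.eq, ← mul_assoc (L.el e0 * b), mul_inv_cancel_right] at hcW
    have hc3 : Commute (L.el e0 * b * (L.el e0)⁻¹ * b⁻¹) (L.el e3) :=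
      (((L.el_comm e0 e3).mul_left b3).mul_left (L.el_comm e0 e3).inv_left).mul_left b3.inv_left
    have h1 := L.meet_P4 hm (L.fix_point1 hcW hc3) (mul_mem (L.P'_inv hm (Or.inl rfl) hb) (inv_mem hb))
    rw [mul_inv_eq_one, mul_inv_eq_iff_eq_mul] at h1
    exact h1.symm
  have hr1 := L.r_notMem_W hm.isR
  rcases L.P'_move0 hm ha hA with rfl | rfl <;> rcases L.P'_move1 hm hb hB with rfl | rfl
  · exact mul_one 1
  · exact absurd (by simpa using hx) hr1
  · exact absurd (by simpa using hx) hr1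
  · exact hm.isR.sq

end Loc

end Cfsg.Agent.Co2Three
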