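import Cfsg.Agent.Lib.Co2Three.W.Inner
import Cfsg.Agent.Lib.Co2Three.W.Pair

/-!
The centraliser of the two reflections: the negation on the interior point, and at each of the four lines orthogonal
to both a core with the points of the line and the two maps on top.
-/

set_option autoImplicit false
set_option maxRecDepth 20000
set_option synthInstance.maxSize 1000
set_option linter.style.haveILetI false
set_option linter.unusedSectionVars false

namespace Cfsg.Agent.Co2Three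

open Subgroup

theorem sx3_facts : (∀ v, (sx 3).mulVec v = reflv ci v) ∧ reflv ci ci = -ci ∧ reflv ci ec = ec ∧
    (∀ v, reflv ci (refl2 v) = refl2 (reflv ci v)) ∧ (∀ v, reflv ci (reflc v) = reflc (reflv ci v)) ∧
    (∀ u, reflc u = -u → refl2 u = u ∧ u 1 = 0) ∧ (∀ u, refl2 u = -u → reflc u = u ∧ u 1 = 0) ∧
    (∀ u, refl2 (refl2 u) = u ∧ reflc (reflc u) = u) ∧ (∀ v, reflv ci (reflv ci v) = v) := by decide +kernel

theorem L_facts : e0 = -(ci + ec) ∧ e3 = -(ci - ec) ∧ reflc ec = -ec ∧ reflc ci = ci ∧ reflc e0 = e3 ∧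
    ci 1 = 0 ∧ ci 2 = 0 ∧ ec 1 = 0 ∧ ec 2 = 0 ∧ reflc e3 = e0 ∧ (∀ v : V4, v 1 = 0 → reflc v 1 = 0) ∧
    (∀ v : V4, v 2 = 0 → reflc v 2 = 0) := by decide +kernel

theorem L_fix : ∀ v : V4, v 2 = 0 → refl2 v = v := by decide +kernel

theorem L_vec : ∀ v : V4, v 1 = 0 → v 2 = 0 → ∃ i j : ZMod 3, v = i • e0 + j • e3 := by decide +kernel

namespace Loc

variable {G : Type*} [Group G] [Finite G] (L : Loc G) {r s y n : G}

/-- The group of the two reflections. -/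
def Zg (r : G) (hr : L.IsR r) : Subgroup G where
  carrier := {x | ∃ a b : ℕ, x = L.t ^ a * r ^ b}
  one_mem' := ⟨0, 0, by simp⟩
  mul_mem' := by
    rintro _ _ ⟨a, b, rfl⟩ ⟨c, d, rfl⟩
    refine ⟨a + c, b + d, ?_⟩
    have h : Commute (r ^ b) (L.t ^ c) := hr.comm.pow_pow b c
    rw [pow_add, pow_add]
    calc _ = L.t ^ a * (r ^ b * L.t ^ c) * r ^ d := by group
      _ = _ := by rw [h.eq]; group
  inv_mem' := by
    rintro _ ⟨a, b, rfl⟩
    refine ⟨a, b, ?_⟩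
    rw [_root_.mul_inv_rev, ← inv_pow, ← inv_pow, L.t_inv, inv_eq_of_mul_eq_one_right hr.sq]
    exact (hr.comm.pow_pow b a).eq

/-- The centraliser of the two reflections. -/
abbrev Cg (r : G) : Subgroup G := centralizer ({L.t} : Set G) ⊓ centralizer {r}

theorem mem_Cg {x : G} : x ∈ L.Cg r ↔ Commute x L.t ∧ Commute x r :=
  ⟨fun h => ⟨mem_centralizer_singleton_iff.1 (mem_inf.1 h).1, mem_centralizer_singleton_iff.1 (mem_inf.1 h).2⟩,
    fun h => mem_inf.2 ⟨mem_centralizer_singleton_iff.2 h.1.eq, mem_centralizer_singleton_iff.2 h.2.eq⟩⟩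

theorem el_mem_Cg (hr : L.IsR r) {v : V4} (h1 : v 1 = 0) (h2 : v 2 = 0) : L.el v ∈ L.Cg r :=
  L.mem_Cg.2 ⟨(L.t_plane h1).symm, (mul_inv_eq_iff_eq_mul.1 (by
    rw [hr.act]; exact congrArg L.el (L_fix v h2))).symm⟩

theorem Zg_le (hr : L.IsR r) : L.Zg r hr ≤ L.Cg r := by
  rintro _ ⟨a, b, rfl⟩
  exact L.mem_Cg.2 ⟨((Commute.refl L.t).pow_left a).mul_left (hr.comm.pow_left b),
    (hr.comm.symm.pow_left a).mul_left ((Commute.refl r).pow_left b)⟩

theorem Zg_central (hr : L.IsR r) {z x : G} (hz : z ∈ L.Zg r hr) (hx : x ∈ L.Cg r) : Commute z x := by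
  obtain ⟨a, b, rfl⟩ := hz
  obtain ⟨xt, xr⟩ := L.mem_Cg.1 hx
  exact (xt.symm.pow_left a).mul_left (xr.symm.pow_left b)

theorem Zg_sq (hr : L.IsR r) {z : G} (hz : z ∈ L.Zg r hr) : z * z = 1 := by
  obtain ⟨a, b, rfl⟩ := hz
  have h : Commute (L.t ^ a) (r ^ b) := (hr.comm.pow_pow b a).symm
  calc L.t ^ a * r ^ b * (L.t ^ a * r ^ b) = L.t ^ a * (r ^ b * L.t ^ a) * r ^ b := by group
    _ = (L.t * L.t) ^ a * (r * r) ^ b := by
      rw [← h.eq, (Commute.refl L.t).mul_pow, (Commute.refl r).mul_pow]; group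
    _ = 1 := by rw [L.t_sq, hr.sq, one_pow, one_pow, one_mul]

theorem t_mem_Zg (hr : L.IsR r) : L.t ∈ L.Zg r hr := ⟨1, 0, by simp⟩

theorem r_mem_Zg (hr : L.IsR r) : r ∈ L.Zg r hr := ⟨0, 1, by simp⟩

theorem Zt_le_Zg (hr : L.IsR r) : L.Zt ≤ L.Zg r hr := zpowers_le.2 (L.t_mem_Zg hr)

/-- Conjugation fixing a point up to the reflections fixes it. -/
theorem cent_lift (hr : L.IsR r) {x : G} (_hx : x ∈ L.Cg r) {u w : V4} (hu1 : u 1 = 0) (hu2 : u 2 = 0) {z : G}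
    (hz : z ∈ L.Zg r hr) (h : x * L.el w * x⁻¹ = z * L.el u) : z = 1 := by
  have hc : Commute z (L.el u) := L.Zg_central hr hz (L.el_mem_Cg hr hu1 hu2)
  have h3 : z ^ 3 = 1 := by
    have e := conj_pow (a := x) (b := L.el w) (i := 3)
    rw [h, hc.mul_pow, L.el_cube, L.el_cube, mul_one, mul_one, mul_inv_cancel] at e
    exact e
  calc z = z * z * z := by rw [L.Zg_sq hr hz, one_mul]
    _ = 1 := by rw [← h3, pow_three']

/-- Correcting an element by a point so that it commutes with a reflection. -/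
theorem exists_fix {a g : G} {f h : V4 → V4} (a2 : a * a = 1) (aact : ∀ v, a * L.el v * a⁻¹ = L.el (f v))
    (gact : ∀ v, g * L.el v * g⁻¹ = L.el (h v)) (hinv : ∀ v, h (h v) = v) (hf : ∀ v, f (f v) = v)
    (hfh : ∀ v, h (f v) = f (h v)) :
    ∃ u, f u = -u ∧ Commute (L.el u * g) a := by
  have ai : a⁻¹ = a := inv_eq_of_mul_eq_one_right a2
  set b := g * a * g⁻¹ with hb
  have bact : ∀ v, b * L.el v * b⁻¹ = L.el (f v) := fun v => by
    calc b * L.el v * b⁻¹ = g * (a * (g⁻¹ * L.el v * g) * a⁻¹) * g⁻¹ := by rw [hb]; group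
      _ = g * (a * L.el (h v) * a⁻¹) * g⁻¹ := by
        rw [show g⁻¹ * L.el v * g = L.el (h v) by
          calc g⁻¹ * L.el v * g = g⁻¹ * (g * L.el (h v) * g⁻¹) * g := by rw [gact, hinv]
            _ = _ := by group]
      _ = _ := by rw [aact, gact, hfh, hinv]
  obtain ⟨u, hu⟩ := L.cent_J (b * a) fun v => by
    refine mul_inv_eq_iff_eq_mul.1 ?_
    rw [show b * a * L.el v * (b * a)⁻¹ = b * (a * L.el v * a⁻¹) * b⁻¹ by group, aact, bact, hf]
  have b2 : b * b = 1 := by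
    rw [hb, show g * a * g⁻¹ * (g * a * g⁻¹) = g * (a * a) * g⁻¹ by group, a2]; group
  have hbu : b = L.el u * a := by rw [← hu, mul_assoc, a2, mul_one]
  have hfu : f u = -u := L.el_inj (by
    rw [L.el_neg, ← aact]
    refine eq_inv_of_mul_eq_one_right ?_
    rw [← b2, hbu, ai]
    group)
  have hneg : f (-u) = -f u := L.el_inj (by rw [← aact, L.el_neg, L.el_neg, ← aact]; group)
  refine ⟨u, hfu, mul_inv_eq_iff_eq_mul.1 ?_⟩
  calc L.el u * g * a * (L.el u * g)⁻¹ = L.el u * b * (L.el u)⁻¹ := by rw [hb]; group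
    _ = L.el u * L.el u * (a * (L.el u)⁻¹ * a⁻¹) * a := by rw [hbu]; group
    _ = L.el u * L.el u * L.el u * a := by rw [← L.el_neg, aact, show f (-u) = u by rw [hneg, hfu, neg_neg]]
    _ = a := by rw [← pow_three', L.el_cube, one_mul]

/-- The negation of the interior point. -/
structure IsNeg (r s n : G) : Prop where
  comm : Commute n L.t
  comm_r : Commute n r
  comm_s : Commute n s
  act : ∀ v, n * L.el v * n⁻¹ = L.el (reflv ci v)
  sq : n * n ∈ L.Zt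

theorem exists_neg (hr : L.IsR r) (hs : L.IsS s) : ∃ n, L.IsNeg r s n := by
  obtain ⟨-, -, -, fr, fc, uc, ur, inv2, invn⟩ := sx3_facts
  set g := L.gk 3 with hg
  have gact : ∀ v, g * L.el v * g⁻¹ = L.el (reflv ci v) := fun v => by rw [L.gk_act, sx3_facts.1]
  obtain ⟨u, hu, hcr⟩ := L.exists_fix hr.sq hr.act gact invn (fun v => (inv2 v).1) fr
  obtain ⟨hu', hu1⟩ := ur u hu
  set g1 := L.el u * g with hg1
  have g1act : ∀ v, g1 * L.el v * g1⁻¹ = L.el (reflv ci v) := fun v => by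
    rw [hg1, show L.el u * g * L.el v * (L.el u * g)⁻¹ = L.el u * (g * L.el v * g⁻¹) * (L.el u)⁻¹ by group,
      gact, (L.el_comm u _).eq, mul_inv_cancel_right]
  obtain ⟨w, hw, hcs⟩ := L.exists_fix hs.sq hs.act g1act invn (fun v => (inv2 v).2) fc
  obtain ⟨hw', hw1⟩ := uc w hw
  set g2 := L.el w * g1 with hg2
  have c2r : Commute g2 r := by
    refine (Commute.mul_left ?_ hcr)
    exact (mul_inv_eq_iff_eq_mul.1 (by rw [hr.act, hw'])).symm
  have c2t : Commute g2 L.t := (L.t_plane hw1).symm.mul_left ((L.t_plane hu1).symm.mul_left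
    (mem_centralizer_singleton_iff.1 (L.gk_t 3)))
  have g2act : ∀ v, g2 * L.el v * g2⁻¹ = L.el (reflv ci v) := fun v => by
    rw [hg2, show L.el w * g1 * L.el v * (L.el w * g1)⁻¹ = L.el w * (g1 * L.el v * g1⁻¹) * (L.el w)⁻¹ by group,
      g1act, (L.el_comm w _).eq, mul_inv_cancel_right]
  obtain ⟨z, hz, hzz⟩ := L.cent_plane (g := g2 * g2)
    (mem_centralizer_singleton_iff.2 (c2t.mul_left c2t).eq) fun v _ => mul_inv_eq_iff_eq_mul.1 (by
      rw [show g2 * g2 * L.el v * (g2 * g2)⁻¹ = g2 * (g2 * L.el v * g2⁻¹) * g2⁻¹ by group, g2act, g2act, invn])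
  set n := g2 * (g2 * g2) with hn
  refine ⟨n, c2t.mul_left (c2t.mul_left c2t), c2r.mul_left (c2r.mul_left c2r), hcs.mul_left (hcs.mul_left hcs),
    fun v => ?_, ?_⟩
  · rw [show n * L.el v * n⁻¹ = g2 * (g2 * (g2 * L.el v * g2⁻¹) * g2⁻¹) * g2⁻¹ by rw [hn]; group,
      g2act, g2act, g2act, invn]
  · rw [show n * n = (g2 * g2) ^ 3 by rw [hn, pow_three]; group]
    rcases hzz with e | e <;> rw [e]
    · rw [L.el_cube]; exact one_mem _
    · rw [(show Commute L.t (L.el z) from L.t_plane hz).mul_pow, L.el_cube, mul_one]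
      exact pow_mem (mem_zpowers _) _

/-- The data at the interior point. -/
structure Data (r s y n : G) : Prop where
  inner : L.IsInner r s y
  neg : L.IsNeg r s n

variable (V : L.Data r s y n)
include V

theorem el_Cg {v : V4} (h1 : v 1 = 0) (h2 : v 2 = 0) : L.el v ∈ L.Cg r := L.el_mem_Cg V.inner.isR h1 h2

theorem s_mem_Cg : s ∈ L.Cg r := L.mem_Cg.2 ⟨V.inner.isS.comm, V.inner.rs.symm⟩

theorem n_mem_Cg : n ∈ L.Cg r := L.mem_Cg.2 ⟨V.neg.comm, V.neg.comm_r⟩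

theorem s_inv : s⁻¹ = s := inv_eq_of_mul_eq_one_right V.inner.isS.sq

theorem s_plane : L.PlaneN s := fun v hv => ⟨_, L_facts.2.2.2.2.2.2.2.2.2.2.1 v hv, V.inner.isS.act v⟩

theorem s_norm : s ∈ normalizer (L.W : Set G) :=
  L.norm_plane (mem_centralizer_singleton_iff.2 V.inner.isS.comm.eq) (L.s_plane V)

theorem n_plane : L.PlaneN n :=
  PlaneN.of L (mem_centralizer_singleton_iff.2 V.neg.comm.eq) fun v _ => ⟨_, V.neg.act v⟩

/-- The conjugates of the moving involution. -/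
def y1 (_V : L.Data r s y n) : G := L.el ec * y * (L.el ec)⁻¹

/-- The conjugates of the moving involution. -/
def y2 (_V : L.Data r s y n) : G := L.el ec * (L.el ec * y * (L.el ec)⁻¹) * (L.el ec)⁻¹

theorem y_Cg : y ∈ L.Cg r := L.mem_Cg.2 ⟨V.inner.y_t, V.inner.y_r⟩

theorem y12_Cg : L.y1 V ∈ L.Cg r ∧ L.y2 V ∈ L.Cg r := by
  have hc := L.el_Cg V L_facts.2.2.2.2.2.2.2.1 L_facts.2.2.2.2.2.2.2.2.1
  have h1 : L.y1 V ∈ L.Cg r := mul_mem (mul_mem hc (L.y_Cg V)) (inv_mem hc)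
  exact ⟨h1, mul_mem (mul_mem hc h1) (inv_mem hc)⟩

theorem y_cycle : L.el ec * L.y2 V * (L.el ec)⁻¹ = y := by
  calc L.el ec * L.y2 V * (L.el ec)⁻¹ = L.el ec ^ 3 * y * (L.el ec ^ 3)⁻¹ := by rw [y2, pow_three]; group
    _ = y := by rw [L.el_cube]; group

theorem y_rel : L.y1 V * L.y1 V = 1 ∧ L.y2 V * L.y2 V = 1 ∧ y * L.y1 V = L.y2 V ∧ L.y1 V * y = L.y2 V ∧
    y * L.y2 V = L.y1 V ∧ L.y2 V * y = L.y1 V ∧ L.y1 V * L.y2 V = y ∧ L.y2 V * L.y1 V = y := by
  have a1 : L.y1 V * L.y1 V = 1 := by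
    calc L.y1 V * L.y1 V = L.el ec * (y * y) * (L.el ec)⁻¹ := by rw [y1]; group
      _ = 1 := by rw [V.inner.y_sq]; group
  have a2 : L.y2 V * L.y2 V = 1 := by
    calc L.y2 V * L.y2 V = L.el ec * (L.y1 V * L.y1 V) * (L.el ec)⁻¹ := by rw [y2, y1]; group
      _ = 1 := by rw [a1]; group
  have b1 : y * L.y1 V = L.y2 V := V.inner.y_prod
  have b2 : L.y1 V * y = L.y2 V := V.inner.y_prod'
  refine ⟨a1, a2, b1, b2, ?_, ?_, ?_, ?_⟩
  · rw [← b1, ← mul_assoc, V.inner.y_sq, one_mul]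
  · rw [← b2, mul_assoc, V.inner.y_sq, mul_one]
  · rw [← b2, ← mul_assoc, a1, one_mul]
  · rw [← b1, mul_assoc, a1, mul_one]

/-- The core at the interior point. -/
def Kci : Subgroup G where
  carrier := {x | ∃ z ∈ L.Zg r V.inner.isR, x = z ∨ x = z * y ∨ x = z * L.y1 V ∨ x = z * L.y2 V}
  one_mem' := ⟨1, one_mem _, Or.inl rfl⟩
  mul_mem' := by
    rintro _ _ ⟨z, hz, h⟩ ⟨z', hz', h'⟩
    obtain ⟨a1, a2, b1, b2, b3, b4, b5, b6⟩ := L.y_rel V
    obtain ⟨c1, c2⟩ := L.y12_Cg V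
    have cy := (L.Zg_central V.inner.isR hz' (L.y_Cg V)).symm
    have cy1 := (L.Zg_central V.inner.isR hz' c1).symm
    have cy2 := (L.Zg_central V.inner.isR hz' c2).symm
    have mv : ∀ {v w : G}, Commute v z' → z * v * (z' * w) = z * z' * (v * w) := fun {v w} hc => by
      calc z * v * (z' * w) = z * (v * z') * w := by group
        _ = _ := by rw [hc.eq]; group
    have mv0 : ∀ {v : G}, Commute v z' → z * v * z' = z * z' * v := fun {v} hc => by
      rw [mul_assoc, hc.eq, mul_assoc]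
    refine ⟨z * z', mul_mem hz hz', ?_⟩
    rcases h with rfl | rfl | rfl | rfl <;> rcases h' with rfl | rfl | rfl | rfl
    · exact Or.inl rfl
    · exact Or.inr (Or.inl (mul_assoc _ _ _).symm)
    · exact Or.inr (Or.inr (Or.inl (mul_assoc _ _ _).symm))
    · exact Or.inr (Or.inr (Or.inr (mul_assoc _ _ _).symm))
    · exact Or.inr (Or.inl (mv0 cy))
    · exact Or.inl (by rw [mv cy, V.inner.y_sq, mul_one])
    · exact Or.inr (Or.inr (Or.inr (by rw [mv cy, b1])))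
    · exact Or.inr (Or.inr (Or.inl (by rw [mv cy, b3])))
    · exact Or.inr (Or.inr (Or.inl (mv0 cy1)))
    · exact Or.inr (Or.inr (Or.inr (by rw [mv cy1, b2])))
    · exact Or.inl (by rw [mv cy1, a1, mul_one])
    · exact Or.inr (Or.inl (by rw [mv cy1, b5]))
    · exact Or.inr (Or.inr (Or.inr (mv0 cy2)))
    · exact Or.inr (Or.inr (Or.inl (by rw [mv cy2, b4])))
    · exact Or.inr (Or.inl (by rw [mv cy2, b6]))
    · exact Or.inl (by rw [mv cy2, a2, mul_one])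
  inv_mem' := by
    rintro _ ⟨z, hz, h⟩
    obtain ⟨a1, a2, -⟩ := L.y_rel V
    obtain ⟨c1, c2⟩ := L.y12_Cg V
    have zi : z⁻¹ = z := inv_eq_of_mul_eq_one_right (L.Zg_sq V.inner.isR hz)
    refine ⟨z, hz, ?_⟩
    rcases h with rfl | rfl | rfl | rfl
    · exact Or.inl zi
    · refine Or.inr (Or.inl ?_)
      rw [_root_.mul_inv_rev, zi, inv_eq_of_mul_eq_one_right V.inner.y_sq]
      exact (L.Zg_central V.inner.isR hz (L.y_Cg V)).eq.symm
    · refine Or.inr (Or.inr (Or.inl ?_))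
      rw [_root_.mul_inv_rev, zi, inv_eq_of_mul_eq_one_right a1]
      exact (L.Zg_central V.inner.isR hz c1).eq.symm
    · refine Or.inr (Or.inr (Or.inr ?_))
      rw [_root_.mul_inv_rev, zi, inv_eq_of_mul_eq_one_right a2]
      exact (L.Zg_central V.inner.isR hz c2).eq.symm

theorem y_mem_Kci : y ∈ L.Kci V := ⟨1, one_mem _, Or.inr (Or.inl (one_mul y).symm)⟩

/-- The conjugation by a point of the line permutes the four. -/
theorem el_y {g : G} (hg : g = L.el ci ∨ g = L.el ec) {x : G} (hx : x ∈ L.Kci V) : g * x * g⁻¹ ∈ L.Kci V := by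
  have hgC : g ∈ L.Cg r := by
    rcases hg with rfl | rfl
    · exact L.el_Cg V L_facts.2.2.2.2.2.1 L_facts.2.2.2.2.2.2.1
    · exact L.el_Cg V L_facts.2.2.2.2.2.2.2.1 L_facts.2.2.2.2.2.2.2.2.1
  have hz' : ∀ {z : G}, z ∈ L.Zg r V.inner.isR → g * z * g⁻¹ = z := fun hz => by
    rw [(L.Zg_central V.inner.isR hz hgC).symm.eq, mul_inv_cancel_right]
  obtain ⟨z, hz, h⟩ := hx
  refine ⟨z, hz, ?_⟩
  have e : ∀ v : G, g * (z * v) * g⁻¹ = z * (g * v * g⁻¹) := fun v => by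
    conv_rhs => rw [← hz' hz]
    group
  rcases hg with rfl | rfl
  · have cc : ∀ {v : G}, Commute v (L.el ci) → L.el ci * v * (L.el ci)⁻¹ = v := fun hv => by
      rw [hv.symm.eq, mul_inv_cancel_right]
    have c1 : Commute (L.y1 V) (L.el ci) := by
      have h := V.inner.y_ci.conj (L.el ec)
      rwa [(L.el_comm ec ci).eq, mul_inv_cancel_right] at h
    have c2 : Commute (L.y2 V) (L.el ci) := by
      have h := c1.conj (L.el ec)
      rwa [(L.el_comm ec ci).eq, mul_inv_cancel_right] at h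
    rcases h with rfl | rfl | rfl | rfl
    · exact Or.inl (hz' hz)
    · exact Or.inr (Or.inl (by rw [e, cc V.inner.y_ci]))
    · exact Or.inr (Or.inr (Or.inl (by rw [e, cc c1])))
    · exact Or.inr (Or.inr (Or.inr (by rw [e, cc c2])))
  · rcases h with rfl | rfl | rfl | rfl
    · exact Or.inl (hz' hz)
    · exact Or.inr (Or.inr (Or.inl (e y)))
    · exact Or.inr (Or.inr (Or.inr (e _)))
    · exact Or.inr (Or.inl (by rw [e, L.y_cycle V]))

theorem s_y {x : G} (hx : x ∈ L.Kci V) : s * x * s⁻¹ ∈ L.Kci V := by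
  obtain ⟨z, hz, h⟩ := hx
  have hz' : s * z * s⁻¹ = z := by rw [(L.Zg_central V.inner.isR hz (L.s_mem_Cg V)).symm.eq, mul_inv_cancel_right]
  have hsy : s * y * s⁻¹ = y := by rw [V.inner.y_s.symm.eq, mul_inv_cancel_right]
  have hsc : s * L.el ec * s⁻¹ = (L.el ec)⁻¹ := by rw [V.inner.isS.act, L_facts.2.2.1, L.el_neg]
  have hcy : (L.el ec)⁻¹ * y * L.el ec = L.y2 V := by
    calc (L.el ec)⁻¹ * y * L.el ec = L.el ec ^ 3 * ((L.el ec)⁻¹ * y * L.el ec) * (L.el ec ^ 3)⁻¹ := by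
          rw [L.el_cube]; group
      _ = L.y2 V := by rw [y2, pow_three]; group
  have h1 : s * L.y1 V * s⁻¹ = L.y2 V := by
    calc s * L.y1 V * s⁻¹ = s * L.el ec * s⁻¹ * (s * y * s⁻¹) * (s * L.el ec * s⁻¹)⁻¹ := by rw [y1]; group
      _ = L.y2 V := by rw [hsy, hsc, inv_inv, hcy]
  have h2 : s * L.y2 V * s⁻¹ = L.y1 V := by
    rw [← h1, show s * (s * L.y1 V * s⁻¹) * s⁻¹ = s * s * L.y1 V * (s * s)⁻¹ by group, V.inner.isS.sq]
    group
  have e : ∀ v : G, s * (z * v) * s⁻¹ = z * (s * v * s⁻¹) := fun v => by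
    conv_rhs => rw [← hz']
    group
  refine ⟨z, hz, ?_⟩
  rcases h with rfl | rfl | rfl | rfl
  · exact Or.inl hz'
  · exact Or.inr (Or.inl (by rw [e, hsy]))
  · exact Or.inr (Or.inr (Or.inr (by rw [e, h1])))
  · exact Or.inr (Or.inr (Or.inl (by rw [e, h2])))

theorem Kci_facts : L.Kci V ≤ L.Cg r ⊓ centralizer {L.el ci} ∧ (∀ x ∈ L.Kci V, x * x ∈ L.Zg r V.inner.isR) ∧
    (∀ x ∈ L.Cg r, Commute x (L.el ci) → ∃ k ∈ L.Kci V, ∃ (v : V4) (c : ℕ),
      v 1 = 0 ∧ v 2 = 0 ∧ c < 2 ∧ x = k * L.el v * s ^ c) := by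
  obtain ⟨c1, c2⟩ := L.y12_Cg V
  obtain ⟨a1, a2, -⟩ := L.y_rel V
  refine ⟨?_, ?_, ?_⟩
  · rintro _ ⟨z, hz, h⟩
    have hc : ∀ {v : G}, Commute v (L.el ci) → Commute (z * v) (L.el ci) := fun hv =>
      (L.Zg_central V.inner.isR hz (L.el_Cg V L_facts.2.2.2.2.2.1 L_facts.2.2.2.2.2.2.1)).mul_left hv
    have d1 : Commute (L.y1 V) (L.el ci) := by
      have h := V.inner.y_ci.conj (L.el ec)
      rwa [(L.el_comm ec ci).eq, mul_inv_cancel_right] at h
    have d2 : Commute (L.y2 V) (L.el ci) := by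
      have h := d1.conj (L.el ec)
      rwa [(L.el_comm ec ci).eq, mul_inv_cancel_right] at h
    have hzC := L.Zg_le V.inner.isR hz
    rcases h with rfl | rfl | rfl | rfl
    · exact mem_inf.2 ⟨hzC, mem_centralizer_singleton_iff.2 (by simpa using (hc (Commute.one_left _)).eq)⟩
    · exact mem_inf.2 ⟨mul_mem hzC (L.y_Cg V), mem_centralizer_singleton_iff.2 (hc V.inner.y_ci).eq⟩
    · exact mem_inf.2 ⟨mul_mem hzC c1, mem_centralizer_singleton_iff.2 (hc d1).eq⟩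
    · exact mem_inf.2 ⟨mul_mem hzC c2, mem_centralizer_singleton_iff.2 (hc d2).eq⟩
  · rintro _ ⟨z, hz, h⟩
    have sq : ∀ {v : G}, v ∈ L.Cg r → v * v = 1 → z * v * (z * v) ∈ L.Zg r V.inner.isR := fun {v} hv hvv => by
      rw [show z * v * (z * v) = z * (v * z) * v by group, (L.Zg_central V.inner.isR hz hv).symm.eq,
        show z * (z * v) * v = z * z * (v * v) by group, hvv, mul_one, L.Zg_sq V.inner.isR hz]
      exact one_mem _
    rcases h with rfl | rfl | rfl | rfl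
    · exact mul_mem hz hz
    · exact sq (L.y_Cg V) V.inner.y_sq
    · exact sq c1 a1
    · exact sq c2 a2
  · intro x hx hc
    obtain ⟨xt, xr⟩ := L.mem_Cg.1 hx
    obtain ⟨a, b, c, v, w, hv, hw1, hw2, hc2, e⟩ := V.inner.dec x xt xr hc
    refine ⟨L.t ^ a * r ^ b * v, ⟨L.t ^ a * r ^ b, ⟨a, b, rfl⟩, ?_⟩, w, c, hw1, hw2, hc2, e⟩
    rcases hv with rfl | rfl | rfl | rfl
    exacts [Or.inl (mul_one _), Or.inr (Or.inl rfl), Or.inr (Or.inr (Or.inl rfl)), Or.inr (Or.inr (Or.inr rfl))]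

end Loc

end Cfsg.Agent.Co2Three
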