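import Cfsg.Agent.Lib.Co2Three.W.Plane

/-!
The centraliser of an exterior point and the reflection: the product of two of the quaternion groups by the
normaliser of the plane in it, of order 3456.
-/

set_option autoImplicit false
set_option maxRecDepth 20000
set_option linter.style.haveILetI false
set_option linter.unusedSectionVars false

namespace Cfsg.Agent.Co2Three

open Subgroup

/-- The four maps of the plane fixing the exterior point. -/
def sx : Fin 4 → Matrix (Fin 4) (Fin 4) (ZMod 3) :=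
  ![!![1, 0, 0, 0; 0, 1, 0, 0; 0, 0, 1, 0; 0, 0, 0, 1],
    !![0, 0, 0, 1; 0, 1, 0, 0; 0, 0, 1, 0; 1, 0, 0, 0],
    !![2, 0, 0, 0; 0, 1, 0, 0; 0, 0, 1, 0; 0, 0, 0, 2],
    !![0, 0, 0, 2; 0, 1, 0, 0; 0, 0, 1, 0; 2, 0, 0, 0]]

theorem sx_qf : ∀ k v, qf ((sx k).mulVec v) = qf v := by decide +kernel

theorem sx_refl : ∀ k v, (sx k).mulVec (refl1 v) = refl1 ((sx k).mulVec v) := by decide +kernel

theorem sx_facts : (∀ k, (sx k).mulVec e2 = e2) ∧ (∀ k l, (sx k).mulVec e0 = (sx l).mulVec e0 → k = l) ∧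
    (∀ v, (sx 0).mulVec v = v) ∧ (∀ k v, v 1 = 0 → ((sx k).mulVec v) 1 = 0) ∧
    ((sx 0).mulVec e0 = e0) := by decide +kernel

theorem e2_perp : bf e2 (cp 0) = 0 ∧ bf e2 (cp 1) = 0 := by decide +kernel

theorem card_plane : Nat.card {v : V4 // v 1 = 0} = 27 := by
  rw [Nat.card_eq_fintype_card]; decide +kernel

namespace Loc

variable {G : Type*} [Group G] [Finite G] (L : Loc G)

/-- The centraliser of the exterior point and the reflection. -/
abbrev Dx : Subgroup G := centralizer ({L.el e2} : Set G) ⊓ centralizer {L.t}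

/-- The lifts of the four maps. -/
noncomputable def gk (k : Fin 4) : G := (L.exists_lift (Or.inl (sx_qf k)) (sx_refl k)).choose

theorem gk_t (k : Fin 4) : L.gk k ∈ centralizer ({L.t} : Set G) :=
  mem_centralizer_singleton_iff.2 (L.exists_lift (Or.inl (sx_qf k)) (sx_refl k)).choose_spec.1.eq

theorem gk_act (k : Fin 4) (v : V4) : L.gk k * L.el v * (L.gk k)⁻¹ = L.el ((sx k).mulVec v) :=
  (L.exists_lift (Or.inl (sx_qf k)) (sx_refl k)).choose_spec.2 v

theorem gk_plane (k : Fin 4) : L.PlaneN (L.gk k) := fun v hv => ⟨_, sx_facts.2.2.2.1 k v hv, L.gk_act k v⟩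

theorem gk_Dx (k : Fin 4) : L.gk k ∈ L.Dx :=
  mem_inf.2 ⟨mem_centralizer_singleton_iff.2 (mul_inv_eq_iff_eq_mul.1 (by rw [L.gk_act, sx_facts.1])), L.gk_t k⟩

/-- The two quaternion groups at the points orthogonal to the exterior point, multiplied. -/
noncomputable def phiR : ↥(L.P4 0) × ↥(L.P4 1) →* G :=
  MonoidHom.noncommCoprod (L.P4 0).subtype (L.P4 1).subtype fun a b => L.P4_pair (by decide) a.2 b.2

theorem phiR_apply (p : ↥(L.P4 0) × ↥(L.P4 1)) : L.phiR p = (p.1 : G) * p.2 := rfl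

/-- Their product. -/
noncomputable def R : Subgroup G := L.phiR.range

theorem mem_R {x : G} : x ∈ L.R ↔ ∃ a ∈ L.P4 0, ∃ b ∈ L.P4 1, a * b = x := by
  constructor
  · rintro ⟨⟨a, b⟩, rfl⟩; exact ⟨a, a.2, b, b.2, (L.phiR_apply (a, b)).symm⟩
  · rintro ⟨a, ha, b, hb, rfl⟩; exact ⟨(⟨a, ha⟩, ⟨b, hb⟩), L.phiR_apply _⟩

theorem R_le_W : L.R ≤ L.W := fun x hx => by
  obtain ⟨a, ha, b, hb, rfl⟩ := L.mem_R.1 hx
  exact mul_mem (L.P4_le_W 0 ha) (L.P4_le_W 1 hb)

theorem R_le_Dx : L.R ≤ L.Dx := fun x hx => by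
  obtain ⟨a, ha, b, hb, rfl⟩ := L.mem_R.1 hx
  refine mem_inf.2 ⟨mem_centralizer_singleton_iff.2 ?_, mul_mem (mem_inf.1 (L.P4_le 0 ha)).2
    (mem_inf.1 (L.P4_le 1 hb)).2⟩
  exact ((L.P4_comm ha e_facts.2.1 e2_perp.1).mul_left (L.P4_comm hb e_facts.2.1 e2_perp.2)).eq

theorem R_inv : PlaneInv L L.R := fun v hv x hx => by
  obtain ⟨a, ha, b, hb, rfl⟩ := L.mem_R.1 hx
  exact L.mem_R.2 ⟨_, L.P4_inv 0 v hv a ha, _, L.P4_inv 1 v hv b hb, by group⟩

theorem R_four {x : G} (hx : x ∈ L.R) : x ^ 4 = 1 := by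
  obtain ⟨a, ha, b, hb, rfl⟩ := L.mem_R.1 hx
  rw [(L.P4_pair (show (0 : Fin 4) ≠ 1 by decide) ha hb).mul_pow, L.P4_four ha, L.P4_four hb, one_mul]

theorem card_R : Nat.card L.R = 32 := by
  classical
  have h2 : Nat.card L.Zt = 2 := by
    rw [Nat.card_zpowers]; exact orderOf_eq_prime (by rw [pow_two]; exact L.t_sq) L.t_ne
  have hmem : ∀ p : ↥(L.P4 0) × ↥(L.P4 1), L.phiR p = 1 → (p.1 : G) ∈ L.Zt := by
    intro p hp
    have h : L.Phi (Pi.mulSingle 0 p.1 * Pi.mulSingle 1 p.2) ∈ L.Zt := by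
      rw [map_mul, L.Phi_single, L.Phi_single, ← L.phiR_apply, hp]; exact one_mem _
    have := L.Phi_mem_Zt h 0
    rwa [Pi.mul_apply, Pi.mulSingle_eq_same, Pi.mulSingle_eq_of_ne (by decide), mul_one] at this
  have hb : Function.Bijective fun p : L.phiR.ker => (⟨(p.1.1 : G), hmem p.1 p.2⟩ : L.Zt) := by
    constructor
    · rintro ⟨⟨a, b⟩, hp⟩ ⟨⟨a', b'⟩, hp'⟩ e
      have e' : (a : G) = a' := congrArg (fun z : L.Zt => (z : G)) e
      have h1 : (a : G) * b = 1 := hp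
      have h1' : (a' : G) * b' = 1 := hp'
      refine Subtype.ext (Prod.ext (Subtype.ext e') (Subtype.ext ?_))
      rw [e', ← h1'] at h1
      exact mul_left_cancel h1
    · rintro ⟨z, hz⟩
      have hz4 : ∀ i, z ∈ L.P4 i := fun i => by
        rcases L.mem_Zt.1 hz with rfl | rfl
        exacts [one_mem _, L.t_mem_P4 i]
      exact ⟨⟨(⟨z, hz4 0⟩, ⟨z⁻¹, inv_mem (hz4 1)⟩), show z * z⁻¹ = 1 from mul_inv_cancel z⟩, rfl⟩
  have := L.phiR.ker.card_mul_index
  rw [Subgroup.index_ker, Nat.card_eq_of_bijective _ hb, h2, Nat.card_prod, L.P4_card, L.P4_card] at this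
  change 2 * Nat.card L.R = _ at this
  omega

/-- The product meets the plane trivially, also after powers prime to three. -/
theorem R_el {x : G} (hx : x ∈ L.R) {u : V4} (hu : u 1 = 0) {n : ℕ} (hn : n.Coprime 3)
    (h : (x * L.el u) ^ n = 1) : u = 0 := by
  have key : ∀ m : ℕ, ∃ y ∈ L.R, (x * L.el u) ^ m = y * L.el u ^ m := by
    intro m
    induction m with
    | zero => exact ⟨1, one_mem _, by simp⟩
    | succ m ih =>
      obtain ⟨y, hy, e⟩ := ih
      refine ⟨y * (L.el u ^ m * x * (L.el u ^ m)⁻¹), mul_mem hy ?_, by rw [pow_succ, e, pow_succ]; group⟩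
      rw [← L.el_nsmul]
      exact L.R_inv _ (by rw [Pi.smul_apply, hu, smul_zero]) x hx
  obtain ⟨y, hy, e⟩ := key n
  rw [e] at h
  have h4 : (L.el u ^ n) ^ 4 = 1 := by rw [eq_inv_of_mul_eq_one_right h, inv_pow, L.R_four hy, inv_one]
  have h3 : (L.el u ^ n) ^ 3 = 1 := by rw [← pow_mul, mul_comm, pow_mul, L.el_cube, one_pow]
  have h1 : L.el u ^ n = 1 := by
    calc L.el u ^ n = (L.el u ^ n) ^ 4 * ((L.el u ^ n) ^ 3)⁻¹ := by group
      _ = 1 := by rw [h4, h3]; group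
  refine L.el_eq_one.1 (orderOf_eq_one_iff.1 (Nat.eq_one_of_dvd_coprimes hn ?_ ?_))
  · exact orderOf_dvd_of_pow_eq_one h1
  · exact orderOf_dvd_of_pow_eq_one (L.el_cube u)

theorem R_el' {x : G} (hx : x ∈ L.R) {u : V4} (hu : u 1 = 0) (h : x = L.el u) : u = 0 := by
  refine L.R_el (inv_mem hx) hu (n := 1) (by norm_num) ?_
  rw [pow_one, h, inv_mul_cancel]

theorem dx_facts : (∀ d ∈ L.Dx, ∃ r ∈ L.R, ∃ (k : Fin 4) (v : V4), v 1 = 0 ∧ d = r * L.gk k * L.el v) ∧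
    Nat.card L.Dx = 3456 := by
  classical
  let F : ↥L.R × Fin 4 × {v : V4 // v 1 = 0} → L.Dx := fun p =>
    ⟨(p.1 : G) * L.gk p.2.1 * L.el p.2.2.1, mul_mem (mul_mem (L.R_le_Dx p.1.2) (L.gk_Dx _))
      (mem_inf.2 ⟨L.el_mem_CB _, L.el_mem_Ct p.2.2.2⟩)⟩
  have hinj : Function.Injective F := by
    rintro ⟨⟨r, hr⟩, k, ⟨v, hv⟩⟩ ⟨⟨r', hr'⟩, l, ⟨v', hv'⟩⟩ e
    have e' : r * L.gk k * L.el v = r' * L.gk l * L.el v' := congrArg Subtype.val e
    set x := r'⁻¹ * r with hx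
    have hxR : x ∈ L.R := mul_mem (inv_mem hr') hr
    have ex : x = L.gk l * L.el v' * (L.el v)⁻¹ * (L.gk k)⁻¹ := by
      calc x = r'⁻¹ * (r * L.gk k * L.el v) * (L.el v)⁻¹ * (L.gk k)⁻¹ := by rw [hx]; group
        _ = _ := by rw [e']; group
    have hxp : L.PlaneN x := by
      rw [ex]
      exact (((L.gk_plane l).mul L (PlaneN.el L)).mul L ((PlaneN.el L).inv L)).mul L ((L.gk_plane k).inv L)
    have hxc : ∀ u : V4, u 1 = 0 → x * L.el u * x⁻¹ = L.el u := by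
      intro u hu
      obtain ⟨w, hw1, hw⟩ := hxp u hu
      have h := L.R_el' (mul_mem hxR (L.R_inv u hu _ (inv_mem hxR))) (u := w - u)
        (by rw [Pi.sub_apply, hw1, hu, sub_zero]) (by rw [L.el_sub, ← hw]; group)
      rw [hw, sub_eq_zero.1 h]
    have hkl : k = l := by
      refine sx_facts.2.1 k l (L.el_inj ?_)
      calc L.el ((sx k).mulVec e0) = x * L.el ((sx k).mulVec e0) * x⁻¹ :=
            (hxc _ (sx_facts.2.2.2.1 k e0 e_facts.1)).symm
        _ = L.gk l * (L.el v' * (L.el v)⁻¹ * L.el e0 * (L.el v' * (L.el v)⁻¹)⁻¹) * (L.gk l)⁻¹ := by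
          rw [← L.gk_act, ex]; group
        _ = _ := by rw [← L.el_sub, (L.el_comm _ e0).eq, mul_inv_cancel_right, L.gk_act]
    subst hkl
    have hv0 : v' - v = 0 := by
      have h1 : (L.gk k)⁻¹ * x * L.gk k = L.el (v' - v) := by rw [L.el_sub, ex]; group
      have h4 : L.el (v' - v) ^ 4 = 1 := by
        have := conj_pow (a := (L.gk k)⁻¹) (b := x) (i := 4)
        rw [inv_inv, h1, L.R_four hxR, mul_one, inv_mul_cancel] at this
        exact this
      refine L.el_eq_one.1 ?_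
      calc L.el (v' - v) = L.el (v' - v) ^ 4 * (L.el (v' - v) ^ 3)⁻¹ := by group
        _ = 1 := by rw [h4, L.el_cube, one_mul, inv_one]
    have hvv : v' = v := sub_eq_zero.1 hv0
    subst hvv
    have : r = r' := mul_right_cancel (mul_right_cancel e')
    subst this
    rfl
  have hdom : Nat.card (↥L.R × Fin 4 × {v : V4 // v 1 = 0}) = 3456 := by
    rw [Nat.card_prod, Nat.card_prod, L.card_R, Nat.card_fin, card_plane]
  have hbij := hinj.bijective_of_nat_card_le (by rw [hdom]; exact L.card_exterior_le)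
  refine ⟨fun d hd => ?_, (Nat.card_eq_of_bijective F hbij).symm.trans hdom⟩
  obtain ⟨⟨r, k, v⟩, h⟩ := hbij.2 ⟨d, hd⟩
  exact ⟨r, r.2, k, v, v.2, (congrArg Subtype.val h).symm⟩

theorem cent_exterior : L.Dx ≤ normalizer (L.W : Set G) := fun d hd => by
  obtain ⟨r, hr, k, v, hv, rfl⟩ := L.dx_facts.1 d hd
  exact mul_mem (mul_mem (Subgroup.le_normalizer (L.R_le_W hr)) (L.norm_plane (L.gk_t k) (L.gk_plane k)))
    (L.plane_norm hv)

/-- An element prime to three whose commutator with the central point is prime to three lies in the product. -/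
theorem exterior_core {x : G} (hx : x ∈ L.Dx) {n : ℕ} (hn : n.Coprime 3) (h1 : x ^ n = 1)
    (h2 : (x * L.el e0 * x⁻¹ * (L.el e0)⁻¹) ^ n = 1) : x ∈ L.R := by
  obtain ⟨r, hr, k, v, hv, rfl⟩ := L.dx_facts.1 x hx
  set w := (sx k).mulVec e0 with hw
  have hw1 : w 1 = 0 := sx_facts.2.2.2.1 k e0 e_facts.1
  have e : r * L.gk k * L.el v * L.el e0 * (r * L.gk k * L.el v)⁻¹ * (L.el e0)⁻¹ =
      r * (L.el w * r⁻¹ * (L.el w)⁻¹) * L.el (w - e0) := by
    calc _ = r * (L.gk k * (L.el v * L.el e0 * (L.el v)⁻¹) * (L.gk k)⁻¹) * r⁻¹ * (L.el e0)⁻¹ := by group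
      _ = _ := by rw [(L.el_comm v e0).eq, mul_inv_cancel_right, L.gk_act, ← hw, L.el_sub]; group
  rw [e] at h2
  have hk : k = 0 := by
    refine sx_facts.2.1 k 0 ?_
    rw [← hw, sx_facts.2.2.2.2]
    exact sub_eq_zero.1 (L.R_el (mul_mem hr (L.R_inv w hw1 _ (inv_mem hr)))
      (by rw [Pi.sub_apply, hw1, e_facts.1, sub_zero]) hn h2)
  subst hk
  obtain ⟨v0, hv0, hg⟩ := L.cent_plane (L.gk_t 0) fun u _ =>
    mul_inv_eq_iff_eq_mul.1 (by rw [L.gk_act, sx_facts.2.2.1])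
  have hsum : (v0 + v) 1 = 0 := by rw [Pi.add_apply, hv0, hv, add_zero]
  obtain ⟨r', hr', e'⟩ : ∃ r' ∈ L.R, r * L.gk 0 * L.el v = r' * L.el (v0 + v) := by
    rcases hg with e | e <;> rw [e, L.el_add]
    · exact ⟨r, hr, by group⟩
    · exact ⟨r * L.t, mul_mem hr (L.mem_R.2 ⟨L.t, L.t_mem_P4 0, 1, one_mem _, mul_one _⟩), by group⟩
  rw [e'] at h1 ⊢
  rw [L.R_el hr' hsum hn h1, L.el_zero, mul_one]
  exact hr'

end Loc

end Cfsg.Agent.Co2Three
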