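import Cfsg.Agent.Lib.Co2Three.W.Singular

/-!
A second reflection `r` of the plane, commuting with the first: the two quaternion groups of `r` at the points on the
polar line of both meet `W` trivially and normalise it.
-/

set_option autoImplicit false
set_option maxRecDepth 20000
set_option linter.style.haveILetI false
set_option linter.unusedSectionVars false

namespace Cfsg.Agent.Co2Three

open Subgroup

/-- The reflection in the exterior point. -/
def refl2 (v : V4) : V4 := ![v 0, v 1, -v 2, v 3]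

/-- The reflection in the exterior point of the polar line. -/
def reflc (v : V4) : V4 := ![v 3, v 1, v 2, v 0]

/-- The map exchanging the two orthogonal exterior points. -/
def M12 : Matrix (Fin 4) (Fin 4) (ZMod 3) := !![1, 0, 0, 0; 0, 0, 1, 0; 0, 1, 0, 0; 0, 0, 0, 1]

/-- The map of the plane fixing the interior point and exchanging the two exterior points orthogonal to it. -/
def kc : Matrix (Fin 4) (Fin 4) (ZMod 3) := !![2, 0, 1, 2; 0, 1, 0, 0; 2, 0, 0, 1; 2, 0, 2, 2]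

theorem M12_qf : ∀ v, qf (M12.mulVec v) = qf v := by decide +kernel

theorem M12_facts : (∀ v, M12.mulVec (refl1 v) = refl2 (M12.mulVec v)) ∧ M12.mulVec e0 = e0 ∧ M12.mulVec e3 = e3 ∧
    (∀ v, refl2 (refl2 v) = v) ∧ (∀ v, refl2 v = -v → refl2 (-(v + v)) = v + v ∧ (v + v) + (v + v) = v) ∧
    refl2 e2 = -e2 ∧ e2 + e2 ≠ 0 ∧ refl1 e2 ≠ refl2 e2 := by decide +kernel

namespace Loc

variable {G : Type*} [Group G] [Finite G] (L : Loc G)

/-- An involution acting as the second reflection and commuting with the first. -/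
structure IsR (r : G) : Prop where
  sq : r * r = 1
  act : ∀ v, r * L.el v * r⁻¹ = L.el (refl2 v)
  comm : Commute r L.t

/-- An involution acting as the third reflection and commuting with the first. -/
structure IsS (s : G) : Prop where
  sq : s * s = 1
  act : ∀ v, s * L.el v * s⁻¹ = L.el (reflc v)
  comm : Commute s L.t

variable {r : G}

/-- The second reflection is conjugate to the first, the plane line being fixed. -/
theorem exists_conj_t (hr : L.IsR r) :
    ∃ m : G, m * L.t * m⁻¹ = r ∧ ∀ v, m * L.el v * m⁻¹ = L.el (M12.mulVec v) := by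
  obtain ⟨m, hm⟩ := L.realise M12 (Or.inl M12_qf)
  set t' := m * L.t * m⁻¹ with ht'
  have hsurj : ∀ w, ∃ v, M12.mulVec v = w :=
    Finite.surjective_of_injective fun a b e => L.el_inj (by
      have h : m * L.el a * m⁻¹ = m * L.el b * m⁻¹ := by rw [hm, hm]; exact congrArg L.el e
      exact mul_left_cancel (mul_right_cancel h))
  have t'act : ∀ w, t' * L.el w * t'⁻¹ = L.el (refl2 w) := fun w => by
    obtain ⟨v, rfl⟩ := hsurj w
    rw [← M12_facts.1, ← hm, ← hm, ← L.t_act, ht']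
    group
  have t'sq : t' * t' = 1 := by
    rw [ht', show m * L.t * m⁻¹ * (m * L.t * m⁻¹) = m * (L.t * L.t) * m⁻¹ by group, L.t_sq, mul_one,
      mul_inv_cancel]
  have t'i : t'⁻¹ = t' := inv_eq_of_mul_eq_one_right t'sq
  have ri : r⁻¹ = r := inv_eq_of_mul_eq_one_right hr.sq
  obtain ⟨u, hu⟩ := L.cent_J (r * t') fun v => by
    refine mul_inv_eq_iff_eq_mul.1 ?_
    rw [show r * t' * L.el v * (r * t')⁻¹ = r * (t' * L.el v * t'⁻¹) * r⁻¹ by group, t'act, hr.act,
      M12_facts.2.2.2.1]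
  have hu2 : refl2 u = -u := L.el_inj (by
    rw [L.el_neg, ← hu, ← hr.act, ← hu, _root_.mul_inv_rev, t'i, ri]
    calc r * (r * t') * r = r * r * (t' * r) := by group
      _ = t' * r := by rw [hr.sq, one_mul])
  obtain ⟨hneg, huu⟩ := M12_facts.2.2.2.2.1 u hu2
  refine ⟨L.el (u + u) * m, ?_, fun v => ?_⟩
  · have e1 : t' * (L.el (u + u))⁻¹ = L.el (u + u) * t' := by
      have h := t'act (-(u + u))
      rw [L.el_neg, hneg] at h
      exact mul_inv_eq_iff_eq_mul.1 h
    calc L.el (u + u) * m * L.t * (L.el (u + u) * m)⁻¹ = L.el (u + u) * (t' * (L.el (u + u))⁻¹) := by rw [ht']; group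
      _ = L.el ((u + u) + (u + u)) * t' := by rw [e1, ← mul_assoc, ← L.el_add]
      _ = r := by rw [huu, ← hu, mul_assoc, t'sq, mul_one]
  · rw [show L.el (u + u) * m * L.el v * (L.el (u + u) * m)⁻¹ =
      L.el (u + u) * (m * L.el v * m⁻¹) * (L.el (u + u))⁻¹ by group, hm, (L.el_comm _ _).eq, mul_inv_cancel_right]

/-- A subgroup of the quaternion group invariant under `el e3` is central or everything. -/
theorem P_irred {S : Subgroup G} (hS : S ≤ L.P) (hinv : ∀ p ∈ S, L.el e3 * p * (L.el e3)⁻¹ ∈ S)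
    {z : G} (hz : z ∈ S) (hz1 : z ≠ 1) (hzt : z ≠ L.t) : S = L.P := by
  haveI : Fact (Nat.Prime 2) := ⟨Nat.prime_two⟩
  refine Subgroup.eq_of_le_of_card_ge hS ?_
  have hd := Subgroup.card_dvd_of_le hS
  rw [L.P_card, show (8 : ℕ) = 2 ^ 3 by norm_num] at hd
  obtain ⟨i, hi, he⟩ := (Nat.dvd_prime_pow Nat.prime_two).1 hd
  rw [L.P_card, he]
  by_contra hlt
  have hi2 : i ≤ 2 := by
    by_contra h
    have : i = 3 := by omega
    subst this
    norm_num at hlt
  have hS4 : Nat.card S ≤ 4 := by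
    rw [he]; exact (Nat.pow_le_pow_right (by norm_num) hi2).trans_eq (by norm_num)
  have hzz : z * z = L.t := by
    have h := L.P4_sq (i := 0) (x := z) (by rw [L.P4_zero]; exact hS hz)
    rcases L.mem_Zt.1 h with e | e
    · rcases L.P_invol z (hS hz) e with e' | e'
      exacts [absurd e' hz1, absurd e' hzt]
    · exact e
  have hord : orderOf z = 4 := by
    refine orderOf_eq_prime_pow (p := 2) (n := 1) ?_ ?_
    · rw [show (2 : ℕ) ^ 1 = 2 from rfl, pow_two, hzz]; exact L.t_ne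
    · exact (L.P_four (hS hz))
  have hzS : S = zpowers z := (Subgroup.eq_of_le_of_card_ge (zpowers_le.2 hz)
    (by rw [Nat.card_zpowers, hord]; exact hS4)).symm
  obtain ⟨n, hn⟩ := (isOfFinOrder_of_finite _).mem_powers_iff_mem_zpowers.2 (hzS ▸ hinv z hz)
  change z ^ n = _ at hn
  rw [← pow_mod_orderOf, hord] at hn
  have hcomm : Commute z (L.el e3) := by
    have step : ∀ j : ℕ, L.el e3 * z ^ j * (L.el e3)⁻¹ = z ^ (n % 4 * j) := fun j => by
      rw [← conj_pow, ← hn, ← pow_mul]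
    have h3 : z ^ (n % 4 * (n % 4 * (n % 4))) = z ^ 1 := by
      rw [← step, ← step, hn, pow_one]
      calc L.el e3 * (L.el e3 * (L.el e3 * z * (L.el e3)⁻¹) * (L.el e3)⁻¹) * (L.el e3)⁻¹
          = (L.el e3) ^ 3 * z * ((L.el e3) ^ 3)⁻¹ := by rw [pow_three]; group
        _ = z := by rw [L.el_cube]; group
    rw [pow_eq_pow_iff_modEq, hord] at h3
    have key : ∀ j < 4, j * (j * j) % 4 = 1 → j % 4 = 1 := by decide
    have h1 := key _ (Nat.mod_lt n (by norm_num)) h3
    rw [Nat.mod_mod] at h1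
    rw [h1, pow_one] at hn
    exact (mul_inv_eq_iff_eq_mul.1 hn.symm).symm
  rcases L.P_move e3 e_facts.2.2.1 refl1_facts.2.2.2.2.2.1 z (hS hz) hcomm with e | e
  exacts [hz1 e, hzt e]

theorem Zt_comm {z q : G} (hz : z ∈ L.Zt) (hq : q ∈ L.W) : Commute z q := by
  rcases L.mem_Zt.1 hz with rfl | rfl
  · exact Commute.one_left q
  · exact (mem_centralizer_singleton_iff.1 (L.W_le hq)).symm

/-- An involution fixing both points and commuting with the reflection centralises the quaternion group. -/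
theorem P_fixed {g : G} (g2 : g * g = 1) (gt : Commute g L.t) (g0 : Commute g (L.el e0)) (g3 : Commute g (L.el e3))
    {p : G} (hp : p ∈ L.P) : Commute g p := by
  have gi : g⁻¹ = g := inv_eq_of_mul_eq_one_right g2
  have hgP : ∀ q ∈ L.P, g * q * g⁻¹ ∈ L.P :=
    L.P_norm g (mem_inf.2 ⟨mem_centralizer_singleton_iff.2 g0.eq, mem_centralizer_singleton_iff.2 gt.eq⟩)
  have he3 : ∀ q ∈ L.P, L.el e3 * q * (L.el e3)⁻¹ ∈ L.P := L.P_norm _ (L.el_mem_C0 e_facts.2.2.1)
  set φ : G → G := fun q => q⁻¹ * (g * q * g⁻¹) with hφ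
  have hZ : ∀ z ∈ L.Zt, Commute (L.el e3) z := fun z hz => by
    rcases L.mem_Zt.1 hz with rfl | rfl
    exacts [Commute.one_right _, (L.t_plane e_facts.2.2.1).symm]
  have φ3 : ∀ q, φ (L.el e3 * q * (L.el e3)⁻¹) = L.el e3 * φ q * (L.el e3)⁻¹ := fun q => by
    simp only [hφ]
    calc _ = L.el e3 * q⁻¹ * (L.el e3)⁻¹ * (g * L.el e3 * q * ((L.el e3)⁻¹ * g⁻¹)) := by group
      _ = L.el e3 * q⁻¹ * (L.el e3)⁻¹ * (L.el e3 * g * q * (g⁻¹ * (L.el e3)⁻¹)) := by
        rw [g3.eq, g3.inv_inv.symm.eq]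
      _ = _ := by group
  have φm : ∀ a ∈ L.P, ∀ b ∈ L.P, φ a ∈ L.Zt → φ (a * b) = φ a * φ b := fun a _ b hb ha => by
    have hc : Commute (φ a) b := L.Zt_comm ha (L.P_le_W hb)
    simp only [hφ] at hc ⊢
    calc _ = b⁻¹ * (a⁻¹ * (g * a * g⁻¹)) * (g * b * g⁻¹) := by group
      _ = _ := by rw [hc.symm.inv_left.eq]; group
  obtain ⟨q0, hq0, hq0'⟩ : ∃ q ∈ L.P, q ∉ L.Zt := by
    by_contra h
    push Not at h
    have := Subgroup.card_le_of_le (show L.P ≤ L.Zt from h)
    rw [L.P_card, Nat.card_zpowers,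
      orderOf_eq_prime (show L.t ^ 2 = 1 by rw [pow_two, L.t_sq]) L.t_ne] at this
    norm_num at this
  have φ1 : φ 1 = 1 := by simp [hφ]
  have φt : φ L.t = 1 := by
    simp only [hφ]
    rw [gt.eq, mul_inv_cancel_right, inv_mul_cancel]
  -- the elements moved by at most the centre are all of them
  let S : Subgroup G :=
    { carrier := {q | q ∈ L.P ∧ φ q ∈ L.Zt}
      one_mem' := ⟨one_mem _, by rw [φ1]; exact one_mem _⟩
      mul_mem' := fun {a b} ha hb => ⟨mul_mem ha.1 hb.1, φm a ha.1 b hb.1 ha.2 ▸ mul_mem ha.2 hb.2⟩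
      inv_mem' := fun {a} ha => by
        refine ⟨inv_mem ha.1, ?_⟩
        have h := φm a ha.1 a⁻¹ (inv_mem ha.1) ha.2
        rw [mul_inv_cancel, φ1] at h
        rw [eq_inv_of_mul_eq_one_right h.symm]
        exact inv_mem ha.2 }
  have hz : ∃ z ∈ S, z ≠ 1 ∧ z ≠ L.t := by
    suffices ∃ z ∈ L.P, z ∉ L.Zt ∧ φ z ∈ L.Zt by
      obtain ⟨z, hzP, hz0, hz'⟩ := this
      exact ⟨z, ⟨hzP, hz'⟩, fun e => hz0 (e ▸ one_mem _), fun e => hz0 (e ▸ mem_zpowers _)⟩
    by_cases hall : φ q0 ∈ L.Zt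
    · exact ⟨q0, hq0, hq0', hall⟩
    · refine ⟨φ q0, mul_mem (inv_mem hq0) (hgP q0 hq0), hall, ?_⟩
      have x1 : (φ q0)⁻¹ = g * q0⁻¹ * g * q0 := by
        simp only [hφ, _root_.mul_inv_rev, inv_inv, gi]
        group
      have x2 : g * φ q0 * g⁻¹ = g * q0⁻¹ * g * q0 := by
        simp only [hφ, gi]
        calc _ = g * q0⁻¹ * g * q0 * (g * g) := by group
          _ = _ := by rw [g2, mul_one]
      have e : φ (φ q0) = (φ q0 * φ q0)⁻¹ := by
        show (φ q0)⁻¹ * (g * φ q0 * g⁻¹) = _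
        rw [x2, ← x1]
        exact (_root_.mul_inv_rev _ _).symm
      rw [e]
      exact inv_mem (L.P4_sq (i := 0) (by rw [L.P4_zero]; exact mul_mem (inv_mem hq0) (hgP q0 hq0)))
  obtain ⟨z, hzS, hz1, hzt⟩ := hz
  have hSP : S = L.P := L.P_irred (fun q hq => hq.1) (fun q hq => ⟨he3 q hq.1, by
    rw [φ3, (hZ _ hq.2).eq, mul_inv_cancel_right]; exact hq.2⟩) hzS hz1 hzt
  -- so the fixed elements are all of them
  let T : Subgroup G := L.P ⊓ centralizer {g}
  have hfix : ∀ q, φ q = 1 → Commute q g := fun q h => by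
    simp only [hφ, inv_mul_eq_one] at h
    exact (mul_inv_eq_iff_eq_mul.1 h.symm).symm
  have hw : ∃ w ∈ T, w ≠ 1 ∧ w ≠ L.t := by
    obtain ⟨z', hz'⟩ : ∃ z', z' = L.el e3 * q0 * (L.el e3)⁻¹ := ⟨_, rfl⟩
    have hφ0 := (hSP.ge hq0).2
    rcases L.mem_Zt.1 hφ0 with h | h
    · exact ⟨q0, mem_inf.2 ⟨hq0, mem_centralizer_singleton_iff.2 (hfix q0 h).eq⟩,
        fun e => hq0' (e ▸ one_mem _), fun e => hq0' (e ▸ mem_zpowers _)⟩
    refine ⟨q0 * z', mem_inf.2 ⟨mul_mem hq0 (hz' ▸ he3 q0 hq0), mem_centralizer_singleton_iff.2 (hfix _ ?_).eq⟩, ?_⟩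
    · rw [φm q0 hq0 z' (hz' ▸ he3 q0 hq0) hφ0, hz', φ3, h, (hZ _ (mem_zpowers _)).eq, mul_inv_cancel_right, L.t_sq]
    suffices hn : q0 * z' ∉ L.Zt from ⟨fun e => hn (e ▸ one_mem _), fun e => hn (e ▸ mem_zpowers _)⟩
    intro hmem
    have hz'z : z' ∈ zpowers q0 := by
      have ht : L.t ∈ zpowers q0 := by
        rcases L.mem_Zt.1 (L.P4_sq (i := 0) (x := q0) (by rw [L.P4_zero]; exact hq0)) with e | e
        · rcases L.P_invol q0 hq0 e with e' | e'
          exacts [absurd (e' ▸ one_mem _) hq0', absurd (e' ▸ mem_zpowers _) hq0']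
        · exact e ▸ mul_mem (mem_zpowers q0) (mem_zpowers q0)
      have := mul_mem (inv_mem (mem_zpowers q0)) ((zpowers_le.2 ht : L.Zt ≤ zpowers q0) hmem)
      rwa [inv_mul_cancel_left] at this
    have hcyc := L.P_irred (S := zpowers q0) (zpowers_le.2 hq0) (fun q hq => by
      obtain ⟨k, rfl⟩ := mem_zpowers_iff.1 hq
      rw [← conj_zpow, ← hz']
      exact zpow_mem hz'z k) (mem_zpowers q0) (fun e => hq0' (e ▸ one_mem _)) (fun e => hq0' (e ▸ mem_zpowers _))
    have h8 := congrArg (fun H : Subgroup G => Nat.card H) hcyc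
    simp only [Nat.card_zpowers, L.P_card] at h8
    have := Nat.le_of_dvd (by norm_num) (orderOf_dvd_of_pow_eq_one (L.P_four hq0))
    omega
  obtain ⟨w, hwT, hw1, hwt⟩ := hw
  have hTP : T = L.P := L.P_irred inf_le_left (fun q hq => mem_inf.2 ⟨he3 q (mem_inf.1 hq).1,
    mem_centralizer_singleton_iff.2 (by
      have h := (show Commute q g from mem_centralizer_singleton_iff.1 (mem_inf.1 hq).2).conj (L.el e3)
      rw [g3.symm.eq, mul_inv_cancel_right] at h
      exact h.eq)⟩) hwT hw1 hwt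
  exact (show Commute p g from mem_centralizer_singleton_iff.1 (mem_inf.1 (hTP.ge hp)).2).symm

/-- Likewise for the product of the two quaternion groups. -/
theorem R_fixed {g : G} (g2 : g * g = 1) (gt : Commute g L.t) (g0 : Commute g (L.el e0)) (g3 : Commute g (L.el e3))
    {x : G} (hx : x ∈ L.R) : Commute g x := by
  obtain ⟨a, ha, b, hb, rfl⟩ := L.mem_R.1 hx
  refine (L.P_fixed g2 gt g0 g3 (L.P4_zero ▸ ha)).mul_right ?_
  set σ := L.gp 1 with hσ
  have s0 : σ * L.el e0 * σ⁻¹ = L.el e3 := by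
    rw [L.gp_act]; exact congrArg L.el (by decide +kernel)
  have s3 : σ * L.el e3 * σ⁻¹ = L.el e0 := by
    rw [L.gp_act]; exact congrArg L.el (by decide +kernel)
  have st : σ * L.t * σ⁻¹ = L.t := by rw [(L.gp_t 1).eq, mul_inv_cancel_right]
  have pull : ∀ {u : G}, Commute g (σ * u * σ⁻¹) → Commute (σ⁻¹ * g * σ) u := fun {u} h => by
    have := h.conj σ⁻¹
    simpa [mul_assoc] using this
  have h := (L.P_fixed (g := σ⁻¹ * g * σ) (by
    rw [show σ⁻¹ * g * σ * (σ⁻¹ * g * σ) = σ⁻¹ * (g * g) * σ by group, g2]; group)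
    (pull (by rw [st]; exact gt)) (pull (by rw [s0]; exact g3)) (pull (by rw [s3]; exact g0))
    (L.mem_P4.1 hb)).conj σ
  simpa [mul_assoc, hσ] using h

end Loc

end Cfsg.Agent.Co2Three
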