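import Cfsg.Agent.Lib.Co2Three.W.Side2
import Cfsg.Agent.Lib.Co2Three.Grid.Core
import Cfsg.Agent.Lib.GridBlock.OfReps
import Mathlib.GroupTheory.Nilpotent

/-!
Modulo the two reflections their centraliser is the product of the grid and a normal two-group, which meets the
centraliser of each point of the line in the core there.
-/

set_option autoImplicit false
set_option maxRecDepth 20000
set_option synthInstance.maxSize 1000
set_option linter.style.haveILetI false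
set_option linter.unusedSectionVars false

namespace Cfsg.Agent.Co2Three

open Cfsg.Agent.ThreeTI.Grid

namespace Grid

open Cfsg.Agent.GridBlock (cubes mem_cubes cube_cube cube_conj cube_self six_all exists_conj_of_mul)

universe u

variable {G : Type u} [Group G] [Finite G] {ι : Mod →* G} {Q : Mod → Subgroup G}

/-- The hypothesis on elements of order three follows from the others. -/
theorem loc_of_data (inj : Function.Injective ι)
    (fusion : ∀ h h' : Mod, h * h * h = 1 → h' * h' * h' = 1 → IsConj (ι h) (ι h') → IsConj h h')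
    (le : ∀ h : Mod, h * h * h = 1 → h ≠ 1 → Q h ≤ Subgroup.centralizer ({ι h} : Set G))
    (nor : ∀ h : Mod, h * h * h = 1 → h ≠ 1 → ∀ c ∈ Subgroup.centralizer ({ι h} : Set G), ∀ n ∈ Q h,
      c * n * c⁻¹ ∈ Q h)
    (cop : ∀ h : Mod, h * h * h = 1 → h ≠ 1 → ¬ 3 ∣ Nat.card (Q h))
    (dec : ∀ h : Mod, h * h * h = 1 → h ≠ 1 → ∀ c ∈ Subgroup.centralizer ({ι h} : Set G),
      ∃ n ∈ Q h, ∃ k : Mod, k * h = h * k ∧ c = n * ι k)
    (invol : ∀ h : Mod, h * h * h = 1 → h ≠ 1 → ∀ n ∈ Q h, n * n = 1)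
    (free : ∀ n ∈ Q (rep (1, 0)), Commute n (ι (rep (0, 1))) → n = 1) : Loc ι Q := by
  refine ⟨inj, fusion, le, nor, cop, dec, invol, free, fun g hg h hh h1 hc => ?_⟩
  have cent : ∀ {k : Mod}, k * h = h * k → ι k ∈ Subgroup.centralizer ({ι h} : Set G) := fun hk =>
    Subgroup.mem_centralizer_singleton_iff.2 (by rw [← map_mul, ← map_mul, hk])
  obtain ⟨n, hn, k, hk, rfl⟩ := dec h hh h1 g (Subgroup.mem_centralizer_singleton_iff.2 hc.eq)
  have hkC := cent hk
  have hmem : ι (k * k * k) ∈ Q h := by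
    have e : ι (k * k * k) = ((ι k * n * (ι k)⁻¹) * (ι k * ι k * n * (ι k * ι k)⁻¹))⁻¹ * n⁻¹ *
        (n * ι k * (n * ι k) * (n * ι k)) := by
      simp only [map_mul]; group; simp [pow_succ, mul_assoc]
    rw [e, hg, mul_one]
    exact mul_mem (inv_mem (mul_mem (nor h hh h1 _ hkC n hn) (nor h hh h1 _ (mul_mem hkC hkC) n hn)))
      (inv_mem hn)
  have hk3 : k * k * k = 1 := by
    have hkk : ∀ t : Mod, t * t * t = 1 → (k * k * k) * t * (k * k * k)⁻¹ * t⁻¹ = 1 := by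
      intro t ht
      refine inj ?_
      rw [map_one]
      set w := k * k * k
      have hw : ι (w * t * w⁻¹ * t⁻¹) ∈ Q h := by
        have h2 := nor h hh h1 _ (cent (cube_cube h t hh ht)) _ (inv_mem hmem)
        rw [map_mul, map_mul, map_mul, map_inv, map_inv,
          show ι w * ι t * (ι w)⁻¹ * (ι t)⁻¹ = ι w * (ι t * (ι w)⁻¹ * (ι t)⁻¹) by group]
        exact mul_mem hmem h2
      exact orderOf_eq_one_iff.1 (Nat.eq_one_of_dvd_coprimes
        ((Nat.Prime.coprime_iff_not_dvd Nat.prime_three).2 (cop h hh h1))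
        (orderOf_dvd_of_pow_eq_one (by rw [← map_pow, pow_three', (cube_conj _ t ht).2, map_one]))
        (Subgroup.orderOf_dvd_natCard _ hw))
    have h3 := cube_self _ hkk
    have h2 : k * k * k * (k * k * k) = 1 := by rw [← pow_three', ← pow_add]; exact six_all k
    rwa [h2, one_mul] at h3
  obtain ⟨m, hm, hme⟩ := exists_conj_of_mul (cop h hh h1) (fun x hx => nor h hh h1 _ hkC x hx)
    (by rw [← map_pow, pow_three', hk3, map_one]) hn (by rw [pow_three', hg])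
  exact ⟨m, hm, k, hk3, hme⟩

theorem six_pow {k : Mod} {m : ℕ} (h : k ^ 3 ^ m = 1) : k * k * k = 1 := by
  obtain ⟨i, -, hi⟩ := (Nat.dvd_prime_pow Nat.prime_three).1 (orderOf_dvd_of_pow_eq_one h)
  have h6 : orderOf k ∣ 6 := orderOf_dvd_of_pow_eq_one (six_all k)
  rw [hi] at h6
  have hi1 : i ≤ 1 := by
    by_contra hlt
    have := (Nat.pow_le_pow_right (show 1 ≤ 3 by norm_num) (show 2 ≤ i by omega)).trans
      (Nat.le_of_dvd (by norm_num) h6)
    norm_num at this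
  rw [← pow_three', ← orderOf_dvd_iff_pow_eq_one, hi]
  exact pow_dvd_pow 3 hi1

/-- The elements of exponent three form a Sylow subgroup. -/
theorem Loc.exists_sylow (L : Loc ι Q) : ∃ T : Sylow 3 G, (T : Subgroup G) = cubes.map ι := by
  haveI : Fact (Nat.Prime 3) := ⟨Nat.prime_three⟩
  have hp : IsPGroup 3 ↥(cubes.map ι) := fun x => ⟨1, by
    obtain ⟨k, hk, he⟩ := x.2
    refine Subtype.ext ?_
    rw [pow_one, Subgroup.coe_pow, ← he, ← map_pow, pow_three', mem_cubes.1 hk, map_one]; rfl⟩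
  obtain ⟨P, hP⟩ := hp.exists_le_sylow
  refine ⟨P, le_antisymm ?_ hP⟩
  haveI : Group.IsNilpotent (P : Subgroup G) := P.isPGroup'.isNilpotent
  by_contra hne
  have hlt : (cubes.map ι).subgroupOf (P : Subgroup G) < ⊤ :=
    lt_top_iff_ne_top.2 fun e => hne (Subgroup.subgroupOf_eq_top.1 e)
  obtain ⟨g, hgn, hg⟩ := SetLike.exists_of_lt (Group.normalizerCondition_of_isNilpotent _ hlt)
  refine hg ?_
  rw [Subgroup.mem_subgroupOf]
  obtain ⟨k, hk⟩ := L.mem_range_of_map (g := (g : G)) fun h hh => by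
    have hmem : ι h ∈ cubes.map ι := ⟨h, hh, rfl⟩
    obtain ⟨h', hh', he⟩ := Subgroup.mem_subgroupOf.1
      ((Subgroup.mem_normalizer_iff.1 hgn ⟨ι h, hP hmem⟩).1 (Subgroup.mem_subgroupOf.2 hmem))
    exact ⟨h', hh', he.symm⟩
  obtain ⟨m, hm⟩ := P.isPGroup' g
  refine ⟨k, six_pow (m := m) (L.inj ?_), hk⟩
  rw [map_pow, hk, map_one, ← Subgroup.coe_pow, hm, Subgroup.coe_one]

/-- Cores of exponent two give a normal two-subgroup. -/
theorem Split.two {O : Subgroup G} (S : Split ι Q O) (L : Loc ι Q) : IsPGroup 2 O := by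
  haveI : Fact (Nat.Prime 2) := ⟨Nat.prime_two⟩
  have key : ∀ h : Mod, h * h * h = 1 → h ≠ 1 → ∃ i, Nat.card (Q h) = 2 ^ i := fun h hh h1 =>
    IsPGroup.iff_card.1 fun x => ⟨1, Subtype.ext (by
      rw [pow_one, Subgroup.coe_pow, pow_two, L.invol h hh h1 x x.2]; rfl)⟩
  obtain ⟨a, ha⟩ := key (rep (1, 0)) (by decide +kernel) (by decide +kernel)
  obtain ⟨b, hb⟩ := key (rep (0, 1)) (by decide +kernel) (by decide +kernel)
  obtain ⟨c, hc⟩ := key (rep (1, 1)) (by decide +kernel) (by decide +kernel)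
  obtain ⟨d, hd⟩ := key (.r 1, .r 2) (by decide +kernel) (by decide +kernel)
  exact IsPGroup.iff_card.2 ⟨a + b + c + d, by rw [S.card, ha, hb, hc, hd, pow_add, pow_add, pow_add]⟩

end Grid

open Subgroup

theorem cube_form : ∀ h : Mod, h * h * h = 1 → ∃ i j : ZMod 3, h = (DihedralGroup.r i, DihedralGroup.r j) := by
  decide +kernel

theorem cube_one : ∀ i j : ZMod 3, ((DihedralGroup.r i, DihedralGroup.r j) : Mod) = 1 ↔ i = 0 ∧ j = 0 := by
  decide +kernel

theorem line_class : ∀ i j i' j' : ZMod 3, ((j = 0 ↔ j' = 0) ∧ (i = 0 ↔ i' = 0)) →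
    (c3 (DihedralGroup.r i), c3 (DihedralGroup.r j)) = (c3 (DihedralGroup.r i'), c3 (DihedralGroup.r j')) := by
  decide +kernel

theorem cube_commute : ∀ a : Fin 2, ∀ c : Fin 2, ∀ i j i' j' : ZMod 3, (a = 0 ∨ i = 0) → (c = 0 ∨ j = 0) →
    ((DihedralGroup.sr 0 ^ (a : ℕ), DihedralGroup.sr 0 ^ (c : ℕ)) : Mod) *
      (DihedralGroup.r i', DihedralGroup.r j') * (DihedralGroup.r i, DihedralGroup.r j) =
    (DihedralGroup.r i, DihedralGroup.r j) * (((DihedralGroup.sr 0 ^ (a : ℕ), DihedralGroup.sr 0 ^ (c : ℕ)) : Mod) *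
      (DihedralGroup.r i', DihedralGroup.r j')) := by decide +kernel

theorem pt_sing : ∀ i j : ZMod 3, qf (i • ci + j • ec) = 0 ↔ (i = 0 ∧ j = 0) ∨ (i ≠ 0 ∧ j ≠ 0) := by decide +kernel

theorem pt_zero : ∀ i j : ZMod 3, i • ci + j • ec = 0 ↔ i = 0 ∧ j = 0 := by decide +kernel

theorem pt_dir : ∀ i j : ZMod 3, (j = 0 → ∀ k : ZMod 3, k ≠ 0 → i ≠ 0 → ∃ l : ZMod 3, k • ci = l • (i • ci + j • ec)) ∧
    (i = 0 → j ≠ 0 → ∃ l : ZMod 3, ec = l • (i • ci + j • ec)) ∧
    (i ≠ 0 → j ≠ 0 → i = j → ∃ l : ZMod 3, e0 = l • (i • ci + j • ec) ∧ ∃ l' : ZMod 3, i • ci + j • ec = l' • e0) ∧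
    (i ≠ 0 → j ≠ 0 → i ≠ j → ∃ l : ZMod 3, e3 = l • (i • ci + j • ec) ∧ ∃ l' : ZMod 3, i • ci + j • ec = l' • e3) := by
  decide +kernel

theorem line_pts : ∀ i j : ZMod 3, (i • ci + j • ec) 1 = 0 ∧ (i • ci + j • ec) 2 = 0 := by decide +kernel

theorem sq_perm : ∀ v : V4, reflc (reflc v) = v := by decide +kernel

/-- A homomorphism from the dihedral group of order six. -/
def dlift {H : Type*} [Group H] (a b : H) (ha : a ^ 3 = 1) (hb : b * b = 1) (hab : b * a * b⁻¹ = a⁻¹) :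
    DihedralGroup 3 →* H where
  toFun := fun x => match x with
    | .r i => a ^ i.val
    | .sr i => b * a ^ i.val
  map_one' := by
    show a ^ (0 : ZMod 3).val = 1
    rw [ZMod.val_zero, pow_zero]
  map_mul' := by
    have hadd : ∀ i j : ZMod 3, a ^ (i + j).val = a ^ i.val * a ^ j.val := fun i j => by
      rw [ZMod.val_add, ← pow_add]
      exact (pow_eq_pow_mod _ ha).symm
    have hneg : ∀ i : ZMod 3, a ^ (-i).val = (a ^ i.val)⁻¹ := fun i =>
      eq_inv_of_mul_eq_one_left (by rw [← hadd, neg_add_cancel, ZMod.val_zero, pow_zero])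
    have hbb : b⁻¹ = b := inv_eq_of_mul_eq_one_right hb
    have hconj : ∀ i : ZMod 3, a ^ i.val * b = b * (a ^ i.val)⁻¹ := fun i => by
      rw [← inv_pow, ← hab, conj_pow, hbb]
      calc a ^ i.val * b = b * b * (a ^ i.val * b) := by rw [hb, one_mul]
        _ = _ := by group
    rintro (i | i) (j | j)
    · exact hadd i j
    · show b * a ^ (j - i).val = a ^ i.val * (b * a ^ j.val)
      rw [← mul_assoc, hconj, mul_assoc, sub_eq_neg_add, hadd, hneg]
    · show b * a ^ (i + j).val = b * a ^ i.val * a ^ j.val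
      rw [hadd, mul_assoc]
    · show a ^ (j - i).val = b * a ^ i.val * (b * a ^ j.val)
      rw [sub_eq_neg_add, hadd, hneg, mul_assoc, ← mul_assoc (a ^ i.val), hconj, ← mul_assoc, ← mul_assoc, hb,
        one_mul]

namespace Loc

variable {G : Type*} [Group G] [Finite G] (L : Loc G) {r s y n m : G} (V : L.Data r s y n) (hm : L.IsM r m)
include V hm

theorem comm_pt {x : G} {u w : V4} (h : Commute x (L.el u)) {l : ZMod 3} (e : w = l • u) : Commute x (L.el w) := by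
  rw [e, L.el_smul]; exact h.pow_right _

/-- The core belonging to a point of the line. -/
noncomputable def Kl (i j : ZMod 3) : Subgroup G :=
  if j = 0 then L.Kci V else if i = 0 then L.Kc V else if i = j then L.K0 V hm else L.K3 V hm

theorem Kl_facts (i j : ZMod 3) (hne : ¬ (i = 0 ∧ j = 0)) :
    L.Kl V hm i j ≤ L.Cg r ⊓ centralizer {L.el (i • ci + j • ec)} ∧ L.Zg r V.inner.isR ≤ L.Kl V hm i j ∧
    (∀ x ∈ L.Kl V hm i j, x * x ∈ L.Zg r V.inner.isR) ∧
    (∀ x ∈ L.Cg r, Commute x (L.el (i • ci + j • ec)) → ∀ k ∈ L.Kl V hm i j, x * k * x⁻¹ ∈ L.Kl V hm i j) ∧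
    (∀ x ∈ L.Cg r, Commute x (L.el (i • ci + j • ec)) → ∃ k ∈ L.Kl V hm i j, ∃ (a c : Fin 2) (u : V4),
      u 1 = 0 ∧ u 2 = 0 ∧ (a = 0 ∨ i = 0) ∧ (c = 0 ∨ j = 0) ∧
        x = k * (n ^ (a : ℕ) * s ^ (c : ℕ) * L.el u)) := by
  obtain ⟨dA, dB, dC, dD⟩ := pt_dir i j
  rw [Kl]
  by_cases hj : j = 0
  · rw [if_pos hj]
    have hi : i ≠ 0 := fun e => hne ⟨e, hj⟩
    obtain ⟨l, hl⟩ := dA hj 1 one_ne_zero hi
    rw [one_smul] at hl
    have hl' : i • ci + j • ec = i • ci := by rw [hj, zero_smul, add_zero]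
    obtain ⟨f1, f2, f3⟩ := L.Kci_facts V
    refine ⟨?_, fun z hz => ⟨z, hz, Or.inl rfl⟩, f2, ?_, ?_⟩
    · intro x hx
      obtain ⟨x1, x2⟩ := mem_inf.1 (f1 hx)
      exact mem_inf.2 ⟨x1, mem_centralizer_singleton_iff.2
        (L.comm_pt V hm (mem_centralizer_singleton_iff.1 x2) hl').eq⟩
    · intro x hx hc k hk
      obtain ⟨k', hk', v, c, v1, v2, -, e⟩ := f3 x hx (L.comm_pt V hm hc hl)
      obtain ⟨p, q, rfl⟩ := plane_L v v1 v2
      have hel : ∀ {g : G}, g = L.el ci ∨ g = L.el ec → ∀ (a : ℕ) {w : G}, w ∈ L.Kci V →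
          g ^ a * w * (g ^ a)⁻¹ ∈ L.Kci V := by
        intro g hg a
        induction a with
        | zero => intro w hw; simpa using hw
        | succ a ih =>
          intro w hw
          rw [pow_succ', show g * g ^ a * w * (g * g ^ a)⁻¹ = g * (g ^ a * w * (g ^ a)⁻¹) * g⁻¹ by group]
          exact L.el_y V hg (ih hw)
      have hs : ∀ (a : ℕ) {w : G}, w ∈ L.Kci V → s ^ a * w * (s ^ a)⁻¹ ∈ L.Kci V := by
        intro a
        induction a with
        | zero => intro w hw; simpa using hw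
        | succ a ih =>
          intro w hw
          rw [pow_succ', show s * s ^ a * w * (s * s ^ a)⁻¹ = s * (s ^ a * w * (s ^ a)⁻¹) * s⁻¹ by group]
          exact L.s_y V (ih hw)
      rw [e, L.el_add, L.el_smul, L.el_smul,
        show k' * (L.el ci ^ p.val * L.el ec ^ q.val) * s ^ c * k * (k' * (L.el ci ^ p.val * L.el ec ^ q.val) * s ^ c)⁻¹ =
          k' * (L.el ci ^ p.val * (L.el ec ^ q.val * (s ^ c * k * (s ^ c)⁻¹) * (L.el ec ^ q.val)⁻¹) *
            (L.el ci ^ p.val)⁻¹) * k'⁻¹ by group]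
      exact mul_mem (mul_mem hk' (hel (Or.inl rfl) _ (hel (Or.inr rfl) _ (hs c hk)))) (inv_mem hk')
    · intro x hx hc
      obtain ⟨k, hk, v, c, v1, v2, hc2, e⟩ := f3 x hx (L.comm_pt V hm hc hl)
      interval_cases c
      · exact ⟨k, hk, 0, 0, v, v1, v2, Or.inl rfl, Or.inr hj, by rw [e]; simp⟩
      · refine ⟨k, hk, 0, 1, reflc v, L_facts.2.2.2.2.2.2.2.2.2.2.1 v v1, L_facts.2.2.2.2.2.2.2.2.2.2.2 v v2,
          Or.inl rfl, Or.inr hj, ?_⟩
        have h := V.inner.isS.act (reflc v)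
        rw [sq_perm] at h
        rw [e, ← h]
        simp only [pow_one, Fin.val_zero, Fin.val_one, pow_zero, one_mul]
        group
  rw [if_neg hj]
  by_cases hi : i = 0
  · rw [if_pos hi]
    obtain ⟨l, hl⟩ := dB hi hj
    have hl' : i • ci + j • ec = j • ec := by rw [hi, zero_smul, zero_add]
    obtain ⟨f1, f2, f3, f4, f5⟩ := L.Kc_facts V
    refine ⟨?_, f2, f3, fun x hx hc => f4 x hx (L.comm_pt V hm hc hl), fun x hx hc => ?_⟩
    · intro x hx
      obtain ⟨x1, x2⟩ := mem_inf.1 (f1 hx)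
      exact mem_inf.2 ⟨x1, mem_centralizer_singleton_iff.2
        (L.comm_pt V hm (mem_centralizer_singleton_iff.1 x2) hl').eq⟩
    · obtain ⟨k, hk, a, v, v1, v2, ha, e⟩ := f5 x hx (L.comm_pt V hm hc hl)
      exact ⟨k, hk, ⟨a, ha⟩, 0, v, v1, v2, Or.inr hi, Or.inl rfl, by rw [e]; simp [mul_assoc]⟩
  rw [if_neg hi]
  by_cases hij : i = j
  · rw [if_pos hij]
    obtain ⟨l, hl, l', hl'⟩ := dC hi hj hij
    obtain ⟨f1, f2, f3, f4, f5⟩ := L.K0_facts V hm
    refine ⟨?_, f2, f3, fun x hx hc => f4 x hx (L.comm_pt V hm hc hl), fun x hx hc => ?_⟩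
    · intro x hx
      obtain ⟨x1, x2⟩ := mem_inf.1 (f1 hx)
      exact mem_inf.2 ⟨x1, mem_centralizer_singleton_iff.2
        (L.comm_pt V hm (mem_centralizer_singleton_iff.1 x2) hl').eq⟩
    · obtain ⟨k, hk, v, v1, v2, e⟩ := f5 x hx (L.comm_pt V hm hc hl)
      exact ⟨k, hk, 0, 0, v, v1, v2, Or.inl rfl, Or.inl rfl, by rw [e]; simp⟩
  · rw [if_neg hij]
    obtain ⟨l, hl, l', hl'⟩ := dD hi hj hij
    obtain ⟨f1, f2, f3, f4, f5⟩ := L.K3_facts V hm
    refine ⟨?_, f2, f3, fun x hx hc => f4 x hx (L.comm_pt V hm hc hl), fun x hx hc => ?_⟩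
    · intro x hx
      obtain ⟨x1, x2⟩ := mem_inf.1 (f1 hx)
      exact mem_inf.2 ⟨x1, mem_centralizer_singleton_iff.2
        (L.comm_pt V hm (mem_centralizer_singleton_iff.1 x2) hl').eq⟩
    · obtain ⟨k, hk, v, v1, v2, e⟩ := f5 x hx (L.comm_pt V hm hc hl)
      exact ⟨k, hk, 0, 0, v, v1, v2, Or.inl rfl, Or.inl rfl, by rw [e]; simp⟩

theorem not_ci_ec {x : G} (hx : x ∈ L.Cg r) {a b : ZMod 3} (hb : b ≠ 0) :
    x * L.el (a • ci) * x⁻¹ ≠ L.el (b • ec) := by
  intro e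
  obtain ⟨h, ht, hact⟩ := L.exists_lift (Or.inl kc_facts.1) kc_facts.2.1
  have hxt := (L.mem_Cg.1 hx).1
  set A := centralizer ({L.el ci} : Set G) ⊓ centralizer {L.t}
  have hsub : A.map (MulAut.conj (h * x)).toMonoidHom ≤ L.Dx := by
    rintro _ ⟨u, hu, rfl⟩
    obtain ⟨u1, u2⟩ := mem_inf.1 hu
    obtain ⟨l, hl⟩ : ∃ l : ZMod 3, ec = l • (b • ec) := ⟨b, by
      have key : ∀ b : ZMod 3, b ≠ 0 → ec = b • (b • ec) := by decide +kernel
      exact key b hb⟩
    have hu' : Commute (x * u * x⁻¹) (L.el ec) := by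
      refine L.comm_pt V hm ?_ hl
      rw [← e]
      exact (L.comm_pt V hm (show Commute u (L.el ci) from mem_centralizer_singleton_iff.1 u1) (rfl : a • ci = a • ci)).conj x
    refine mem_inf.2 ⟨mem_centralizer_singleton_iff.2 ?_, mem_centralizer_singleton_iff.2 ?_⟩
    · have h2 := hu'.conj h
      rw [hact, kc_facts.2.2.1] at h2
      simpa [mul_assoc] using h2.eq
    · have h2 := ((show Commute u L.t from mem_centralizer_singleton_iff.1 u2).conj x)
      rw [hxt.eq, mul_inv_cancel_right] at h2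
      have h3 := h2.conj h
      rw [ht.eq, mul_inv_cancel_right] at h3
      simpa [mul_assoc] using h3.eq
  have h5 := V.inner.five.trans (dvd_of_eq (Subgroup.card_map_of_injective
    (K := A) (f := (MulAut.conj (h * x)).toMonoidHom) (MulAut.conj (h * x)).injective).symm)
  have := h5.trans (Subgroup.card_dvd_of_le hsub)
  rw [L.dx_facts.2] at this
  norm_num at this

/-- A normal two-group of the centraliser with the four cores as centralisers. -/
theorem exists_core : ∃ O : Subgroup G, O ≤ L.Cg r ∧ L.Zg r V.inner.isR ≤ O ∧ IsPGroup 2 O ∧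
    (∀ x ∈ L.Cg r, ∀ o ∈ O, x * o * x⁻¹ ∈ O) ∧ (∀ i j : ZMod 3, ¬ (i = 0 ∧ j = 0) → L.Kl V hm i j ≤ O) ∧
    ∀ i j : ZMod 3, ¬ (i = 0 ∧ j = 0) → ∀ o ∈ O, Commute o (L.el (i • ci + j • ec)) → o ∈ L.Kl V hm i j := by
  classical
  set hr := V.inner.isR
  haveI hN : ((L.Zg r hr).subgroupOf (L.Cg r)).Normal := ⟨fun z hz x => by
    rw [mem_subgroupOf] at hz ⊢
    rw [coe_mul, coe_mul, coe_inv, (L.Zg_central hr hz x.2).symm.eq, mul_inv_cancel_right]
    exact hz⟩
  let q := QuotientGroup.mk' ((L.Zg r hr).subgroupOf (L.Cg r))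
  have hq : ∀ {a b : L.Cg r}, q a = q b ↔ ((a : G))⁻¹ * b ∈ L.Zg r hr := fun {a b} => by
    simp only [q, QuotientGroup.mk'_apply]
    rw [QuotientGroup.eq, mem_subgroupOf, coe_mul, coe_inv]
  have hq1 : ∀ {a : L.Cg r}, q a = 1 ↔ (a : G) ∈ L.Zg r hr := fun {a} => by
    simp only [q, QuotientGroup.mk'_apply, QuotientGroup.eq_one_iff, mem_subgroupOf]
  let el' : V4 → L.Cg r := fun v => if hv : v 1 = 0 ∧ v 2 = 0 then ⟨L.el v, L.el_Cg V hv.1 hv.2⟩ else 1
  have el'_val : ∀ {v : V4}, v 1 = 0 → v 2 = 0 → (el' v : G) = L.el v := fun h1 h2 => by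
    simp [el', h1, h2]
  let nn : L.Cg r := ⟨n, L.n_mem_Cg V⟩
  let ss : L.Cg r := ⟨s, L.s_mem_Cg V⟩
  obtain ⟨ci1, ci2, ec1, ec2⟩ := (⟨L_facts.2.2.2.2.2.1, L_facts.2.2.2.2.2.2.1, L_facts.2.2.2.2.2.2.2.1,
    L_facts.2.2.2.2.2.2.2.2.1⟩ : ci 1 = 0 ∧ ci 2 = 0 ∧ ec 1 = 0 ∧ ec 2 = 0)
  have cube' : ∀ {v : V4}, v 1 = 0 → v 2 = 0 → q (el' v) ^ 3 = 1 := fun h1 h2 => by
    rw [← map_pow, hq1, coe_pow, el'_val h1 h2, L.el_cube]; exact one_mem _
  have n2 : q nn * q nn = 1 := by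
    rw [← map_mul, hq1]; exact L.Zt_le_Zg hr V.neg.sq
  have s2 : q ss * q ss = 1 := by
    rw [← map_mul, hq1]; show s * s ∈ _; rw [V.inner.isS.sq]; exact one_mem _
  have conj' : ∀ {g : L.Cg r} {v : V4}, v 1 = 0 → v 2 = 0 → ∀ {w : V4}, (g : G) * L.el v * (g : G)⁻¹ = L.el w →
      w 1 = 0 → w 2 = 0 → q g * q (el' v) * (q g)⁻¹ = q (el' w) := fun {g v} h1 h2 {w} e w1 w2 => by
    rw [← map_inv, ← map_mul, ← map_mul]
    refine congrArg q (Subtype.ext ?_)
    rw [coe_mul, coe_mul, coe_inv, el'_val h1 h2, el'_val w1 w2, e]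
  have ni : q nn * q (el' ci) * (q nn)⁻¹ = (q (el' ci))⁻¹ := by
    rw [conj' ci1 ci2 (V.neg.act ci) (by rw [sx3_facts.2.1]; simp [ci1]) (by rw [sx3_facts.2.1]; simp [ci2]),
      sx3_facts.2.1, ← map_inv]
    refine congrArg q (Subtype.ext ?_)
    rw [coe_inv, el'_val ci1 ci2, el'_val (by simp [ci1]) (by simp [ci2]), L.el_neg]
  have si : q ss * q (el' ec) * (q ss)⁻¹ = (q (el' ec))⁻¹ := by
    rw [conj' ec1 ec2 (V.inner.isS.act ec) (by rw [L_facts.2.2.1]; simp [ec1]) (by rw [L_facts.2.2.1]; simp [ec2]),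
      L_facts.2.2.1, ← map_inv]
    refine congrArg q (Subtype.ext ?_)
    rw [coe_inv, el'_val ec1 ec2, el'_val (by simp [ec1]) (by simp [ec2]), L.el_neg]
  let f1 := dlift (q (el' ci)) (q nn) (cube' ci1 ci2) n2 ni
  let f2 := dlift (q (el' ec)) (q ss) (cube' ec1 ec2) s2 si
  have fix_n : ((nn : L.Cg r) : G) * L.el ec * (nn : G)⁻¹ = L.el ec := by
    show n * L.el ec * n⁻¹ = _
    rw [V.neg.act, sx3_facts.2.2.1]
  have fix_s : ((ss : L.Cg r) : G) * L.el ci * (ss : G)⁻¹ = L.el ci := by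
    show s * L.el ci * s⁻¹ = _
    rw [V.inner.isS.act, L_facts.2.2.2.1]
  have c_el : Commute (q (el' ci)) (q (el' ec)) := by
    refine Commute.map (Subtype.ext ?_) q
    rw [coe_mul, coe_mul, el'_val ci1 ci2, el'_val ec1 ec2]
    exact (L.el_comm ci ec).eq
  have c_ne : Commute (q nn) (q (el' ec)) := mul_inv_eq_iff_eq_mul.1 (conj' ec1 ec2 fix_n ec1 ec2)
  have c_se : Commute (q ss) (q (el' ci)) := mul_inv_eq_iff_eq_mul.1 (conj' ci1 ci2 fix_s ci1 ci2)
  have c_ns : Commute (q nn) (q ss) := Commute.map (Subtype.ext V.neg.comm_s.eq : Commute nn ss) q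
  have hcomm : ∀ a b, Commute (f1 a) (f2 b) := by
    rintro (a | a) (b | b)
    · exact c_el.pow_pow _ _
    · exact ((c_se.symm.pow_left _).mul_right (c_el.pow_pow _ _))
    · exact (c_ne.pow_right _).mul_left (c_el.pow_pow _ _)
    · exact ((c_ns.mul_right (c_ne.pow_right _)).mul_left ((c_se.symm.pow_left _).mul_right (c_el.pow_pow _ _)))
  let ι : Mod →* (L.Cg r ⧸ (L.Zg r hr).subgroupOf (L.Cg r)) := MonoidHom.noncommCoprod f1 f2 hcomm
  have ι_cube : ∀ i j : ZMod 3, ι (.r i, .r j) = q (el' (i • ci + j • ec)) := fun i j => by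
    show q (el' ci) ^ i.val * q (el' ec) ^ j.val = _
    rw [← map_pow, ← map_pow, ← map_mul]
    refine congrArg q (Subtype.ext ?_)
    rw [coe_mul, coe_pow, coe_pow, el'_val ci1 ci2, el'_val ec1 ec2, el'_val (line_pts i j).1 (line_pts i j).2,
      L.el_add, L.el_smul, L.el_smul]
  have ι_flip : ∀ a c : ℕ, ι (.sr 0 ^ a, .sr 0 ^ c) = q nn ^ a * q ss ^ c := fun a c => by
    have h1 : f1 (.sr 0) = q nn := by show q nn * q (el' ci) ^ (0 : ZMod 3).val = _; simp
    have h2 : f2 (.sr 0) = q ss := by show q ss * q (el' ec) ^ (0 : ZMod 3).val = _; simp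
    show f1 (.sr 0 ^ a) * f2 (.sr 0 ^ c) = _
    rw [map_pow, map_pow, h1, h2]
  -- what a preimage does
  have cent_of : ∀ {i j : ZMod 3} {x : L.Cg r}, q x ∈ centralizer ({ι (.r i, .r j)} : Set _) →
      Commute (x : G) (L.el (i • ci + j • ec)) := by
    intro i j x hx
    have e : q x * ι (.r i, .r j) * (q x)⁻¹ = ι (.r i, .r j) :=
      mul_inv_eq_iff_eq_mul.2 (mem_centralizer_singleton_iff.1 hx)
    rw [ι_cube, ← map_inv, ← map_mul, ← map_mul] at e
    have hz := hq.1 e.symm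
    rw [coe_mul, coe_mul, coe_inv, el'_val (line_pts i j).1 (line_pts i j).2] at hz
    set w := i • ci + j • ec
    have e2 : (x : G) * L.el w * (x : G)⁻¹ = ((L.el w)⁻¹ * ((x : G) * L.el w * (x : G)⁻¹)) * L.el w := by
      rw [(L.Zg_central hr hz (L.el_Cg V (line_pts i j).1 (line_pts i j).2)).eq]
      simp only [w]; group
    have h1 := L.cent_lift hr x.2 (line_pts i j).1 (line_pts i j).2 hz e2
    exact mul_inv_eq_iff_eq_mul.1 (inv_mul_eq_one.1 h1).symm
  let Qs : Mod → Subgroup (L.Cg r ⧸ (L.Zg r hr).subgroupOf (L.Cg r)) := fun h => match h with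
    | (.r i, .r j) => ((L.Kl V hm i j).subgroupOf (L.Cg r)).map q
    | _ => ⊥
  have memQ : ∀ {i j : ZMod 3}, ¬ (i = 0 ∧ j = 0) → ∀ {x : L.Cg r},
      q x ∈ Qs (.r i, .r j) ↔ (x : G) ∈ L.Kl V hm i j := by
    intro i j hne x
    refine ⟨fun hx => ?_, fun hx => ⟨x, mem_subgroupOf.2 hx, rfl⟩⟩
    obtain ⟨k, hk, e⟩ := hx
    have := mul_mem (mem_subgroupOf.1 hk) ((L.Kl_facts V hm i j hne).2.1 (hq.1 e))
    rwa [mul_inv_cancel_left] at this
  have ne1 : ∀ {i j : ZMod 3}, ((.r i, .r j) : Mod) ≠ 1 → ¬ (i = 0 ∧ j = 0) := fun h e => h ((cube_one _ _).2 e)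
  have inv2 : ∀ h : Mod, h * h * h = 1 → h ≠ 1 → ∀ x ∈ Qs h, x * x = 1 := by
    intro h hh h1 x hx
    obtain ⟨i, j, rfl⟩ := cube_form h hh
    obtain ⟨k, hk, rfl⟩ := hx
    rw [← map_mul, hq1]
    exact (L.Kl_facts V hm i j (ne1 h1)).2.2.1 _ (mem_subgroupOf.1 hk)
  have LG : Grid.Loc ι Qs := by
    refine Grid.loc_of_data ?_ ?_ ?_ ?_ ?_ ?_ inv2 ?_
    · -- injective
      rw [injective_iff_map_eq_one]
      intro h hh
      have nsplit : ∀ a : DihedralGroup 3, ∃ (e : Fin 2) (i : ZMod 3), a = .sr 0 ^ (e : ℕ) * .r i := by decide +kernel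
      obtain ⟨e, i, he⟩ := nsplit h.1
      obtain ⟨f, j, hf⟩ := nsplit h.2
      have h' : h = (.sr 0 ^ (e : ℕ), .sr 0 ^ (f : ℕ)) * (.r i, .r j) := Prod.ext he hf
      rw [h', map_mul, ι_flip, ι_cube, ← map_pow, ← map_pow, ← map_mul, ← map_mul, hq1] at hh
      simp only [coe_mul, coe_pow, el'_val (line_pts i j).1 (line_pts i j).2, nn, ss] at hh
      set x := n ^ (e : ℕ) * s ^ (f : ℕ) * L.el (i • ci + j • ec)
      have fixL : ∀ {u : V4}, u 1 = 0 → u 2 = 0 → x * L.el u * x⁻¹ = L.el u := fun {u} h1 h2 => by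
        rw [(L.Zg_central hr hh (L.el_Cg V h1 h2)).eq, mul_inv_cancel_right]
      have act : ∀ u, x * L.el u * x⁻¹ = L.el ((fun w => if (e : ℕ) = 0 then w else reflv ci w)
          ((fun w => if (f : ℕ) = 0 then w else reflc w) u)) := by
        intro u
        calc _ = n ^ (e : ℕ) * (s ^ (f : ℕ) * (L.el (i • ci + j • ec) * L.el u * (L.el (i • ci + j • ec))⁻¹) *
              (s ^ (f : ℕ))⁻¹) * (n ^ (e : ℕ))⁻¹ := by simp only [x]; group
          _ = _ := by
            rw [(L.el_comm _ u).eq, mul_inv_cancel_right]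
            fin_cases e <;> fin_cases f <;> simp [V.inner.isS.act, V.neg.act]
      have a1 := L.el_inj ((act ci).symm.trans (fixL ci1 ci2))
      have a2 := L.el_inj ((act ec).symm.trans (fixL ec1 ec2))
      have key : ∀ e f : Fin 2, (fun w => if (e : ℕ) = 0 then w else reflv ci w)
            ((fun w => if (f : ℕ) = 0 then w else reflc w) ci) = ci →
          (fun w => if (e : ℕ) = 0 then w else reflv ci w)
            ((fun w => if (f : ℕ) = 0 then w else reflc w) ec) = ec → e = 0 ∧ f = 0 := by decide +kernel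
      obtain ⟨rfl, rfl⟩ := key e f a1 a2
      have hel : L.el (i • ci + j • ec) ∈ L.Zg r hr := by simpa [x] using hh
      have h1 : L.el (i • ci + j • ec) = 1 := by
        calc L.el (i • ci + j • ec) = L.el (i • ci + j • ec) ^ 3 *
              (L.el (i • ci + j • ec) * L.el (i • ci + j • ec))⁻¹ := by rw [pow_three]; group
          _ = 1 := by rw [L.el_cube, L.Zg_sq hr hel, inv_one, mul_one]
      rw [h', (cube_one i j).2 ((pt_zero i j).1 (L.el_eq_one.1 h1))]
      simp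
    · -- fusion
      intro h h' hh hh' hconj
      obtain ⟨i, j, rfl⟩ := cube_form h hh
      obtain ⟨i', j', rfl⟩ := cube_form h' hh'
      obtain ⟨g, hg⟩ := isConj_iff.1 hconj
      obtain ⟨x, rfl⟩ := QuotientGroup.mk'_surjective _ g
      change q x * _ * (q x)⁻¹ = _ at hg
      rw [ι_cube, ι_cube, ← map_inv, ← map_mul, ← map_mul] at hg
      have hz := hq.1 hg.symm
      rw [coe_mul, coe_mul, coe_inv, el'_val (line_pts i j).1 (line_pts i j).2,
        el'_val (line_pts i' j').1 (line_pts i' j').2] at hz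
      set v := i • ci + j • ec
      set w := i' • ci + j' • ec
      have e2 : (x : G) * L.el v * (x : G)⁻¹ = ((L.el w)⁻¹ * ((x : G) * L.el v * (x : G)⁻¹)) * L.el w := by
        rw [(L.Zg_central hr hz (L.el_Cg V (line_pts i' j').1 (line_pts i' j').2)).eq]
        simp only [v, w]; group
      have e := (inv_mul_eq_one.1 (L.cent_lift hr x.2 (line_pts i' j').1 (line_pts i' j').2 hz e2)).symm
      have e' : (x : G)⁻¹ * L.el w * ((x : G)⁻¹)⁻¹ = L.el v := by rw [← e]; group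
      suffices hcl : (j = 0 ↔ j' = 0) ∧ (i = 0 ↔ i' = 0) by
        obtain ⟨k, hk⟩ := conj_rep (DihedralGroup.r i, DihedralGroup.r j)
        obtain ⟨k', hk'⟩ := conj_rep (DihedralGroup.r i', DihedralGroup.r j')
        rw [← line_class i j i' j' hcl] at hk'
        exact isConj_iff.2 ⟨k' * k⁻¹, by rw [← hk', ← hk]; group⟩
      by_cases h0 : i = 0 ∧ j = 0
      · have hv : v = 0 := (pt_zero i j).2 h0
        rw [hv, L.el_zero, mul_one, mul_inv_cancel] at e
        obtain ⟨r1, r2⟩ := (pt_zero i' j').1 (L.el_eq_one.1 e.symm)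
        exact ⟨iff_of_true h0.2 r2, iff_of_true h0.1 r1⟩
      have hv0 : v ≠ 0 := fun e => h0 ((pt_zero i j).1 e)
      have hw0 : w ≠ 0 := fun ew => by
        rw [ew, L.el_zero, conj_eq_one_iff] at e
        exact hv0 (L.el_eq_one.1 e)
      by_cases hs : qf v = 0
      · have hs' := L.fused_sing hv0 hs e
        rcases (pt_sing i j).1 hs with ⟨a1, a2⟩ | ⟨a1, a2⟩
        · exact absurd ⟨a1, a2⟩ h0
        · rcases (pt_sing i' j').1 hs' with b | ⟨b1, b2⟩
          · exact absurd ((pt_zero i' j').2 b) hw0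
          · exact ⟨iff_of_false a2 b2, iff_of_false a1 b1⟩
      · have hs' : qf w ≠ 0 := fun e0 => hs (L.fused_sing hw0 e0 e')
        have a := fun h => hs ((pt_sing i j).2 h)
        have b := fun h => hs' ((pt_sing i' j').2 h)
        have eA : ∀ {i j : ZMod 3}, j = 0 → i • ci + j • ec = i • ci := fun h => by rw [h, zero_smul, add_zero]
        have eB : ∀ {i j : ZMod 3}, i = 0 → i • ci + j • ec = j • ec := fun h => by rw [h, zero_smul, zero_add]
        by_cases hj : j = 0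
        · have hi : i ≠ 0 := fun e => h0 ⟨e, hj⟩
          by_cases hj' : j' = 0
          · exact ⟨iff_of_true hj hj', iff_of_false hi fun e => b (Or.inl ⟨e, hj'⟩)⟩
          · exfalso
            have hi' : i' = 0 := by by_contra h; exact b (Or.inr ⟨h, hj'⟩)
            simp only [v, w, eA hj, eB hi'] at e
            exact L.not_ci_ec V hm x.2 hj' e
        · have hi : i = 0 := by by_contra h; exact a (Or.inr ⟨h, hj⟩)
          by_cases hj' : j' = 0
          · exfalso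
            simp only [v, w, eB hi, eA hj'] at e'
            exact L.not_ci_ec V hm (inv_mem x.2) hj e'
          · have hi' : i' = 0 := by by_contra h; exact b (Or.inr ⟨h, hj'⟩)
            exact ⟨iff_of_false hj hj', iff_of_true hi hi'⟩
    · -- le
      intro h hh h1 g hg
      obtain ⟨i, j, rfl⟩ := cube_form h hh
      obtain ⟨k, hk, rfl⟩ := hg
      refine mem_centralizer_singleton_iff.2 ?_
      rw [ι_cube]
      refine (Commute.map (Subtype.ext ?_ : Commute k (el' (i • ci + j • ec))) q).eq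
      rw [coe_mul, coe_mul, el'_val (line_pts i j).1 (line_pts i j).2]
      exact mem_centralizer_singleton_iff.1 (mem_inf.1 ((L.Kl_facts V hm i j (ne1 h1)).1 (mem_subgroupOf.1 hk))).2
    · -- nor
      intro h hh h1 c hc g hg
      obtain ⟨i, j, rfl⟩ := cube_form h hh
      obtain ⟨k, hk, rfl⟩ := hg
      obtain ⟨x, rfl⟩ := QuotientGroup.mk'_surjective _ c
      show q x * q k * (q x)⁻¹ ∈ _
      rw [← map_inv, ← map_mul, ← map_mul, memQ (ne1 h1)]
      exact (L.Kl_facts V hm i j (ne1 h1)).2.2.2.1 x x.2 (cent_of hc) k (mem_subgroupOf.1 hk)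
    · -- coprime
      intro h hh h1 hd
      haveI : Fact (Nat.Prime 2) := ⟨Nat.prime_two⟩
      obtain ⟨a, ha⟩ := IsPGroup.iff_card.1 (show IsPGroup 2 (Qs h) from fun g => ⟨1, Subtype.ext (by
        rw [pow_one, Subgroup.coe_pow, pow_two, inv2 h hh h1 g g.2]; rfl)⟩)
      rw [ha] at hd
      exact absurd (Nat.Prime.dvd_of_dvd_pow Nat.prime_three hd) (by norm_num)
    · -- decomposition
      intro h hh h1 c hc
      obtain ⟨i, j, rfl⟩ := cube_form h hh
      obtain ⟨x, rfl⟩ := QuotientGroup.mk'_surjective _ c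
      obtain ⟨k, hk, a, f, u, u1, u2, ha, hf, e⟩ := (L.Kl_facts V hm i j (ne1 h1)).2.2.2.2 x x.2 (cent_of hc)
      obtain ⟨i', j', rfl⟩ := plane_L u u1 u2
      have hkC := (mem_inf.1 ((L.Kl_facts V hm i j (ne1 h1)).1 hk)).1
      refine ⟨q ⟨k, hkC⟩, (memQ (ne1 h1)).2 hk,
        (.sr 0 ^ (a : ℕ), .sr 0 ^ (f : ℕ)) * (.r i', .r j'), cube_commute a f i j i' j' ha hf, ?_⟩
      show q x = _
      rw [map_mul, ι_flip, ι_cube, ← map_pow, ← map_pow, ← map_mul, ← map_mul, ← map_mul]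
      refine congrArg q (Subtype.ext ?_)
      simp only [coe_mul, coe_pow, el'_val u1 u2, nn, ss]
      exact e
    · -- free
      intro g hg hc
      obtain ⟨k, hk, rfl⟩ := hg
      have hk' := mem_subgroupOf.1 hk
      rw [Kl, if_pos rfl] at hk'
      obtain ⟨z, hz, hkz⟩ := hk'
      have hcz : (k : G) * L.el ec * (k : G)⁻¹ * (L.el ec)⁻¹ ∈ L.Zg r hr := by
        have e : q (k * el' ec * k⁻¹ * (el' ec)⁻¹) = 1 := by
          rw [map_mul, map_mul, map_mul, map_inv, map_inv]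
          have he : ι (rep (0, 1)) = q (el' ec) := by
            rw [show rep (0, 1) = ((.r 0, .r 1) : Mod) by decide +kernel, ι_cube, zero_smul, one_smul, zero_add]
          rw [he] at hc
          rw [hc.eq, mul_inv_cancel_right, mul_inv_cancel]
        have := hq1.1 e
        simpa [el'_val ec1 ec2] using this
      have hecC : L.el ec ∈ L.Cg r := L.el_Cg V ec1 ec2
      have nof : ∀ {v : G}, v ∈ L.Cg r → (k : G) = z * v → ∀ g0 : G, g0 ∈ L.Cg r → g0 * L.el ec * g0⁻¹ = L.el ec →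
          v = g0 * y * g0⁻¹ → False := by
        intro v hv hkv g0 hg0 hfix hvy
        have e : (k : G) * L.el ec * (k : G)⁻¹ * (L.el ec)⁻¹ = g0 * (y * L.el ec * y⁻¹ * (L.el ec)⁻¹) * g0⁻¹ := by
          calc _ = z * (v * L.el ec * v⁻¹) * z⁻¹ * (L.el ec)⁻¹ := by rw [hkv]; group
            _ = v * L.el ec * v⁻¹ * (L.el ec)⁻¹ := by
              rw [(L.Zg_central hr hz (mul_mem (mul_mem hv hecC) (inv_mem hv))).eq, mul_inv_cancel_right]
            _ = g0 * (y * (g0⁻¹ * L.el ec * g0) * y⁻¹) * g0⁻¹ * (L.el ec)⁻¹ := by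
              conv_lhs => rw [hvy]
              group
            _ = g0 * (y * L.el ec * y⁻¹) * g0⁻¹ * (L.el ec)⁻¹ := by
              rw [show g0⁻¹ * L.el ec * g0 = L.el ec by
                calc g0⁻¹ * L.el ec * g0 = g0⁻¹ * (g0 * L.el ec * g0⁻¹) * g0 := by rw [hfix]
                  _ = _ := by group]
            _ = g0 * (y * L.el ec * y⁻¹) * g0⁻¹ * (g0 * L.el ec * g0⁻¹)⁻¹ := by rw [hfix]
            _ = _ := by group
        have hin : y * L.el ec * y⁻¹ * (L.el ec)⁻¹ ∈ L.Zg r hr := by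
          have h3 : g0 * (y * L.el ec * y⁻¹ * (L.el ec)⁻¹) * g0⁻¹ ∈ L.Zg r hr := e ▸ hcz
          have h4 : y * L.el ec * y⁻¹ * (L.el ec)⁻¹ =
              g0⁻¹ * (g0 * (y * L.el ec * y⁻¹ * (L.el ec)⁻¹) * g0⁻¹) * g0 := by group
          rwa [h4, (L.Zg_central hr h3 (inv_mem hg0)).symm.eq, mul_assoc, inv_mul_cancel, mul_one]
        obtain ⟨a, b, hab⟩ := hin
        exact V.inner.free a b hab
      have hfix1 : L.el ec * L.el ec * (L.el ec)⁻¹ = L.el ec := mul_inv_cancel_right _ _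
      rcases hkz with e | e | e | e
      · exact hq1.2 (e ▸ hz)
      · exact (nof (L.y_Cg V) e 1 (one_mem _) (by simp) (by simp)).elim
      · exact (nof (L.y12_Cg V).1 e _ hecC hfix1 rfl).elim
      · refine (nof (L.y12_Cg V).2 e (L.el ec * L.el ec) (mul_mem hecC hecC) ?_ ?_).elim
        · group
        · rw [y2]; group
  obtain ⟨T, hT⟩ := LG.exists_sylow
  obtain ⟨O, hO⟩ := LG.exists_split T hT
  haveI : Fact (Nat.Prime 2) := ⟨Nat.prime_two⟩
  have hker : IsPGroup 2 q.ker := fun x => ⟨1, Subtype.ext (Subtype.ext (by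
    have h2 : ((x : L.Cg r) : G) ∈ L.Zg r hr := hq1.1 x.2
    rw [pow_one, coe_pow, coe_pow, pow_two, L.Zg_sq hr h2]; rfl))⟩
  refine ⟨(O.comap q).map (L.Cg r).subtype, map_subtype_le _, ?_, ((hO.two LG).comap_of_ker_isPGroup q hker).map _,
    ?_, ?_, ?_⟩
  · intro z hz
    exact ⟨⟨z, L.Zg_le hr hz⟩, by rw [SetLike.mem_coe, mem_comap, hq1.2 hz]; exact one_mem _, rfl⟩
  · rintro x hx _ ⟨o, ho, rfl⟩
    refine ⟨⟨x, hx⟩ * o * ⟨x, hx⟩⁻¹, ?_, rfl⟩
    rw [SetLike.mem_coe, mem_comap, map_mul, map_mul, map_inv]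
    exact hO.normal.conj_mem _ ho _
  · intro i j hne k hk
    have hkC := (mem_inf.1 ((L.Kl_facts V hm i j hne).1 hk)).1
    refine ⟨⟨k, hkC⟩, ?_, rfl⟩
    have hh : ((.r i, .r j) : Mod) * (.r i, .r j) * (.r i, .r j) = 1 :=
      (show ∀ i j : ZMod 3, ((.r i, .r j) : Mod) * (.r i, .r j) * (.r i, .r j) = 1 by decide +kernel) i j
    rw [SetLike.mem_coe, mem_comap]
    exact (mem_inf.1 ((hO.cent _ hh fun e => hne ((cube_one i j).1 e)).ge ((memQ hne).2 hk))).1
  · rintro i j hne _ ⟨o, ho, rfl⟩ hc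
    have hh : ((.r i, .r j) : Mod) * (.r i, .r j) * (.r i, .r j) = 1 :=
      (show ∀ i j : ZMod 3, ((.r i, .r j) : Mod) * (.r i, .r j) * (.r i, .r j) = 1 by decide +kernel) i j
    refine (memQ hne).1 ((hO.cent _ hh fun e => hne ((cube_one i j).1 e)).le (mem_inf.2 ⟨ho, ?_⟩))
    refine mem_centralizer_singleton_iff.2 ?_
    rw [ι_cube]
    refine (Commute.map (Subtype.ext ?_ : Commute o (el' (i • ci + j • ec))) q).eq
    rw [coe_mul, coe_mul, el'_val (line_pts i j).1 (line_pts i j).2]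
    exact hc.eq

end Loc

end Cfsg.Agent.Co2Three
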