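import Cfsg.Agent.Lib.Co2Three.W.Frame
import Cfsg.Agent.Lib.Co2Three.Quot.Inner
import Cfsg.Agent.Lib.S3342Id.Top

/-!
The centraliser of an interior point and the reflection: its image modulo the point is that of a reflection in the
model, which gives its bound, an element of order five, and the four group of involutions moving the plane.
-/

set_option autoImplicit false
set_option maxRecDepth 20000
set_option synthInstance.maxSize 10000
set_option linter.style.haveILetI false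
set_option linter.unusedSectionVars false

namespace Cfsg.Agent.Co2Three

open Subgroup
open Cfsg.Agent.Hayden Cfsg.Agent.Hayden.Cfg Cfsg.Agent.S3342Id

/-- The exterior point of the polar line of the interior point and of the first reflection. -/
def ec : V4 := ![1, 0, 0, 2]

/-- The two anti-similitudes moving the interior point to the exterior one. -/
def Mi : Fin 2 → Matrix (Fin 4) (Fin 4) (ZMod 3) :=
  ![!![2, 1, 1, 1; 1, 0, 1, 2; 2, 0, 0, 2; 1, 1, 2, 2], !![2, 1, 1, 1; 2, 0, 2, 1; 2, 0, 0, 2; 1, 1, 2, 2]]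

/-- The reflection in a point. -/
def reflv (a v : V4) : V4 := v - (bf v a * qf a) • a

theorem Mi_qf : ∀ k v, qf ((Mi k).mulVec v) = -qf v := by decide +kernel

theorem Mi_facts : (∀ k, (Mi k).mulVec ci = e2) ∧ (∀ k, (Mi k).mulVec e1 = ci) ∧
    ((Mi 0).mulVec e2 = ![1, 1, 0, 2] ∧ (Mi 0).mulVec ec = ![1, 2, 0, 2]) ∧
    ((Mi 1).mulVec e2 = ![1, 2, 0, 2] ∧ (Mi 1).mulVec ec = ![1, 1, 0, 2]) := by decide +kernel

theorem Mi_refl : ∀ k v, (Mi k).mulVec (refl1 v) = reflv ci ((Mi k).mulVec v) ∧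
    (Mi k).mulVec (refl2 v) = reflv ((Mi k).mulVec e2) ((Mi k).mulVec v) ∧
    (Mi k).mulVec (reflc v) = reflv ((Mi k).mulVec ec) ((Mi k).mulVec v) := by decide +kernel

/-- The points whose reflections occur. -/
def IsAxis (a : V4) : Prop := a = ci ∨ a = e1 ∨ a = ![1, 1, 0, 2] ∨ a = ![1, 2, 0, 2]

theorem reflv_facts : ∀ a : V4, IsAxis a →
    (∀ v, v 2 = 0 → (reflv a v) 2 = 0) ∧ (∀ u v, reflv a (u + v) = reflv a u + reflv a v) ∧
    (∀ (i : ZMod 3) v, reflv a (i • v) = i • reflv a v) ∧ reflv a e2 = e2 ∧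
    (∀ v, qf (reflv a v) = qf v) ∧ (∀ v, (reflv a v) 2 = v 2) := by
  intro a ha
  have h1 : ∀ v, v 2 = 0 → (reflv a v) 2 = 0 ∧ True := by rcases ha with rfl | rfl | rfl | rfl <;> decide +kernel
  refine ⟨fun v hv => (h1 v hv).1, fun u v => ?_, fun i v => ?_, ?_, ?_, ?_⟩
  · have e : bf (u + v) a = bf u a + bf v a := by simp only [bf, Pi.add_apply]; ring
    simp only [reflv, e, add_mul, add_smul]
    abel
  · have e : bf (i • v) a = i * bf v a := by simp only [bf, Pi.smul_apply, smul_eq_mul]; ring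
    rw [reflv, reflv, e, smul_sub, smul_smul, mul_assoc]
  · rcases ha with rfl | rfl | rfl | rfl <;> decide +kernel
  · rcases ha with rfl | rfl | rfl | rfl <;> decide +kernel
  · rcases ha with rfl | rfl | rfl | rfl <;> decide +kernel

theorem sign_facts : ∀ σ ε : ZMod 3, σ ≠ 0 → ε ≠ 0 →
    reflv ci (σ • e0) = -σ • e3 ∧ reflv ci (ε • e1) = ε • e1 ∧ reflv ci (-σ • e3) = σ • e0 ∧
    ∃ k : Fin 2,
      reflv ((Mi k).mulVec e2) (σ • e0) = (2 : ZMod 3) • (σ • e0) + ((1 : ZMod 3) • (ε • e1) + (1 : ZMod 3) • (-σ • e3)) ∧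
      reflv ((Mi k).mulVec e2) (ε • e1) = (2 : ZMod 3) • (σ • e0) + ((0 : ZMod 3) • (ε • e1) + (2 : ZMod 3) • (-σ • e3)) ∧
      reflv ((Mi k).mulVec e2) (-σ • e3) = (1 : ZMod 3) • (σ • e0) + ((1 : ZMod 3) • (ε • e1) + (2 : ZMod 3) • (-σ • e3)) ∧
      reflv ((Mi k).mulVec ec) (σ • e0) = (2 : ZMod 3) • (σ • e0) + ((2 : ZMod 3) • (ε • e1) + (1 : ZMod 3) • (-σ • e3)) ∧
      reflv ((Mi k).mulVec ec) (ε • e1) = (1 : ZMod 3) • (σ • e0) + ((0 : ZMod 3) • (ε • e1) + (1 : ZMod 3) • (-σ • e3)) ∧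
      reflv ((Mi k).mulVec ec) (-σ • e3) = (1 : ZMod 3) • (σ • e0) + ((2 : ZMod 3) • (ε • e1) + (2 : ZMod 3) • (-σ • e3)) ∧
      ((1 : ZMod 3) • (σ • e0) + ((2 : ZMod 3) • (ε • e1) + (1 : ZMod 3) • (-σ • e3)) = (Mi k).mulVec ec ∨
        (1 : ZMod 3) • (σ • e0) + ((2 : ZMod 3) • (ε • e1) + (1 : ZMod 3) • (-σ • e3)) = -(Mi k).mulVec ec) ∧
      (ε • e1 = (Mi k).mulVec (ec - e2) ∨ ε • e1 = (Mi k).mulVec (-(ec - e2))) := by decide +kernel

theorem swap_facts : (∀ (k : Fin 2) v, (Mi k).mulVec (reflv (ec - e2) v) = reflv e1 ((Mi k).mulVec v)) ∧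
    (∀ σ ε : ZMod 3, σ ≠ 0 → ε ≠ 0 → reflv e1 (σ • e0) = σ • e0 ∧
      reflv e1 (ε • e1) = (0 : ZMod 3) • (σ • e0) + ((2 : ZMod 3) • (ε • e1) + (0 : ZMod 3) • (-σ • e3)) ∧
      reflv e1 (-σ • e3) = -σ • e3) := by decide +kernel

theorem frame_facts : (∀ u : V4, u 2 = 0 → ∀ i : ZMod 3, refl1 u = -u + i • e2 →
    ∃ ε : ZMod 3, u = ε • e1) ∧
    (∀ σ ρ ε : ZMod 3, σ ≠ 0 → ρ ≠ 0 → ε ≠ 0 →
      qf ((2 : ZMod 3) • (σ • e0) + ((1 : ZMod 3) • (ε • e1) + (1 : ZMod 3) • (ρ • e3))) = 0 → ρ = -σ) ∧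
    (∀ σ : ZMod 3, (σ • e0) 2 = 0 ∧ (σ • e1) 2 = 0 ∧ (σ • e3) 2 = 0) ∧
    (ec - e2) 1 = 0 ∧ (-(ec - e2)) 1 = 0 ∧ ec 1 = 0 ∧ ec 2 = 0 := by decide +kernel

theorem pt_coords : ∀ v < 27, vadd (vadd (vsm (v % 3) 1) (vsm (v / 3 % 3) 3)) (vsm (v / 9) 9) = v ∧
    v % 3 < 3 ∧ v / 3 % 3 < 3 ∧ v / 9 < 3 := by decide +kernel

theorem map_chk : app swMap 9 = 2 ∧ vadd 2 2 = 1 ∧ app zMap 3 = vadd 3 3 := by decide +kernel

theorem plane_L : ∀ v : V4, v 1 = 0 → v 2 = 0 → ∃ i j : ZMod 3, v = i • ci + j • ec := by decide +kernel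

theorem L_comb : ∀ i j : ZMod 3, (i • ci + j • ec) 1 = 0 ∧ (i • ci + j • ec) 2 = 0 := by decide +kernel

namespace Loc

variable {G : Type*} [Group G] [Finite G] (L : Loc G)

theorem bar_inj0 {u v : V4} (hu : u 2 = 0) (hv : v 2 = 0) (h : L.bar u = L.bar v) : u = v := by
  obtain ⟨i, hi⟩ := L.bar_eq.1 h
  have h2 := congrFun hi 2
  rw [hu, Pi.add_apply, hv, zero_add] at h2
  have : i = 0 := by
    have key : ∀ i : ZMod 3, (i • e2) 2 = 0 → i = 0 := by decide +kernel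
    exact key i h2.symm
  rw [hi, this, zero_smul, add_zero]

/-- Equal involutions modulo the point are equal. -/
theorem lift_eq {u v : G} (hu : u ∈ L.CB) (hv : v ∈ L.CB) (u2 : u * u = 1) (v2 : v * v = 1)
    (h : L.pr ⟨u, hu⟩ = L.pr ⟨v, hv⟩) : u = v := by
  obtain ⟨i, hi⟩ := L.pr_eq.1 h
  change u = v * L.el (i • e2) at hi
  have hc : Commute v (L.el (i • e2)) := by
    rw [L.el_smul]; exact (show Commute v (L.el e2) from mem_centralizer_singleton_iff.1 hv).pow_right _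
  have h2 : L.el (i • e2) * L.el (i • e2) = 1 := by
    rw [hi] at u2
    calc L.el (i • e2) * L.el (i • e2) = v * v * (L.el (i • e2) * L.el (i • e2)) := by rw [v2, one_mul]
      _ = v * (v * L.el (i • e2)) * L.el (i • e2) := by group
      _ = v * (L.el (i • e2) * v) * L.el (i • e2) := by rw [hc.eq]
      _ = 1 := by rw [← u2]; group
  have h1 : L.el (i • e2) = 1 := by
    calc L.el (i • e2) = L.el (i • e2) ^ 3 * (L.el (i • e2) * L.el (i • e2))⁻¹ := by rw [pow_three]; group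
      _ = 1 := by rw [L.el_cube, h2]; group
  rw [hi, h1, mul_one]

/-- What commutes with an involution modulo the point commutes with it. -/
theorem lift_comm {u v : G} (hu : u ∈ L.CB) (hv : v ∈ L.CB) (u2 : u * u = 1)
    (h : Commute (L.pr ⟨v, hv⟩) (L.pr ⟨u, hu⟩)) : Commute v u := by
  refine mul_inv_eq_iff_eq_mul.1 (L.lift_eq (mul_mem (mul_mem hv hu) (inv_mem hv)) hu
    (by rw [show v * u * v⁻¹ * (v * u * v⁻¹) = v * (u * u) * v⁻¹ by group, u2]; group) u2 ?_)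
  rw [show (⟨v * u * v⁻¹, mul_mem (mul_mem hv hu) (inv_mem hv)⟩ : L.CB) = ⟨v, hv⟩ * ⟨u, hu⟩ * ⟨v, hv⟩⁻¹
    from rfl, map_mul, map_mul, map_inv, h.eq, mul_inv_cancel_right]

/-- An involution above an involution. -/
theorem lift_invol {x : L.XB} (hx : x * x = 1) : ∃ (u : G) (hu : u ∈ L.CB), u * u = 1 ∧ L.pr ⟨u, hu⟩ = x := by
  obtain ⟨⟨p, hp⟩, rfl⟩ := QuotientGroup.mk'_surjective L.NB x
  rw [← map_mul, L.pr_eq_one] at hx
  obtain ⟨i, hi⟩ := hx
  change p * p = L.el (i • e2) at hi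
  refine ⟨p * (p * p), mul_mem hp (mul_mem hp hp), ?_, ?_⟩
  · calc p * (p * p) * (p * (p * p)) = p * p * (p * p) * (p * p) := by group
      _ = L.el (i • e2) ^ 3 := by rw [hi, pow_three]; group
      _ = 1 := L.el_cube _
  · refine L.pr_eq.2 ⟨i, ?_⟩
    show p * (p * p) = p * L.el (i • e2)
    rw [hi]

/-- An involution reflecting modulo the point reflects. -/
theorem act_of_bar {a : V4} (ha : IsAxis a) {p : G} (hp : p ∈ L.CB)
    (h : ∀ v : V4, L.pr ⟨p, hp⟩ * L.bar v * (L.pr ⟨p, hp⟩)⁻¹ = L.bar (reflv a v)) (v : V4) :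
    p * L.el v * p⁻¹ = L.el (reflv a v) := by
  obtain ⟨r1, r2, r3, r4, r5, r6⟩ := reflv_facts a ha
  have hn : ∀ u, ∃ w, p * L.el u * p⁻¹ = L.el w := fun u => by
    obtain ⟨i, hi⟩ := L.pr_conj.1 (h u)
    exact ⟨_, hi⟩
  obtain ⟨M, hM, hMa⟩ := L.norm_sim p hn
  have hMe : M.mulVec e2 = e2 := L.el_inj (by
    rw [← hMa, (show Commute p (L.el e2) from mem_centralizer_singleton_iff.1 hp).eq, mul_inv_cancel_right])
  have hiso : ∀ u, qf (M.mulVec u) = qf u := by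
    rcases hM with e | e
    · exact e
    · exfalso
      have := e e2
      rw [hMe] at this
      exact absurd this (by decide +kernel)
  obtain ⟨i, hi⟩ := L.pr_conj.1 (h v)
  rw [hMa] at hi
  have e := L.el_inj hi
  have hb : bf (M.mulVec v) (M.mulVec e2) = bf v e2 := by
    rw [bf_eq, ← Matrix.mulVec_add, hiso, hiso, hiso, bf_eq]
  rw [hMe, e] at hb
  have key : ∀ (w u : V4) (i : ZMod 3), w 2 = u 2 → bf (w + i • e2) e2 = bf u e2 → i = 0 := by
    intro w u i hw hb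
    have h1 : bf (w + i • e2) e2 = bf w e2 + i * bf e2 e2 := by
      simp only [bf, Pi.add_apply, Pi.smul_apply, smul_eq_mul]; ring
    have h2 : bf w e2 = bf u e2 := by simp [bf, e2, hw]
    rw [h1, h2, add_eq_left] at hb
    exact (mul_eq_zero.1 hb).resolve_right (by decide +kernel)
  rw [hMa, e, key _ v i (r6 v) hb, zero_smul, add_zero]

/-- The isomorphism with the model, with the frame on the plane. -/
theorem exists_model : ∃ (Φ : Closure.W ≃* L.XB) (σ ε : ZMod 3), σ ≠ 0 ∧ ε ≠ 0 ∧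
    Φ (Quot.pt 1) = L.bar (σ • e0) ∧ Φ (Quot.pt 3) = L.bar (ε • e1) ∧ Φ (Quot.pt 9) = L.bar (-σ • e3) ∧
    ∀ a b c : ℕ, a < 3 → b < 3 → c < 3 → Φ (Quot.pt (a + 3 * b + 9 * c)) =
      L.bar ((a : ZMod 3) • (σ • e0) + ((b : ZMod 3) • (ε • e1) + (c : ZMod 3) • (-σ • e3))) := by
  classical
  obtain ⟨el, C, s, h, S, hcomm, hcz, hh, hh9, hh27, ⟨m, N⟩, h10, h19, hO, hpts⟩ := L.exists_frame
  open Cfsg.Agent.S3342Id.Closure Cfsg.Agent.S3342Id.Seven in
  have hiso : ∃ φ : Closure.W ≃* L.XB,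
      φ Quot.a27 = el 27 ∧ φ Quot.a1 = el 1 ∧ φ (Quot.pW Quot.ws) = s := by
    obtain ⟨f, B, φ, hφ, hW, hL, hm, hzG, hval⟩ := exists_emb_neg C S N hcomm
    have hM : ∀ i < 648, el i ∈ φ.range := fun i hi => hL (B.all i hi)
    have hsM : s ∈ φ.range := hL ⟨_, B.es⟩
    have hOM : ∀ v < 27, C.Orb v → ∃ g ∈ φ.range, g * el 9 * g⁻¹ = el (vi v) := fun v hv ho =>
      orb_eight C S N hM hsM hm v ((hO v hv).1 ho)
    have hN := norm_le C hM hOM
    have hMc : Nat.card φ.range = 51840 := by rw [← Nat.card_congr (MonoidHom.ofInjective hφ).toEquiv, hW]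
    have hC : 1152 ≤ Nat.card ↥(Closure.W ⊓ Subgroup.centralizer {z0}) := by
      have h := class_le
      rw [hW] at h
      omega
    have htop : φ.range = ⊤ := by
      refine top_of_hom φ hφ z0_mem z0_sq z0_ne hzG (hcz.trans hC)
        (fun t ht t2 t1 => exists_three hW ht t2 t1) ?_
        (controls C S hM hsM hOM (h10.trans hN) (h19.trans hN) (by rw [hMc]; norm_num))
      intro U hUA hU3 hUf
      have h45 := card_lt hW hUA hU3 hUf
      calc Nat.card (Subgroup.centralizer ({el 81} : Set L.XB)) * Nat.card U ≤ 1152 * 44 :=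
            Nat.mul_le_mul hcz (by omega)
        _ < Nat.card Closure.W := by rw [hW]; norm_num
    refine ⟨MulEquiv.ofBijective φ ⟨hφ, MonoidHom.range_eq_top.1 htop⟩, ?_, ?_, ?_⟩
    · exact hval 0 (by norm_num)
    · exact hval 2 (by norm_num)
    · exact hval 3 (by norm_num)
  obtain ⟨φ, f27, f1, fs⟩ := hiso
  have h27 : el 27 = el (vi 9) := by rw [chk_vi.2.2.2.2]
  have f9 : φ Quot.a9 = el (vi 1) := by
    rw [Quot.a9_eq, map_mul, map_mul, map_mul, map_inv, f27, fs, h27,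
      show s * (el (vi 9) * el (vi 9)) * s⁻¹ = (s * el (vi 9) * s⁻¹) * (s * el (vi 9) * s⁻¹) by group,
      S.act 9 (by norm_num), map_chk.1, ← C.el_vadd (by norm_num) (by norm_num), map_chk.2.1]
  have fpt : ∀ v < 27, φ (Quot.pt v) = el (vi v) := fun v hv => by
    obtain ⟨e, d1, d2, d3⟩ := pt_coords v hv
    have hlt : ∀ {c w : ℕ}, c < 3 → w < 27 → vsm c w < 27 := fun {c w} hc hw =>
      (show ∀ c < 3, ∀ w < 27, vsm c w < 27 by decide +kernel) c hc w hw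
    conv_rhs => rw [← e]
    rw [Quot.pt, map_mul, map_mul, map_pow, map_pow, map_pow, f9, f1, f27, h27,
      C.el_vadd (vadd_lt _ _) (hlt d3 (by norm_num)), C.el_vadd (hlt d1 (by norm_num)) (hlt d2 (by norm_num)),
      C.el_vsm d1 (by norm_num), C.el_vsm d2 (by norm_num), C.el_vsm d3 (by norm_num), chk_vi.2.2.2.1]
  set Φ : Closure.W ≃* L.XB := φ.trans (MulAut.conj h) with hΦ
  have Φpt : ∀ v < 27, Φ (Quot.pt v) = h * el (vi v) * h⁻¹ := fun v hv => by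
    rw [hΦ, MulEquiv.trans_apply, fpt v hv, MulAut.conj_apply]
  -- the third point
  obtain ⟨u3, hu32, hu3, -⟩ := hpts 3 (by norm_num)
  have hz3 : L.tb * L.bar u3 * L.tb⁻¹ = L.bar (-u3) := by
    rw [L.bar_neg, ← hu3, ← hh]
    have hz := C.conj_z (v := 3) (by norm_num)
    rw [map_chk.2.2, C.el_vadd (by norm_num) (by norm_num)] at hz
    have h3 : el (vi 3) * el (vi 3) = (el (vi 3))⁻¹ := by
      refine eq_inv_of_mul_eq_one_left ?_
      have hj := chk_j.1 3 (by norm_num)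
      rw [C.mul _ hj _ hj, C.mul _ (T_lt hj hj) _ hj, chk_j.2.2 3 (by norm_num), C.el_zero]
    rw [h3] at hz
    calc h * el 81 * h⁻¹ * (h * el (vi 3) * h⁻¹) * (h * el 81 * h⁻¹)⁻¹ = h * (el 81 * el (vi 3) * (el 81)⁻¹) * h⁻¹ := by
          group
      _ = _ := by rw [hz]; group
  rw [L.tb_act] at hz3
  obtain ⟨i, hi⟩ := L.bar_eq.1 hz3
  obtain ⟨ε, rfl⟩ := frame_facts.1 u3 hu32 i hi
  -- the signs
  obtain ⟨σ, hσ, hs1⟩ : ∃ σ : ZMod 3, σ ≠ 0 ∧ Φ (Quot.pt 1) = L.bar (σ • e0) := by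
    have e := Φpt 1 (by norm_num)
    rw [chk_vi.2.2.1] at e
    rcases hh9 with h9 | h9 <;> rw [h9] at e
    · exact ⟨1, one_ne_zero, by rw [e, one_smul]⟩
    · exact ⟨-1, by decide, by rw [e, neg_one_smul]⟩
  obtain ⟨ρ, hρ, hs9⟩ : ∃ ρ : ZMod 3, ρ ≠ 0 ∧ Φ (Quot.pt 9) = L.bar (ρ • e3) := by
    have e := Φpt 9 (by norm_num)
    rw [chk_vi.2.2.2.2] at e
    rcases hh27 with h9 | h9 <;> rw [h9] at e
    · exact ⟨1, one_ne_zero, by rw [e, one_smul]⟩
    · exact ⟨-1, by decide, by rw [e, neg_one_smul]⟩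
  have hs3 : Φ (Quot.pt 3) = L.bar (ε • e1) := (Φpt 3 (by norm_num)).trans hu3
  have hε : ε ≠ 0 := fun e => by
    rw [e, zero_smul, L.bar_zero] at hs3
    rw [Φpt 3 (by norm_num), conj_eq_one_iff, ← C.el_zero] at hs3
    rw [show el 0 = el (vi 0) by rw [chk_vi.2.1]] at hs3
    exact absurd (C.vi_inj (by norm_num) (by norm_num) hs3) (by norm_num)
  have hall : ∀ a b c : ℕ, a < 3 → b < 3 → c < 3 → Φ (Quot.pt (a + 3 * b + 9 * c)) =
      L.bar ((a : ZMod 3) • (σ • e0) + ((b : ZMod 3) • (ε • e1) + (c : ZMod 3) • (ρ • e3))) := by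
    intro a b c ha hb hc
    have hval : ∀ {n : ℕ}, n < 3 → ((n : ZMod 3)).val = n := fun hn => by rw [ZMod.val_natCast, Nat.mod_eq_of_lt hn]
    rw [L.bar_add, L.bar_add, L.bar_smul (a : ZMod 3), L.bar_smul (b : ZMod 3), L.bar_smul (c : ZMod 3),
      hval ha, hval hb, hval hc, ← hs1, ← hs3, ← hs9, ← map_pow, ← map_pow, ← map_pow, ← map_mul, ← map_mul]
    refine congrArg Φ ?_
    simp only [Quot.pt, show (a + 3 * b + 9 * c) % 3 = a by omega, show (a + 3 * b + 9 * c) / 3 % 3 = b by omega,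
      show (a + 3 * b + 9 * c) / 9 = c by omega]
    norm_num [mul_assoc]
  have hρσ : ρ = -σ := by
    obtain ⟨u, hu2, hu, hu8⟩ := hpts 14 (by norm_num)
    obtain ⟨-, hq⟩ := hu8 (by decide)
    have e : Φ (Quot.pt 14) = _ := hall 2 1 1 (by norm_num) (by norm_num) (by norm_num)
    rw [Φpt 14 (by norm_num), hu] at e
    obtain rfl := L.bar_inj0 hu2 (by simp [frame_facts.2.2.1]) e
    exact frame_facts.2.1 σ ρ ε hσ hρ hε (by simpa using hq)
  subst hρσ
  exact ⟨Φ, σ, ε, hσ, hε, hs1, hs3, hs9, hall⟩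

/-- An element exchanging the roles of the two reflections. -/
structure IsSwap (r s y k : G) : Prop where
  sq : k * k = 1
  comm : Commute k L.t
  act : ∀ v, k * L.el v * k⁻¹ = L.el (reflv (ec - e2) v)
  r_s : k * r * k⁻¹ = s
  y_y : k * y * k⁻¹ = y * r * s

/-- What the interior point gives. -/
structure IsInner (r s y : G) : Prop where
  isR : L.IsR r
  isS : L.IsS s
  rs : Commute r s
  y_sq : y * y = 1
  y_t : Commute y L.t
  y_r : Commute y r
  y_s : Commute y s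
  y_ci : Commute y (L.el ci)
  y_prod : y * (L.el ec * y * (L.el ec)⁻¹) = L.el ec * (L.el ec * y * (L.el ec)⁻¹) * (L.el ec)⁻¹
  y_prod' : (L.el ec * y * (L.el ec)⁻¹) * y = L.el ec * (L.el ec * y * (L.el ec)⁻¹) * (L.el ec)⁻¹
  dec : ∀ x : G, Commute x L.t → Commute x r → Commute x (L.el ci) →
    ∃ a b c : ℕ, ∃ v w, (v = 1 ∨ v = y ∨ v = L.el ec * y * (L.el ec)⁻¹ ∨
      v = L.el ec * (L.el ec * y * (L.el ec)⁻¹) * (L.el ec)⁻¹) ∧
      w 1 = 0 ∧ w 2 = 0 ∧ c < 2 ∧ x = L.t ^ a * r ^ b * v * L.el w * s ^ c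
  free : ∀ a b : ℕ, y * L.el ec * y⁻¹ * (L.el ec)⁻¹ ≠ L.t ^ a * r ^ b
  moves : ∃ v : V4, v 1 = 0 ∧ ∀ w : V4, y * L.el v * y⁻¹ ≠ L.el w
  five : 5 ∣ Nat.card ↥(centralizer ({L.el ci} : Set G) ⊓ centralizer {L.t})
  card_le : Nat.card ↥(centralizer ({L.el ci} : Set G) ⊓ centralizer {L.t}) ≤ 4320

set_option maxHeartbeats 1000000 in
theorem exists_inner : ∃ r s y k : G, L.IsInner r s y ∧ L.IsSwap r s y k := by
  classical
  obtain ⟨Φ, σ, ε, hσ, hε, p1, p3, p9, pall⟩ := L.exists_model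
  obtain ⟨s1, s2, s3, k, n1, n2, n3, n4, n5, n6, hpt16, hpt3⟩ := sign_facts σ ε hσ hε
  set M := Mi k with hMdef
  obtain ⟨g0, hg0⟩ := L.realise M (Or.inr (Mi_qf k))
  have hMci : M.mulVec ci = e2 := Mi_facts.1 k
  have haE : IsAxis (M.mulVec e2) := by
    fin_cases k
    · exact Or.inr (Or.inr (Or.inl Mi_facts.2.2.1.1))
    · exact Or.inr (Or.inr (Or.inr Mi_facts.2.2.2.1))
  have haC : IsAxis (M.mulVec ec) := by
    fin_cases k
    · exact Or.inr (Or.inr (Or.inr Mi_facts.2.2.1.2))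
    · exact Or.inr (Or.inr (Or.inl Mi_facts.2.2.2.2))
  -- the reflections of the model act as reflections
  have bar_ext : ∀ (x : L.XB) {a : V4}, IsAxis a →
      x * L.bar (σ • e0) * x⁻¹ = L.bar (reflv a (σ • e0)) →
      x * L.bar (ε • e1) * x⁻¹ = L.bar (reflv a (ε • e1)) →
      x * L.bar (-σ • e3) * x⁻¹ = L.bar (reflv a (-σ • e3)) → ∀ v, x * L.bar v * x⁻¹ = L.bar (reflv a v) := by
    intro x a ha h0 h1 h3 v
    obtain ⟨-, hadd, hsm, he, -, -⟩ := reflv_facts a ha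
    have smul' : ∀ (i : ZMod 3) (u : V4), x * L.bar u * x⁻¹ = L.bar (reflv a u) →
        x * L.bar (i • u) * x⁻¹ = L.bar (reflv a (i • u)) := fun i u hu => by
      rw [hsm, L.bar_smul, L.bar_smul, ← hu, conj_pow]
    have mul' : ∀ u u' : V4, x * L.bar u * x⁻¹ = L.bar (reflv a u) → x * L.bar u' * x⁻¹ = L.bar (reflv a u') →
        x * L.bar (u + u') * x⁻¹ = L.bar (reflv a (u + u')) := fun u u' hu hu' => by
      rw [hadd, L.bar_add, L.bar_add, ← hu, ← hu']; group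
    have key : ∀ σ ε : ZMod 3, σ ≠ 0 → ε ≠ 0 → ∀ v : V4, v = ((v 0 * σ) • (σ • e0) +
        ((v 1 * ε) • (ε • e1) + (-(v 3 * σ)) • (-σ • e3))) + v 2 • e2 := by decide +kernel
    rw [key σ ε hσ hε v]
    refine mul' _ _ (mul' _ _ (smul' _ _ h0) (mul' _ _ (smul' _ _ h1) (smul' _ _ h3))) (smul' _ _ ?_)
    have hb : L.bar e2 = 1 := by rw [bar]; exact L.pr_eq_one.2 ⟨1, by rw [one_smul]⟩
    rw [he, hb, mul_one, mul_inv_cancel]
  have conjΦ : ∀ {x w : Closure.W}, x * x = 1 → ∀ {u : Closure.W}, x * u * x = w → Φ x * Φ u * (Φ x)⁻¹ = Φ w := by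
    intro x w hx u h
    rw [← map_inv, inv_eq_of_mul_eq_one_right hx, ← map_mul, ← map_mul, h]
  obtain ⟨i19, i13, i16, -⟩ := Quot.invol
  have h19 : ∀ v, Φ Quot.r19 * L.bar v * (Φ Quot.r19)⁻¹ = L.bar (reflv ci v) := by
    refine bar_ext _ (Or.inl rfl) ?_ ?_ ?_
    · rw [← p1, conjΦ i19 Quot.act_r19.1, p9, s1]
    · rw [← p3, conjΦ i19 Quot.act_r19.2.1, p3, s2]
    · rw [← p9, conjΦ i19 Quot.act_r19.2.2, p1, s3]
  have h13 : ∀ v, Φ Quot.r13 * L.bar v * (Φ Quot.r13)⁻¹ = L.bar (reflv (M.mulVec e2) v) := by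
    refine bar_ext _ haE ?_ ?_ ?_
    · rw [← p1, conjΦ i13 Quot.act_r13.1, pall 2 1 1 (by norm_num) (by norm_num) (by norm_num), n1]; rfl
    · rw [← p3, conjΦ i13 Quot.act_r13.2.1, pall 2 0 2 (by norm_num) (by norm_num) (by norm_num), n2]; rfl
    · rw [← p9, conjΦ i13 Quot.act_r13.2.2, pall 1 1 2 (by norm_num) (by norm_num) (by norm_num), n3]; rfl
  have h16 : ∀ v, Φ Quot.r16 * L.bar v * (Φ Quot.r16)⁻¹ = L.bar (reflv (M.mulVec ec) v) := by
    refine bar_ext _ haC ?_ ?_ ?_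
    · rw [← p1, conjΦ i16 Quot.act_r16.1, pall 2 2 1 (by norm_num) (by norm_num) (by norm_num), n4]; rfl
    · rw [← p3, conjΦ i16 Quot.act_r16.2.1, pall 1 0 1 (by norm_num) (by norm_num) (by norm_num), n5]; rfl
    · rw [← p9, conjΦ i16 Quot.act_r16.2.2, pall 1 2 2 (by norm_num) (by norm_num) (by norm_num), n6]; rfl
  -- moving the point so that the reflection becomes the first of the model
  have hsurjM : ∀ w, ∃ v, M.mulVec v = w :=
    Finite.surjective_of_injective fun a b e => L.el_inj (by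
      have h : g0 * L.el a * g0⁻¹ = g0 * L.el b * g0⁻¹ := by rw [hg0, hg0]; exact congrArg L.el e
      exact mul_left_cancel (mul_right_cancel h))
  set t0 := g0 * L.t * g0⁻¹ with ht0
  have t0act : ∀ w, t0 * L.el w * t0⁻¹ = L.el (reflv ci w) := fun w => by
    obtain ⟨v, rfl⟩ := hsurjM w
    rw [← (Mi_refl k v).1, ← hg0, ← hg0, ← L.t_act, ht0]; group
  have t0B : t0 ∈ L.CB := mem_centralizer_singleton_iff.2 (mul_inv_eq_iff_eq_mul.1 (by
    rw [t0act]; exact congrArg L.el (by decide +kernel)))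
  have t0sq : t0 * t0 = 1 := by
    rw [ht0, show g0 * L.t * g0⁻¹ * (g0 * L.t * g0⁻¹) = g0 * (L.t * L.t) * g0⁻¹ by group, L.t_sq]; group
  set T0 := L.pr ⟨t0, t0B⟩ with hT0
  have T0act : ∀ v, T0 * L.bar v * T0⁻¹ = L.bar (reflv ci v) := fun v =>
    L.pr_conj.2 ⟨0, by rw [zero_smul, add_zero]; exact t0act v⟩
  have T0sq : T0 * T0 = 1 := by
    rw [hT0, ← map_mul, show (⟨t0, t0B⟩ : L.CB) * ⟨t0, t0B⟩ = 1 from Subtype.ext t0sq, map_one]
  set R := Φ Quot.r19 with hR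
  have Rsq : R * R = 1 := by rw [hR, ← map_mul, i19, map_one]
  obtain ⟨el', C', -, hV'⟩ := L.exists_elB
  obtain ⟨u, hu⟩ : ∃ u : V4, T0 * R = L.bar u := by
    have hc : ∀ v, (T0 * R) * L.bar v * (T0 * R)⁻¹ = L.bar v := fun v => by
      rw [show T0 * R * L.bar v * (T0 * R)⁻¹ = T0 * (R * L.bar v * R⁻¹) * T0⁻¹ by group, h19, T0act]
      exact congrArg L.bar ((show ∀ v, reflv ci (reflv ci v) = v by decide +kernel) v)
    obtain ⟨j, hj, hje⟩ := C'.cent_VJ (g := T0 * R) fun v hv => by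
      obtain ⟨u, -, hu⟩ := L.bar_orth hV' C' hv
      rw [hu]; exact hc u
    obtain ⟨u, -, hu⟩ := L.bar_orth hV' C' hj
    exact ⟨u, hje.symm.trans hu⟩
  have hTu : T0 = L.bar u * R := by rw [← hu, mul_assoc, Rsq, mul_one]
  have hNu : L.bar (reflv ci u) = L.bar (-u) := by
    have h1 : R * L.bar u * R⁻¹ = (L.bar u)⁻¹ := by
      have e := T0sq
      rw [hTu] at e
      rw [inv_eq_of_mul_eq_one_right Rsq]
      exact eq_inv_of_mul_eq_one_right (by rw [← e]; group)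
    rw [← h19, h1, L.bar_neg]
  set w := u + u with hw
  set g := (L.el w)⁻¹ * g0 with hgdef
  have gact : ∀ v, g * L.el v * g⁻¹ = L.el (M.mulVec v) := fun v => by
    rw [hgdef, show (L.el w)⁻¹ * g0 * L.el v * ((L.el w)⁻¹ * g0)⁻¹ = (L.el w)⁻¹ * (g0 * L.el v * g0⁻¹) * L.el w by
      group, hg0, mul_assoc, (L.el_comm _ w).eq, inv_mul_cancel_left]
  have gci : g * L.el ci * g⁻¹ = L.el e2 := by rw [gact, hMci]
  set t1 := g * L.t * g⁻¹ with ht1
  have t1e : t1 = (L.el w)⁻¹ * t0 * L.el w := by rw [ht1, ht0, hgdef]; group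
  have t1B : t1 ∈ L.CB := by rw [t1e]; exact mul_mem (mul_mem (inv_mem (L.el_mem_CB w)) t0B) (L.el_mem_CB w)
  have t1sq : t1 * t1 = 1 := by
    rw [ht1, show g * L.t * g⁻¹ * (g * L.t * g⁻¹) = g * (L.t * L.t) * g⁻¹ by group, L.t_sq]; group
  have hT1 : L.pr ⟨t1, t1B⟩ = R := by
    have e : (⟨t1, t1B⟩ : L.CB) = ⟨L.el w, L.el_mem_CB w⟩⁻¹ * ⟨t0, t0B⟩ * ⟨L.el w, L.el_mem_CB w⟩ := Subtype.ext t1e
    rw [e, map_mul, map_mul, map_inv]
    show (L.bar w)⁻¹ * T0 * L.bar w = R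
    obtain ⟨-, hadd, -, -, -, -⟩ := reflv_facts ci (Or.inl rfl)
    have h3 : u + u = -u := by
      have key : ∀ u : V4, u + u = -u := by decide +kernel
      exact key u
    have hRw : R * L.bar w = L.bar u * R := by
      rw [hw, h3, L.bar_neg, ← mul_inv_eq_iff_eq_mul, ← L.bar_neg, h19]
      have : reflv ci (-u) = -reflv ci u := by
        rw [← neg_one_smul (ZMod 3) u, (reflv_facts ci (Or.inl rfl)).2.2.1, neg_one_smul]
      rw [this, L.bar_neg, hNu, L.bar_neg, inv_inv]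
    rw [hTu, mul_assoc, mul_assoc, hRw, ← mul_assoc (L.bar u), ← L.bar_add, ← hw, ← mul_assoc, inv_mul_cancel, one_mul]
  -- transport
  obtain ⟨rq, rqB, rq2, hrq⟩ := L.lift_invol (x := Φ Quot.r13) (by rw [← map_mul, i13, map_one])
  obtain ⟨sq, sqB, sq2, hsq⟩ := L.lift_invol (x := Φ Quot.r16) (by rw [← map_mul, i16, map_one])
  obtain ⟨f1, f2, f3, f4, f5, f6, f7, f8, f9, f10⟩ := Quot.y_facts
  obtain ⟨yq, yqB, yq2, hyq⟩ := L.lift_invol (x := Φ Quot.yv) (by rw [← map_mul, f1, map_one])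
  obtain ⟨c1, c2, c3, -, -, -⟩ := Quot.comm
  have cm : ∀ {a b : Closure.W}, a * b = b * a → Commute (Φ a) (Φ b) := fun h => Commute.map h Φ
  have back : ∀ {a b : G}, Commute a b → Commute (g⁻¹ * a * g) (g⁻¹ * b * g) := fun {a b} h => by
    have := h.conj g⁻¹
    rwa [inv_inv] at this
  have gt : g⁻¹ * t1 * g = L.t := by rw [ht1]; group
  have gc : g⁻¹ * L.el e2 * g = L.el ci := by rw [← gci]; group
  have gsq : ∀ {a : G}, a * a = 1 → g⁻¹ * a * g * (g⁻¹ * a * g) = 1 := fun {a} h => by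
    rw [show g⁻¹ * a * g * (g⁻¹ * a * g) = g⁻¹ * (a * a) * g by group, h]; group
  have pact : ∀ {p : G} (hp : p ∈ L.CB) {a : V4}, IsAxis a →
      (∀ v, L.pr ⟨p, hp⟩ * L.bar v * (L.pr ⟨p, hp⟩)⁻¹ = L.bar (reflv a v)) → ∀ {f : V4 → V4},
      (∀ v, M.mulVec (f v) = reflv a (M.mulVec v)) → ∀ v, g⁻¹ * p * g * L.el v * (g⁻¹ * p * g)⁻¹ = L.el (f v) := by
    intro p hp a ha hbar f hf v
    calc g⁻¹ * p * g * L.el v * (g⁻¹ * p * g)⁻¹ = g⁻¹ * (p * (g * L.el v * g⁻¹) * p⁻¹) * g := by group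
      _ = L.el (f v) := by rw [gact, L.act_of_bar ha hp hbar, ← hf, ← gact]; group
  set r := g⁻¹ * rq * g with hr
  set s := g⁻¹ * sq * g with hs
  set y := g⁻¹ * yq * g with hy
  have rt : Commute rq t1 := L.lift_comm t1B rqB t1sq (by rw [hT1, hrq]; exact cm c1.symm)
  have st : Commute sq t1 := L.lift_comm t1B sqB t1sq (by rw [hT1, hsq]; exact cm c2.symm)
  have yt : Commute yq t1 := L.lift_comm t1B yqB t1sq (by rw [hT1, hyq]; exact cm f2)
  have hR' : L.IsR r := ⟨gsq rq2, fun v => pact rqB haE (fun v => by rw [hrq]; exact h13 v)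
    (fun v => (Mi_refl k v).2.1) v, by rw [← gt]; exact back rt⟩
  have hS' : L.IsS s := ⟨gsq sq2, fun v => pact sqB haC (fun v => by rw [hsq]; exact h16 v)
    (fun v => (Mi_refl k v).2.2) v, by rw [← gt]; exact back st⟩
  -- the image of the fixed point
  set ch := L.el (M.mulVec ec) with hch
  have chB : ch ∈ L.CB := L.el_mem_CB _
  have gch : g⁻¹ * ch * g = L.el ec := by rw [hch, ← gact]; group
  have h16pt : Φ (Quot.pt 16) = L.bar (M.mulVec ec) ∨ Φ (Quot.pt 16) = (L.bar (M.mulVec ec))⁻¹ := by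
    have e := pall 1 2 1 (by norm_num) (by norm_num) (by norm_num)
    rw [show (1 + 3 * 2 + 9 * 1 : ℕ) = 16 from rfl] at e
    rcases hpt16 with h | h
    · left; rw [e, ← h]; simp
    · right; rw [e, ← L.bar_neg, ← h]; simp
  -- conjugation by the fixed point in both directions
  set Q1 := Φ (Quot.pt 16 * Quot.yv * (Quot.pt 16)⁻¹) with hQ1
  set Q2 := Φ (Quot.pt 16 * (Quot.pt 16 * Quot.yv * (Quot.pt 16)⁻¹) * (Quot.pt 16)⁻¹) with hQ2
  have prc : ∀ {p : G} (hp : p ∈ L.CB), L.pr ⟨ch * p * ch⁻¹, mul_mem (mul_mem chB hp) (inv_mem chB)⟩ =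
      L.bar (M.mulVec ec) * L.pr ⟨p, hp⟩ * (L.bar (M.mulVec ec))⁻¹ := fun {p} hp => by
    rw [bar, ← map_inv, ← map_mul, ← map_mul]; rfl
  set y1 := ch * yq * ch⁻¹ with hy1
  set y2 := ch * y1 * ch⁻¹ with hy2
  have y1B : y1 ∈ L.CB := mul_mem (mul_mem chB yqB) (inv_mem chB)
  have y2B : y2 ∈ L.CB := mul_mem (mul_mem chB y1B) (inv_mem chB)
  have y12 : y1 * y1 = 1 := by
    rw [hy1, show ch * yq * ch⁻¹ * (ch * yq * ch⁻¹) = ch * (yq * yq) * ch⁻¹ by group, yq2]; group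
  have y22 : y2 * y2 = 1 := by
    rw [hy2, show ch * y1 * ch⁻¹ * (ch * y1 * ch⁻¹) = ch * (y1 * y1) * ch⁻¹ by group, y12]; group
  have cyc : (L.pr ⟨y1, y1B⟩ = Q1 ∧ L.pr ⟨y2, y2B⟩ = Q2) ∨ (L.pr ⟨y1, y1B⟩ = Q2 ∧ L.pr ⟨y2, y2B⟩ = Q1) := by
    have e1 : L.pr ⟨y1, y1B⟩ = L.bar (M.mulVec ec) * Φ Quot.yv * (L.bar (M.mulVec ec))⁻¹ := by
      rw [← hyq]; exact prc yqB
    have e2 : L.pr ⟨y2, y2B⟩ = L.bar (M.mulVec ec) * L.pr ⟨y1, y1B⟩ * (L.bar (M.mulVec ec))⁻¹ := prc y1B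
    rcases h16pt with e | e
    · left
      exact ⟨by rw [e1, hQ1, ← e, map_mul, map_mul, map_inv], by rw [e2, e1, hQ2, ← e]; simp only [map_mul, map_inv]⟩
    · right
      have e' : L.bar (M.mulVec ec) = Φ ((Quot.pt 16)⁻¹) := by rw [map_inv, e, inv_inv]
      have p3' : (Quot.pt 16)⁻¹ = Quot.pt 16 * Quot.pt 16 := inv_eq_of_mul_eq_one_right (by rw [← mul_assoc]; exact f10)
      have p4 : (Quot.pt 16)⁻¹ * (Quot.pt 16)⁻¹ = Quot.pt 16 := by
        rw [← _root_.mul_inv_rev, ← p3', inv_inv]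
      refine ⟨?_, ?_⟩
      · rw [e1, e', hQ2, ← map_inv, ← map_mul, ← map_mul]
        refine congrArg Φ ?_
        conv_lhs => rw [p3']
        group
      · rw [e2, e1, e', hQ1, ← map_inv, ← map_mul, ← map_mul, ← map_mul, ← map_mul]
        refine congrArg Φ ?_
        calc _ = (Quot.pt 16)⁻¹ * (Quot.pt 16)⁻¹ * Quot.yv * ((Quot.pt 16)⁻¹ * (Quot.pt 16)⁻¹)⁻¹ := by
              simp only [_root_.mul_inv_rev, inv_inv, mul_assoc]
          _ = _ := by rw [p4]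
  have hy12 : Commute yq y1 := by
    refine L.lift_comm y1B yqB y12 ?_
    rw [hyq]
    rcases cyc with ⟨e, -⟩ | ⟨e, -⟩
    · rw [e, hQ1]; exact cm (f7.trans f8.symm)
    · rw [e, hQ2]
      refine cm ?_
      rw [← f7]
      exact (congrArg (Quot.yv * ·) (f7.trans f8.symm)).trans (mul_assoc _ _ _).symm
  have hprod : yq * y1 = y2 := by
    refine L.lift_eq (mul_mem yqB y1B) y2B (by
      calc yq * y1 * (yq * y1) = yq * (y1 * yq) * y1 := by group
        _ = yq * (yq * y1) * y1 := by rw [hy12.eq]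
        _ = (yq * yq) * (y1 * y1) := by group
        _ = 1 := by rw [yq2, y12, mul_one]) y22 ?_
    rw [show (⟨yq * y1, mul_mem yqB y1B⟩ : L.CB) = ⟨yq, yqB⟩ * ⟨y1, y1B⟩ from rfl, map_mul, hyq]
    rcases cyc with ⟨e, e'⟩ | ⟨e, e'⟩ <;> rw [e, e', ← map_mul] <;> refine congrArg Φ ?_
    · exact f7
    · rw [← f7, ← mul_assoc, f1, one_mul]
  have backc : ∀ p : G, g⁻¹ * (ch * p * ch⁻¹) * g = L.el ec * (g⁻¹ * p * g) * (L.el ec)⁻¹ := fun p => by
    rw [← gch]; group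
  have gy1 : g⁻¹ * y1 * g = L.el ec * y * (L.el ec)⁻¹ := backc yq
  have gy2 : g⁻¹ * y2 * g = L.el ec * (L.el ec * y * (L.el ec)⁻¹) * (L.el ec)⁻¹ := by rw [← gy1]; exact backc y1
  have gmul : ∀ a b : G, g⁻¹ * (a * b) * g = g⁻¹ * a * g * (g⁻¹ * b * g) := fun a b => by group
  have toB : ∀ {x : G}, Commute x (L.el ci) → g * x * g⁻¹ ∈ L.CB := fun {x} hx =>
    mem_centralizer_singleton_iff.2 (by rw [← gci]; exact (hx.conj g).eq)
  let D : Subgroup G := centralizer ({L.el ci} : Set G) ⊓ centralizer {L.t}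
  let ι : D →* L.CB :=
    { toFun := fun d => ⟨g * d.1 * g⁻¹, toB (mem_centralizer_singleton_iff.1 (mem_inf.1 d.2).1)⟩
      map_one' := Subtype.ext (by simp)
      map_mul' := fun a b => Subtype.ext (by simp [mul_assoc]) }
  let f : D →* Closure.W := Φ.symm.toMonoidHom.comp (L.pr.comp ι)
  have hf : ∀ d, Φ (f d) = L.pr (ι d) := fun d => Φ.apply_symm_apply _
  have hrange : f.range = centralizer ({Quot.r19} : Set Closure.W) := by
    refine le_antisymm ?_ fun z hz => ?_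
    · rintro _ ⟨d, rfl⟩
      refine mem_centralizer_singleton_iff.2 (Φ.injective ?_)
      have hc : Commute (ι d) ⟨t1, t1B⟩ := Subtype.ext (by
        show g * d.1 * g⁻¹ * t1 = t1 * (g * d.1 * g⁻¹)
        rw [ht1]; exact ((show Commute d.1 L.t from mem_centralizer_singleton_iff.1 (mem_inf.1 d.2).2).conj g).eq)
      have h := (hc.map L.pr).eq
      rw [map_mul, map_mul, hf, ← hR, ← hT1]
      exact h
    · obtain ⟨⟨p, hp⟩, hpe⟩ := QuotientGroup.mk'_surjective L.NB (Φ z)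
      have hc : Commute p t1 := L.lift_comm t1B hp t1sq (by
        rw [hpe, hT1]; exact cm (mem_centralizer_singleton_iff.1 hz))
      have hmem : g⁻¹ * p * g ∈ D := mem_inf.2 ⟨mem_centralizer_singleton_iff.2 (by
          rw [← gc]; exact (back (show Commute p (L.el e2) from mem_centralizer_singleton_iff.1 hp)).eq),
        mem_centralizer_singleton_iff.2 (by rw [← gt]; exact (back hc).eq)⟩
      refine ⟨⟨_, hmem⟩, Φ.injective ?_⟩
      rw [hf, ← hpe]
      exact congrArg _ (Subtype.ext (show g * (g⁻¹ * p * g) * g⁻¹ = p by group))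
  have hker : Nat.card f.ker ≤ 3 := by
    refine (Nat.card_le_card_of_surjective (fun i : ZMod 3 => (⟨⟨L.el (i • ci), ?_⟩, ?_⟩ : f.ker)) ?_).trans
      (Nat.card_zmod 3).le
    · refine mem_inf.2 ⟨mem_centralizer_singleton_iff.2 (L.el_comm _ _).eq, L.el_mem_Ct ?_⟩
      rw [Pi.smul_apply, e_facts.2.2.2.2.2.2.2.1, smul_zero]
    · refine MonoidHom.mem_ker.2 (Φ.injective ?_)
      rw [hf, map_one]
      refine L.pr_eq_one.2 ⟨i, ?_⟩
      show g * L.el (i • ci) * g⁻¹ = _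
      rw [gact, Matrix.mulVec_smul, hMci]
    · rintro ⟨⟨x, hx⟩, hxk⟩
      have h1 := congrArg Φ (MonoidHom.mem_ker.1 hxk)
      rw [hf, map_one] at h1
      obtain ⟨i, hi⟩ := L.pr_eq_one.1 h1
      refine ⟨i, Subtype.ext (Subtype.ext ?_)⟩
      change g * x * g⁻¹ = L.el (i • e2) at hi
      show L.el (i • ci) = x
      rw [← hMci, ← Matrix.mulVec_smul, ← gact] at hi
      exact (mul_left_cancel (mul_right_cancel hi)).symm
  obtain ⟨k1, k2, k3, k4, k5, k6, k7⟩ := Quot.kv_facts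
  obtain ⟨kq, kqB, kq2, hkq⟩ := L.lift_invol (x := Φ Quot.kv) (by rw [← map_mul, k1, map_one])
  have kqi : kq⁻¹ = kq := inv_eq_of_mul_eq_one_right kq2
  have kvi : Quot.kv⁻¹ = Quot.kv := inv_eq_of_mul_eq_one_right k1
  have kt : Commute kq t1 := L.lift_comm t1B kqB t1sq (by
    rw [hT1, hkq]
    refine cm ?_
    calc Quot.kv * Quot.r19 = Quot.kv * Quot.r19 * (Quot.kv * Quot.kv) := by rw [k1, mul_one]
      _ = _ := by rw [← mul_assoc, k2])
  have hk : ∀ v, Φ Quot.kv * L.bar v * (Φ Quot.kv)⁻¹ = L.bar (reflv e1 v) := by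
    obtain ⟨q1, q2, q3⟩ := swap_facts.2 σ ε hσ hε
    refine bar_ext _ (Or.inr (Or.inl rfl)) ?_ ?_ ?_
    · rw [← p1, conjΦ k1 k5, p1, q1]
    · rw [← p3, conjΦ k1 k6, pall 0 2 0 (by norm_num) (by norm_num) (by norm_num), q2]; rfl
    · rw [← p9, conjΦ k1 k7, p9, q3]
  have hswap : L.IsSwap r s y (g⁻¹ * kq * g) := by
    refine ⟨gsq kq2, by rw [← gt]; exact back kt, pact kqB (Or.inr (Or.inl rfl)) (fun v => by
      rw [hkq]; exact hk v) (swap_facts.1 k), ?_, ?_⟩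
    · have e : kq * rq * kq = sq := by
        refine L.lift_eq (mul_mem (mul_mem kqB rqB) kqB) sqB ?_ sq2 ?_
        · calc kq * rq * kq * (kq * rq * kq) = kq * rq * (kq * kq) * rq * kq := by group
            _ = kq * (rq * rq) * kq := by rw [kq2, mul_one]; group
            _ = 1 := by rw [rq2, mul_one, kq2]
        · rw [show (⟨kq * rq * kq, mul_mem (mul_mem kqB rqB) kqB⟩ : L.CB) = ⟨kq, kqB⟩ * ⟨rq, rqB⟩ * ⟨kq, kqB⟩
            from rfl, map_mul, map_mul, hkq, hrq, hsq, ← map_mul, ← map_mul, k3]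
      calc g⁻¹ * kq * g * r * (g⁻¹ * kq * g)⁻¹ = g⁻¹ * (kq * rq * kq⁻¹) * g := by rw [hr]; group
        _ = s := by rw [kqi, e]
    · have yr : Commute yq rq := L.lift_comm rqB yqB rq2 (by rw [hrq, hyq]; exact cm f3)
      have ys : Commute yq sq := L.lift_comm sqB yqB sq2 (by rw [hsq, hyq]; exact cm f4)
      have rs : Commute rq sq := L.lift_comm sqB rqB sq2 (by rw [hsq, hrq]; exact cm c3)
      have e : kq * yq * kq = yq * rq * sq := by
        refine L.lift_eq (mul_mem (mul_mem kqB yqB) kqB) (mul_mem (mul_mem yqB rqB) sqB) ?_ ?_ ?_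
        · calc kq * yq * kq * (kq * yq * kq) = kq * yq * (kq * kq) * yq * kq := by group
            _ = kq * (yq * yq) * kq := by rw [kq2, mul_one]; group
            _ = 1 := by rw [yq2, mul_one, kq2]
        · calc yq * rq * sq * (yq * rq * sq) = yq * (rq * sq * yq) * rq * sq := by group
            _ = yq * (yq * (rq * sq)) * rq * sq := by rw [(yr.mul_right ys).eq]
            _ = yq * yq * (rq * (sq * rq) * sq) := by group
            _ = 1 := by rw [yq2, one_mul, rs.symm.eq, ← mul_assoc rq rq, rq2, one_mul, sq2]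
        · rw [show (⟨kq * yq * kq, mul_mem (mul_mem kqB yqB) kqB⟩ : L.CB) = ⟨kq, kqB⟩ * ⟨yq, yqB⟩ * ⟨kq, kqB⟩
              from rfl,
            show (⟨yq * rq * sq, mul_mem (mul_mem yqB rqB) sqB⟩ : L.CB) = ⟨yq, yqB⟩ * ⟨rq, rqB⟩ * ⟨sq, sqB⟩
              from rfl, map_mul, map_mul, map_mul, map_mul, hkq, hyq, hrq, hsq, ← map_mul, ← map_mul, ← map_mul,
            ← map_mul, k4]
      calc g⁻¹ * kq * g * y * (g⁻¹ * kq * g)⁻¹ = g⁻¹ * (kq * yq * kq⁻¹) * g := by rw [hy]; group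
        _ = y * r * s := by rw [kqi, e, hy, hr, hs]; group
  refine ⟨r, s, y, g⁻¹ * kq * g, ⟨hR', hS', back (L.lift_comm sqB rqB sq2 (by rw [hsq, hrq]; exact cm c3)), gsq yq2,
    by rw [← gt]; exact back yt, back (L.lift_comm rqB yqB rq2 (by rw [hrq, hyq]; exact cm f3)),
    back (L.lift_comm sqB yqB sq2 (by rw [hsq, hyq]; exact cm f4)),
    by rw [← gc]; exact back (show Commute yq (L.el e2) from mem_centralizer_singleton_iff.1 yqB), ?_, ?_, ?_, ?_, ?_, ?_, ?_⟩, hswap⟩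
  · rw [← gy2, ← gy1, ← gmul, hprod]
  · rw [← gy2, ← gy1, ← gmul, ← hy12.eq, hprod]
  · -- the decomposition
    intro x xt xr xc
    set x' := g * x * g⁻¹ with hx'
    have c19 : Commute (L.pr ⟨x', toB xc⟩) R := by
      rw [← hT1]
      exact Commute.map (show Commute (⟨x', toB xc⟩ : L.CB) ⟨t1, t1B⟩ from Subtype.ext (by
        show x' * t1 = t1 * x'
        rw [ht1, hx']; exact (xt.conj g).eq)) L.pr
    have c13 : Commute (L.pr ⟨x', toB xc⟩) (Φ Quot.r13) := by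
      rw [← hrq]
      exact Commute.map (show Commute (⟨x', toB xc⟩ : L.CB) ⟨rq, rqB⟩ from Subtype.ext (by
        show x' * rq = rq * x'
        have := xr.conj g
        rw [hr, show g * (g⁻¹ * rq * g) * g⁻¹ = rq by group, ← hx'] at this
        exact this.eq)) L.pr
    obtain ⟨z, hz⟩ := Φ.surjective (L.pr ⟨x', toB xc⟩)
    rw [← hz] at c19 c13
    obtain ⟨a, -, b, -, i, hi, j, -, c, hc, hze⟩ := Quot.exists_dec (x := z)
      (Φ.injective (by rw [map_mul, map_mul]; exact c19.eq)) (Φ.injective (by rw [map_mul, map_mul]; exact c13.eq))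
    obtain ⟨v, vB, hv, hvq⟩ : ∃ (v : G) (vB : v ∈ L.CB),
        (v = 1 ∨ v = yq ∨ v = y1 ∨ v = y2) ∧ L.pr ⟨v, vB⟩ = Φ (Quot.pW (Quot.wv i)) := by
      have hw16 : Quot.pW Quot.w16 = Quot.pt 16 := Quot.pW_wPt 16
      interval_cases i
      · exact ⟨1, one_mem _, Or.inl rfl, by
          rw [show (⟨1, one_mem _⟩ : L.CB) = 1 from rfl, map_one]; exact (map_one Φ).symm⟩
      · exact ⟨yq, yqB, Or.inr (Or.inl rfl), hyq⟩
      · have e : Quot.pW (Quot.wv 2) = Quot.pt 16 * Quot.yv * (Quot.pt 16)⁻¹ := by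
          simp only [Quot.wv, Quot.pW_append, Quot.pW_reverse, hw16]; rfl
        rw [e, ← hQ1]
        rcases cyc with ⟨h, -⟩ | ⟨-, h⟩
        · exact ⟨y1, y1B, Or.inr (Or.inr (Or.inl rfl)), h⟩
        · exact ⟨y2, y2B, Or.inr (Or.inr (Or.inr rfl)), h⟩
      · have e : Quot.pW (Quot.wv 3) = Quot.pt 16 * (Quot.pt 16 * Quot.yv * (Quot.pt 16)⁻¹) * (Quot.pt 16)⁻¹ := by
          simp only [Quot.wv, Quot.pW_append, Quot.pW_reverse, hw16]; rfl
        rw [e, ← hQ2]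
        rcases cyc with ⟨-, h⟩ | ⟨h, -⟩
        · exact ⟨y2, y2B, Or.inr (Or.inr (Or.inr rfl)), h⟩
        · exact ⟨y1, y1B, Or.inr (Or.inr (Or.inl rfl)), h⟩
    obtain ⟨j', hj'⟩ : ∃ j' : ZMod 3, Φ (Quot.pt 16) ^ j = L.bar (M.mulVec (j' • ec)) := by
      rcases h16pt with e | e
      · refine ⟨(j : ZMod 3), ?_⟩
        rw [e, Matrix.mulVec_smul, L.bar_smul, ZMod.val_natCast, ← pow_eq_pow_mod j (L.bar_cube _)]
      · refine ⟨-(j : ZMod 3), ?_⟩
        rw [e, neg_smul, Matrix.mulVec_neg, L.bar_neg, inv_pow, Matrix.mulVec_smul, L.bar_smul, ZMod.val_natCast,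
          ← pow_eq_pow_mod j (L.bar_cube _)]
    have hu' : L.el (M.mulVec (j' • ec)) ∈ L.CB := L.el_mem_CB _
    have hpr : L.pr ⟨x', toB xc⟩ = L.pr (⟨t1, t1B⟩ ^ a * ⟨rq, rqB⟩ ^ b * ⟨v, vB⟩ *
        ⟨L.el (M.mulVec (j' • ec)), hu'⟩ * ⟨sq, sqB⟩ ^ c) := by
      rw [← hz, hze]
      simp only [map_mul, map_pow, hT1, hrq, hsq, hvq]
      rw [show L.pr ⟨L.el (M.mulVec (j' • ec)), hu'⟩ = Φ (Quot.pt 16) ^ j from hj'.symm]
    obtain ⟨d, hd⟩ := L.pr_eq.1 hpr
    have he : x' = t1 ^ a * rq ^ b * v * L.el (M.mulVec (j' • ec)) * sq ^ c * L.el (d • e2) := hd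
    have hsd : Commute (sq ^ c) (L.el (d • e2)) := by
      rw [L.el_smul]
      exact ((show Commute sq (L.el e2) from mem_centralizer_singleton_iff.1 sqB).pow_pow c d.val)
    refine ⟨a, b, c, g⁻¹ * v * g, d • ci + j' • ec, ?_, (L_comb _ _).1, (L_comb _ _).2, hc, ?_⟩
    · rcases hv with rfl | rfl | rfl | rfl
      · exact Or.inl (by group)
      · exact Or.inr (Or.inl rfl)
      · exact Or.inr (Or.inr (Or.inl gy1))
      · exact Or.inr (Or.inr (Or.inr gy2))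
    · have hel : L.el (M.mulVec (j' • ec)) * L.el (d • e2) = g * L.el (d • ci + j' • ec) * g⁻¹ := by
        rw [gact, ← L.el_add, Matrix.mulVec_add, Matrix.mulVec_smul M d, hMci, add_comm]
      have gp : ∀ (p : G) (n : ℕ), g⁻¹ * p ^ n * g = (g⁻¹ * p * g) ^ n := fun p n => by
        have := conj_pow (a := g⁻¹) (b := p) (i := n)
        rw [inv_inv] at this
        exact this.symm
      calc x = g⁻¹ * x' * g := by rw [hx']; group
        _ = g⁻¹ * (t1 ^ a * rq ^ b * v * (L.el (M.mulVec (j' • ec)) * L.el (d • e2)) * sq ^ c) * g := by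
          rw [he, mul_assoc (t1 ^ a * rq ^ b * v * L.el (M.mulVec (j' • ec))), hsd.eq]; group
        _ = _ := by rw [hel, ← gt, hr, hs, ← gp, ← gp, ← gp]; group
  · -- not commuting with the point
    intro a b e
    set z := Φ.symm (L.bar (M.mulVec ec)) with hz
    have hzpt : z = Quot.pt 16 ∨ z = (Quot.pt 16)⁻¹ := by
      rcases h16pt with h | h
      · exact Or.inl (by rw [hz, ← h, MulEquiv.symm_apply_apply])
      · exact Or.inr (by rw [hz, ← inv_inv (L.bar (M.mulVec ec)), ← h, ← map_inv, MulEquiv.symm_apply_apply])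
    have e' : yq * ch * yq⁻¹ * ch⁻¹ = t1 ^ a * rq ^ b := by
      have h2 := congrArg (fun x => g * x * g⁻¹) e
      simp only [hy, hr, ← gch] at h2
      rw [show g * (g⁻¹ * yq * g * (g⁻¹ * ch * g) * (g⁻¹ * yq * g)⁻¹ * (g⁻¹ * ch * g)⁻¹) * g⁻¹ =
        yq * ch * yq⁻¹ * ch⁻¹ by group] at h2
      rw [h2, ht1]
      calc g * (L.t ^ a * (g⁻¹ * rq * g) ^ b) * g⁻¹ = (g * L.t ^ a * g⁻¹) * (g * (g⁻¹ * rq * g) ^ b * g⁻¹) := by group
        _ = _ := by rw [← conj_pow, ← conj_pow, show g * (g⁻¹ * rq * g) * g⁻¹ = rq by group]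
    have h3 := congrArg L.pr (show (⟨yq, yqB⟩ * ⟨ch, chB⟩ * ⟨yq, yqB⟩⁻¹ * ⟨ch, chB⟩⁻¹ : L.CB) =
      ⟨t1, t1B⟩ ^ a * ⟨rq, rqB⟩ ^ b from Subtype.ext e')
    simp only [map_mul, map_inv, map_pow, hyq, hrq, hT1] at h3
    rw [show L.pr ⟨ch, chB⟩ = Φ z by rw [hz, MulEquiv.apply_symm_apply]; rfl, hR] at h3
    simp only [← map_inv, ← map_mul, ← map_pow] at h3
    have h4 := Φ.injective h3
    set K := Quot.r19 ^ a * Quot.r13 ^ b with hK
    have hKmem : K ∈ ([1, Quot.r19, Quot.r13, Quot.r19 * Quot.r13] : List Closure.W) := by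
      have hp : ∀ {x : Closure.W}, x * x = 1 → ∀ n : ℕ, x ^ n = 1 ∨ x ^ n = x := fun {x} hx n => by
        rcases Nat.even_or_odd' n with ⟨q, rfl | rfl⟩
        · left; rw [pow_mul, pow_two, hx, one_pow]
        · right; rw [pow_succ, pow_mul, pow_two, hx, one_pow, one_mul]
      rcases hp i19 a with e1 | e1 <;> rcases hp i13 b with e2 | e2 <;> simp [hK, e1, e2]
    have hcy : Commute K Quot.yv := by
      rw [hK]; exact ((show Commute Quot.r19 _ from f2.symm).pow_left a).mul_left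
        ((show Commute Quot.r13 _ from f3.symm).pow_left b)
    have hcp : Commute K (Quot.pt 16) := by
      rw [hK]; exact ((show Commute Quot.r19 _ from f5.symm).pow_left a).mul_left
        ((show Commute Quot.r13 _ from f6.symm).pow_left b)
    have h5 : Quot.yv * z = K * z * Quot.yv := by
      rw [← h4]; group
    refine Quot.yv_free K hKmem ?_
    rcases hzpt with e1 | e1 <;> rw [e1] at h5
    · exact h5
    · calc Quot.yv * Quot.pt 16 = Quot.pt 16 * ((Quot.pt 16)⁻¹ * Quot.yv) * Quot.pt 16 := by group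
        _ = Quot.pt 16 * (K⁻¹ * (K * (Quot.pt 16)⁻¹ * Quot.yv)) * Quot.pt 16 := by group
        _ = Quot.pt 16 * (K⁻¹ * (Quot.yv * (Quot.pt 16)⁻¹)) * Quot.pt 16 := by rw [← h5]
        _ = Quot.pt 16 * K⁻¹ * Quot.yv := by group
        _ = K⁻¹ * Quot.pt 16 * Quot.yv := by rw [hcp.inv_left.eq]
        _ = _ := by
          have hK2 : K⁻¹ = K := by
            refine inv_eq_of_mul_eq_one_right ?_
            simp only [List.mem_cons, List.not_mem_nil, or_false] at hKmem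
            rcases hKmem with e2 | e2 | e2 | e2 <;> rw [e2]
            · exact one_mul 1
            · exact i19
            · exact i13
            · rw [show Quot.r19 * Quot.r13 * (Quot.r19 * Quot.r13) = Quot.r19 * (Quot.r13 * Quot.r19) * Quot.r13 by
                group, ← c1, ← mul_assoc, i19, one_mul, i13]
          rw [hK2]
  · -- the plane is moved
    obtain ⟨v, hv1, hv⟩ : ∃ v : V4, v 1 = 0 ∧ ε • e1 = M.mulVec v := by
      rcases hpt3 with e | e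
      exacts [⟨_, frame_facts.2.2.2.1, e⟩, ⟨_, frame_facts.2.2.2.2.1, e⟩]
    refine ⟨v, hv1, fun w e => ?_⟩
    have e' : yq * L.el (ε • e1) * yq⁻¹ = L.el (M.mulVec w) := by
      rw [hv, ← gact, ← gact, ← e, hy]; group
    have h2 : L.pr ⟨yq, yqB⟩ * L.bar (ε • e1) * (L.pr ⟨yq, yqB⟩)⁻¹ = L.bar (M.mulVec w) :=
      L.pr_conj.2 ⟨0, by rw [zero_smul, add_zero]; exact e'⟩
    rw [hyq, ← p3, conjΦ f1 rfl] at h2
    have key : ∀ σ ε : ZMod 3, σ ≠ 0 → ε ≠ 0 → ∀ v : V4, ∃ a : Fin 3, ∃ b : Fin 3, ∃ c : Fin 3,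
        v = ((a.val : ZMod 3) • (σ • e0) + ((b.val : ZMod 3) • (ε • e1) + (c.val : ZMod 3) • (-σ • e3))) +
          v 2 • e2 := by decide +kernel
    obtain ⟨a, b, c, hw⟩ := key σ ε hσ hε (M.mulVec w)
    rw [hw, L.bar_add, ← pall a b c a.isLt b.isLt c.isLt,
      show L.bar ((M.mulVec w) 2 • e2) = 1 by rw [bar]; exact L.pr_eq_one.2 ⟨_, rfl⟩, mul_one] at h2
    exact Quot.yv_moves (a.val + 3 * b.val + 9 * c.val) (by omega) (Φ.injective h2)
  · -- order five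
    refine (Quot.five_cent).trans ?_
    show _ ∣ Nat.card D
    rw [← hrange, ← Subgroup.index_ker]
    exact f.ker.index_dvd_card
  · -- the bound
    show Nat.card D ≤ 4320
    have h := f.ker.card_mul_index
    rw [Subgroup.index_ker, hrange] at h
    rw [← h]
    exact (Nat.mul_le_mul hker Quot.card_cent_le).trans (by norm_num)

end Loc

end Cfsg.Agent.Co2Three
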