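import Cfsg.Agent.Lib.Co2Three.W.GridLoc
import Cfsg.Agent.Lib.Solvable.Coprime

/-!
The involution at the interior point normalises the signaliser.
-/

set_option autoImplicit false
set_option maxRecDepth 20000
set_option synthInstance.maxSize 1000
set_option linter.style.haveILetI false
set_option linter.unusedSectionVars false

namespace Cfsg.Agent.Co2Three

open Subgroup

theorem line_combos : ci = e0 + e3 ∧ ec = e0 + e3 + e3 ∧ e3 = ci + -e0 ∧ e3 = ec + ci + ci ∧ e0 = -(ci + ec) := by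
  decide +kernel

theorem swap_pairs :
    (∀ i j : Fin 4, (i = 2 ∨ i = 3) → (reflc (refl2 (cp i)) = cp j ∨ reflc (refl2 (cp i)) = -cp j) → (j = 2 ∨ j = 3)) ∧
    (∀ i j : Fin 4, (i = 2 ∨ i = 3) → (reflv (ec - e2) (cp i) = cp j ∨ reflv (ec - e2) (cp i) = -cp j) →
      (j = 0 ∨ j = 1)) ∧
    (∀ v : V4, v 1 = 0 → (reflv (ec - e2) v) 1 = 0 ∧ (refl2 v) 1 = 0) := by decide +kernel

namespace Loc

variable {G : Type*} [Group G] [Finite G] (L : Loc G) {r s y n m : G}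

/-- The points of the line orthogonal to both reflections. -/
def AL : Subgroup G where
  carrier := {x | ∃ v : V4, v 1 = 0 ∧ v 2 = 0 ∧ x = L.el v}
  one_mem' := ⟨0, rfl, rfl, L.el_zero.symm⟩
  mul_mem' := by
    rintro _ _ ⟨v, v1, v2, rfl⟩ ⟨w, w1, w2, rfl⟩
    exact ⟨v + w, by simp [v1, w1], by simp [v2, w2], (L.el_add v w).symm⟩
  inv_mem' := by
    rintro _ ⟨v, v1, v2, rfl⟩
    exact ⟨-v, by simp [v1], by simp [v2], (L.el_neg v).symm⟩

theorem AL_card : Nat.card L.AL = 9 := by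
  rw [← plane_line9]
  exact (Nat.card_eq_of_bijective (fun v : {v : V4 // v 1 = 0 ∧ v 2 = 0} => (⟨L.el v, v.1, v.2.1, v.2.2, rfl⟩ : L.AL))
    ⟨fun a b e => Subtype.ext (L.el_inj (congrArg Subtype.val e)), fun ⟨_, v, v1, v2, e⟩ =>
      ⟨⟨v, v1, v2⟩, Subtype.ext e.symm⟩⟩).symm

variable (V : L.Data r s y n) (hm : L.IsM r m)
include V hm

theorem r_mem_R' : r ∈ L.R' m :=
  ⟨L.t, L.mem_R.2 ⟨L.t, L.t_mem_P4 0, 1, one_mem _, mul_one _⟩, hm.conj⟩

theorem WR_norm : L.W ⊔ L.R' m ≤ normalizer (L.W : Set G) := sup_le Subgroup.le_normalizer (L.R'_norm hm)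

theorem WR_dec {x : G} (hx : x ∈ L.W ⊔ L.R' m) : ∃ w ∈ L.W, ∃ q ∈ L.R' m, x = w * q := by
  have h : x ∈ ((L.W ⊔ L.R' m : Subgroup G) : Set G) := hx
  rw [Subgroup.coe_mul_of_right_le_normalizer_left _ _ (L.R'_norm hm)] at h
  obtain ⟨w, hw, q, hq, rfl⟩ := h
  exact ⟨w, hw, q, hq, rfl⟩

theorem WP_dec {x : G} (hx : x ∈ L.W ⊔ zpowers r) : ∃ w ∈ L.W, x = w ∨ x = w * r := by
  have hle : zpowers r ≤ normalizer (L.W : Set G) := zpowers_le.2 (L.R'_norm hm (L.r_mem_R' V hm))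
  have h : x ∈ ((L.W ⊔ zpowers r : Subgroup G) : Set G) := hx
  rw [Subgroup.coe_mul_of_right_le_normalizer_left _ _ hle] at h
  obtain ⟨w, hw, q, hq, rfl⟩ := h
  obtain ⟨k, rfl⟩ := (isOfFinOrder_of_finite r).mem_powers_iff_mem_zpowers.2 hq
  refine ⟨w, hw, ?_⟩
  have h2 : r ^ 2 = 1 := by rw [pow_two, V.inner.isR.sq]
  show w * r ^ k = w ∨ w * r ^ k = w * r
  rw [pow_eq_pow_mod k h2]
  rcases Nat.mod_two_eq_zero_or_one k with e | e <;> simp [e]

theorem mem_WP {x : G} (h : x = 1 ∨ x = r) {w : G} (hw : w ∈ L.W) : w * x ∈ L.W ⊔ zpowers r := by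
  refine mul_mem (le_sup_left (α := Subgroup G) hw) (le_sup_right (α := Subgroup G) ?_)
  rcases h with rfl | rfl
  exacts [one_mem _, mem_zpowers _]

/-- Conjugation by a point of the line preserves the product. -/
theorem WR_line {v : V4} (h1 : v 1 = 0) (h2 : v 2 = 0) {x : G} (hx : x ∈ L.W ⊔ L.R' m) :
    L.el v * x * (L.el v)⁻¹ ∈ L.W ⊔ L.R' m := by
  have base : ∀ {u : V4}, u = e0 ∨ u = e3 → ∀ (a : ℕ) {z : G}, z ∈ L.W ⊔ L.R' m →
      L.el u ^ a * z * (L.el u ^ a)⁻¹ ∈ L.W ⊔ L.R' m := by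
    intro u hu a
    induction a with
    | zero => intro z hz; simpa using hz
    | succ a ih =>
      intro z hz
      rw [pow_succ', show L.el u * L.el u ^ a * z * (L.el u * L.el u ^ a)⁻¹ =
        L.el u * (L.el u ^ a * z * (L.el u ^ a)⁻¹) * (L.el u)⁻¹ by group]
      obtain ⟨w, hw, q, hq, e⟩ := L.WR_dec V hm (ih hz)
      have hu1 : u 1 = 0 := by rcases hu with rfl | rfl; exacts [e_facts.1, e_facts.2.2.1]
      rw [e, show L.el u * (w * q) * (L.el u)⁻¹ = L.el u * w * (L.el u)⁻¹ * (L.el u * q * (L.el u)⁻¹) by group]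
      exact mul_mem (le_sup_left (α := Subgroup G) ((mem_normalizer_iff.1 (L.plane_norm hu1) w).1 hw))
        (le_sup_right (α := Subgroup G) (L.R'_inv hm hu hq))
  obtain ⟨i, j, rfl⟩ := L_vec v h1 h2
  rw [L.el_add, L.el_smul, L.el_smul, show L.el e0 ^ i.val * L.el e3 ^ j.val * x * (L.el e0 ^ i.val * L.el e3 ^ j.val)⁻¹ =
    L.el e0 ^ i.val * (L.el e3 ^ j.val * x * (L.el e3 ^ j.val)⁻¹) * (L.el e0 ^ i.val)⁻¹ by group]
  exact base (Or.inl rfl) _ (base (Or.inr rfl) _ hx)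

theorem WP_line {v : V4} (h1 : v 1 = 0) (h2 : v 2 = 0) {x : G} (hx : x ∈ L.W ⊔ zpowers r) :
    L.el v * x * (L.el v)⁻¹ ∈ L.W ⊔ zpowers r := by
  obtain ⟨w, hw, e⟩ := L.WP_dec V hm hx
  have hw' := (mem_normalizer_iff.1 (L.plane_norm h1) w).1 hw
  rcases e with rfl | rfl
  · exact le_sup_left (α := Subgroup G) hw'
  · have hr : Commute (L.el v) r := (L.mem_Cg.1 (L.el_Cg V h1 h2)).2
    rw [show L.el v * (w * r) * (L.el v)⁻¹ = L.el v * w * (L.el v)⁻¹ * (L.el v * r * (L.el v)⁻¹) by group, hr.eq,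
      mul_inv_cancel_right]
    exact L.mem_WP V hm (Or.inr rfl) hw'

theorem s_WP {x : G} (hx : x ∈ L.W ⊔ zpowers r) : s * x * s⁻¹ ∈ L.W ⊔ zpowers r := by
  obtain ⟨w, hw, e⟩ := L.WP_dec V hm hx
  have hw' := (mem_normalizer_iff.1 (L.s_norm V) w).1 hw
  rcases e with rfl | rfl
  · exact le_sup_left (α := Subgroup G) hw'
  · rw [show s * (w * r) * s⁻¹ = s * w * s⁻¹ * (s * r * s⁻¹) by group, V.inner.rs.symm.eq, mul_inv_cancel_right]
    exact L.mem_WP V hm (Or.inr rfl) hw'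

/-- Either the involution normalises `W`, or it permutes what the two-core leaves inside the product. -/
theorem exists_Y : ∃ Y : Subgroup G, Y ≤ L.Cg r ∧ Y ≤ L.W ⊔ L.R' m ∧ L.K0 V hm ≤ Y ∧ L.K3 V hm ≤ Y ∧
    (∀ v : V4, v 1 = 0 → v 2 = 0 → ∀ x ∈ Y, L.el v * x * (L.el v)⁻¹ ∈ Y) ∧
    (y ∈ normalizer (L.W : Set G) ∨ ∀ v : G, (v = y ∨ v = L.y1 V ∨ v = L.y2 V) → ∀ x ∈ Y, v * x * v⁻¹ ∈ Y) := by
  classical
  obtain ⟨O, hOC, hZO, hO2, hOn, hKO, hOK⟩ := L.exists_core V hm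
  set Y := O ⊓ (L.W ⊔ L.R' m) with hY
  have k0 : L.K0 V hm ≤ O := fun x hx => hKO 1 1 (by decide) (by rw [Kl]; simp [hx])
  have k3 : L.K3 V hm ≤ O := fun x hx => hKO 1 2 (by decide) (by
    rw [Kl, if_neg (by decide), if_neg (by decide), if_neg (by decide)]; exact hx)
  have kc' : L.Kc V ≤ O := fun x hx => hKO 0 1 (by decide) (by rw [Kl, if_neg (by decide), if_pos rfl]; exact hx)
  have kci : L.Kci V ≤ O := fun x hx => hKO 1 0 (by decide) (by rw [Kl, if_pos rfl]; exact hx)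
  have tWR : L.t ∈ L.W ⊔ L.R' m := le_sup_left (α := Subgroup G) L.t_mem_W
  have rWR : r ∈ L.W ⊔ L.R' m := le_sup_right (α := Subgroup G) (L.r_mem_R' V hm)
  have zWR : L.Zg r V.inner.isR ≤ L.W ⊔ L.R' m := by
    rintro _ ⟨a, b, rfl⟩
    exact mul_mem (pow_mem tWR a) (pow_mem rWR b)
  have y0 : L.K0 V hm ≤ Y := le_inf k0 (L.sides_le_WR V hm).1
  have y3 : L.K3 V hm ≤ Y := le_inf k3 (L.sides_le_WR V hm).2
  have yc : L.Kc V ≤ Y := le_inf kc' (by
    rintro _ ⟨z, hz, w, hw, -, -, rfl⟩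
    exact mul_mem (zWR hz) (le_sup_left (α := Subgroup G) hw))
  have hline : ∀ v : V4, v 1 = 0 → v 2 = 0 → ∀ x ∈ Y, L.el v * x * (L.el v)⁻¹ ∈ Y := fun v h1 h2 x hx =>
    mem_inf.2 ⟨hOn _ (L.el_Cg V h1 h2) x (mem_inf.1 hx).1, L.WR_line V hm h1 h2 (mem_inf.1 hx).2⟩
  refine ⟨Y, inf_le_left.trans hOC, inf_le_right, y0, y3, hline, ?_⟩
  by_cases hle : O ≤ Y
  · exact Or.inl (L.WR_norm V hm (mem_inf.1 (hle (kci (L.y_mem_Kci V)))).2)
  right
  have hALn : ∀ {B : Subgroup G}, (∀ v : V4, v 1 = 0 → v 2 = 0 → ∀ x ∈ B, L.el v * x * (L.el v)⁻¹ ∈ B) →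
      L.AL ≤ normalizer (B : Set G) := by
    rintro B hB _ ⟨v, v1, v2, rfl⟩
    refine mem_normalizer_iff.2 fun x => ⟨hB v v1 v2 x, fun hx => ?_⟩
    have h := hB (-v) (by simp [v1]) (by simp [v2]) _ hx
    rw [L.el_neg] at h
    simpa [mul_assoc] using h
  suffices hy : y ∈ normalizer (Y : Set G) by
    have hec : L.el ec ∈ normalizer (Y : Set G) := hALn hline ⟨ec, L_facts.2.2.2.2.2.2.2.1, L_facts.2.2.2.2.2.2.2.2.1, rfl⟩
    have h1 : L.y1 V ∈ normalizer (Y : Set G) := mul_mem (mul_mem hec hy) (inv_mem hec)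
    have h2 : L.y2 V ∈ normalizer (Y : Set G) := mul_mem (mul_mem hec h1) (inv_mem hec)
    rintro v (rfl | rfl | rfl) x hx
    exacts [(mem_normalizer_iff.1 hy x).1 hx, (mem_normalizer_iff.1 h1 x).1 hx, (mem_normalizer_iff.1 h2 x).1 hx]
  by_contra hyn
  haveI : Fact (Nat.Prime 2) := ⟨Nat.prime_two⟩
  haveI : Group.IsNilpotent O := hO2.isNilpotent
  have hlt : Y.subgroupOf O < ⊤ := lt_top_iff_ne_top.2 fun e => hle (Subgroup.subgroupOf_eq_top.1 e)
  obtain ⟨g, hgn, hg⟩ := SetLike.exists_of_lt (Group.normalizerCondition_of_isNilpotent _ hlt)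
  rw [mem_subgroupOf] at hg
  set N := O ⊓ normalizer (Y : Set G) with hN
  have gN : (g : G) ∈ N := by
    refine mem_inf.2 ⟨g.2, mem_normalizer_iff.2 fun x => ⟨fun hx => ?_, fun hx => ?_⟩⟩
    · exact mem_subgroupOf.1 ((mem_normalizer_iff.1 hgn ⟨x, (mem_inf.1 hx).1⟩).1 (mem_subgroupOf.2 hx))
    · have hxO : x ∈ O := by
        have h := mul_mem (mul_mem (inv_mem g.2) (mem_inf.1 hx).1) g.2
        simpa [mul_assoc] using h
      exact mem_subgroupOf.1 ((mem_normalizer_iff.1 hgn ⟨x, hxO⟩).2 (mem_subgroupOf.2 hx))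
  have hNline : ∀ v : V4, v 1 = 0 → v 2 = 0 → ∀ x ∈ N, L.el v * x * (L.el v)⁻¹ ∈ N := fun v h1 h2 x hx => by
    have hel := hALn hline ⟨v, h1, h2, rfl⟩
    exact mem_inf.2 ⟨hOn _ (L.el_Cg V h1 h2) x (mem_inf.1 hx).1, mul_mem (mul_mem hel (mem_inf.1 hx).2) (inv_mem hel)⟩
  haveI : IsMulCommutative L.AL := ⟨⟨fun a b => Subtype.ext (by
    obtain ⟨u, -, -, hu⟩ := a.2
    obtain ⟨w, -, -, hw⟩ := b.2
    show (a : G) * b = b * a
    rw [hu, hw, (L.el_comm u w).eq])⟩⟩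
  have hnc : ¬ IsCyclic L.AL := Loc.not_cyclic L.AL_card fun x ⟨v, _, _, e⟩ => e ▸ L.el_cube v
  have hcop : (Nat.card L.AL).Coprime (Nat.card N) := by
    obtain ⟨k, hk⟩ := (hO2.to_le inf_le_left : IsPGroup 2 N).exists_card_eq
    rw [L.AL_card, hk]
    exact Nat.Coprime.pow_right k (by norm_num)
  have hgen := Cfsg.Agent.CoprimeAct.generated_by_centralizers (A := L.AL) (K := N) hnc (hALn hNline) hcop
  refine hg ((?_ : N ≤ Y) gN)
  rw [← hgen]
  refine iSup₂_le fun a ha o ho => ?_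
  obtain ⟨⟨v, v1, v2, rfl⟩, hv0⟩ := ha
  obtain ⟨i, j, rfl⟩ := plane_L v v1 v2
  have hne : ¬ (i = 0 ∧ j = 0) := fun h => hv0 (by rw [(pt_zero i j).2 h, L.el_zero])
  obtain ⟨oN, oc⟩ := mem_inf.1 ho
  have hK := hOK i j hne o (mem_inf.1 oN).1 (mem_centralizer_singleton_iff.1 oc)
  rw [Kl] at hK
  split_ifs at hK with c1 c2 c3
  · obtain ⟨z, hz, h⟩ := hK
    have hzY : z ∈ Y := mem_inf.2 ⟨hZO hz, zWR hz⟩
    have hzn : z ∈ normalizer (Y : Set G) := Subgroup.le_normalizer hzY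
    have hv : ∀ {u : G}, o = z * u → u ∈ normalizer (Y : Set G) := fun e => by
      have := mul_mem (inv_mem hzn) (mem_inf.1 oN).2
      rwa [e, inv_mul_cancel_left] at this
    have hec : L.el ec ∈ normalizer (Y : Set G) := hALn hline ⟨ec, L_facts.2.2.2.2.2.2.2.1, L_facts.2.2.2.2.2.2.2.2.1, rfl⟩
    rcases h with e | e | e | e
    · exact e ▸ hzY
    · exact absurd (hv e) hyn
    · refine absurd ?_ hyn
      have := mul_mem (mul_mem (inv_mem hec) (hv e)) hec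
      rwa [y1, show (L.el ec)⁻¹ * (L.el ec * y * (L.el ec)⁻¹) * L.el ec = y by group] at this
    · refine absurd ?_ hyn
      have := mul_mem (mul_mem hec (hv e)) (inv_mem hec)
      rwa [L.y_cycle V] at this
  · exact yc hK
  · exact y0 hK
  · exact y3 hK

/-- The involution at the interior point normalises `W`. -/
theorem y_norm {k : G} (hk : L.IsSwap r s y k) : y ∈ normalizer (L.W : Set G) := by
  classical
  obtain ⟨Y, hYC, hYW, y0, y3, hline, hy | hyY⟩ := L.exists_Y V hm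
  · exact hy
  obtain ⟨ci1, ci2, ec1, ec2⟩ := (⟨L_facts.2.2.2.2.2.1, L_facts.2.2.2.2.2.2.1, L_facts.2.2.2.2.2.2.2.1,
    L_facts.2.2.2.2.2.2.2.2.1⟩ : ci 1 = 0 ∧ ci 2 = 0 ∧ ec 1 = 0 ∧ ec 2 = 0)
  obtain ⟨cmb1, cmb2, cmb3, cmb4, cmb5⟩ := line_combos
  have e01 : e0 1 = 0 := e_facts.1
  have e02 : e0 2 = 0 := by decide +kernel
  have e31 : e3 1 = 0 := e_facts.2.2.1
  have yi : y⁻¹ = y := inv_eq_of_mul_eq_one_right V.inner.y_sq
  obtain ⟨a1, a2, b1, b2, b3, b4, b5, b6⟩ := L.y_rel V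
  have y1i : (L.y1 V)⁻¹ = L.y1 V := inv_eq_of_mul_eq_one_right a1
  have y2i : (L.y2 V)⁻¹ = L.y2 V := inv_eq_of_mul_eq_one_right a2
  set U := Y ⊓ (L.W ⊔ zpowers r) with hU
  have Usq : ∀ {a : G}, a ∈ U → a * a ∈ L.Zt := by
    intro a ha
    obtain ⟨w, hw, e⟩ := L.WP_dec V hm (mem_inf.1 ha).2
    rcases e with rfl | rfl
    · exact L.W_sq hw
    · have hr' : Commute (w * r) r := (L.mem_Cg.1 (hYC (mem_inf.1 ha).1)).2
      have hwr : Commute w r := by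
        have := hr'.mul_left (Commute.refl r).inv_left
        rwa [mul_inv_cancel_right] at this
      rw [show w * r * (w * r) = w * (r * w) * r by group, ← hwr.eq, show w * (w * r) * r = w * w * (r * r) by group,
        V.inner.isR.sq, mul_one]
      exact L.W_sq hw
  have t_y : ∀ {z : G}, z ∈ L.Zt → y * z * y⁻¹ = z := by
    intro z hz
    rcases L.mem_Zt.1 hz with rfl | rfl
    · group
    · rw [V.inner.y_t.eq, mul_inv_cancel_right]
  have Uline : ∀ v : V4, v 1 = 0 → v 2 = 0 → ∀ x ∈ U, L.el v * x * (L.el v)⁻¹ ∈ U := fun v h1 h2 x hx =>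
    mem_inf.2 ⟨hline v h1 h2 x (mem_inf.1 hx).1, L.WP_line V hm h1 h2 (mem_inf.1 hx).2⟩
  have RU : ∀ {x : G}, x ∈ L.R → x ∈ U := by
    intro x hx
    obtain ⟨a, ha, b, hb, rfl⟩ := L.mem_R.1 hx
    refine mem_inf.2 ⟨mul_mem (y0 ?_) (y3 ?_), le_sup_left (α := Subgroup G) (L.R_le_W hx)⟩
    · exact ⟨a, L.P4_zero ▸ ha, 1, one_mem _, (mul_one a).symm⟩
    · have hsb := (L.swap_P4 (mem_centralizer_singleton_iff.2 V.inner.isS.comm.eq) V.inner.isS.act).2 b hb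
      refine ⟨s * b * s⁻¹, ⟨_, L.P4_zero ▸ hsb, 1, one_mem _, (mul_one _).symm⟩, ?_⟩
      show s * (s * b * s⁻¹) * s⁻¹ = b
      rw [show s * (s * b * s⁻¹) * s⁻¹ = s * s * b * (s * s)⁻¹ by group, V.inner.isS.sq]; group
  -- the component in the pair
  have comp_sq : ∀ {w q : G}, w ∈ L.W → q ∈ L.R' m → w * q * (w * q) ∈ L.W → q * q = 1 := by
    intro w q hw hq h
    refine L.meet_W hm ?_ (mul_mem hq hq)
    rw [show q * q = (q * w * q⁻¹)⁻¹ * (w⁻¹ * (w * q * (w * q))) by group]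
    exact mul_mem (inv_mem ((mem_normalizer_iff.1 (L.R'_norm hm hq) w).1 hw)) (mul_mem (inv_mem hw) h)
  have hrne := L.r_ne_one V.inner.isR
  have small : ∀ {q : G} {i : Fin 4}, q ∈ L.P' m i → q * q = 1 → q = 1 ∨ q = r := fun hq h => (L.P'_invol hm hq).2 h
  have Ztr : ∀ {z : G}, z ∈ L.Zt → z ∈ L.W := fun hz => by
    rcases L.mem_Zt.1 hz with rfl | rfl
    exacts [one_mem _, L.t_mem_W]
  have meetU : ∀ x ∈ Y, y * x * y⁻¹ ∈ U → L.y1 V * x * (L.y1 V)⁻¹ ∈ U → x ∈ U := by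
    intro x hxY hx0 hx1
    have hxsq : x * x ∈ L.Zt := by
      have h := Usq hx0
      rw [show x * x = y⁻¹ * (y * x * y⁻¹ * (y * x * y⁻¹)) * y by group,
        show y⁻¹ * (y * x * y⁻¹ * (y * x * y⁻¹)) * y = y * (y * x * y⁻¹ * (y * x * y⁻¹)) * y⁻¹ by rw [yi],
        t_y h]
      exact h
    obtain ⟨w, hw, q, hq, rfl⟩ := L.WR_dec V hm (hYW hxY)
    have hq2 := comp_sq hw hq (Ztr hxsq)
    refine mem_inf.2 ⟨hxY, L.mem_WP V hm ?_ hw⟩
    obtain ⟨q0, hq0, q3, hq3, rfl, h03⟩ := L.R'_parts hm hq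
    rw [show q0 * q3 * (q0 * q3) = q0 * (q3 * q0) * q3 by group, h03.symm.eq,
      show q0 * (q0 * q3) * q3 = q0 * q0 * (q3 * q3) by group] at hq2
    rcases (L.P'_invol hm hq0).1 with f0 | f0 <;> rcases (L.P'_invol hm hq3).1 with f3 | f3
    · rcases small hq0 f0 with rfl | rfl <;> rcases small hq3 f3 with rfl | rfl
      · exact Or.inl (mul_one 1)
      · exact Or.inr (one_mul _)
      · exact Or.inr (mul_one _)
      · exact Or.inl V.inner.isR.sq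
    · rw [f0, f3, one_mul] at hq2; exact absurd hq2 hrne
    · rw [f0, f3, mul_one] at hq2; exact absurd hq2 hrne
    exfalso
    set g := L.el e0 with hg
    have hgy : g * L.y1 V * g⁻¹ = y := by
      have hc : Commute (L.el ci) (L.y1 V) := by
        have h := V.inner.y_ci.symm.conj (L.el ec)
        rwa [(L.el_comm ec ci).eq, mul_inv_cancel_right] at h
      rw [hg, cmb5, L.el_neg, L.el_add, y1]
      have e : (L.el ci * L.el ec)⁻¹ * (L.el ec * y * (L.el ec)⁻¹) * ((L.el ci * L.el ec)⁻¹)⁻¹ =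
          (L.el ec)⁻¹ * ((L.el ci)⁻¹ * L.y1 V * L.el ci) * L.el ec := by rw [y1]; group
      rw [e, mul_assoc (L.el ci)⁻¹, hc.symm.eq, inv_mul_cancel_left, y1]
      group
    set u := (w * (q0 * q3))⁻¹ * (g * (w * (q0 * q3)) * g⁻¹) with hu
    have huU : y * u * y⁻¹ ∈ U := by
      have h := Uline e0 e01 e02 _ hx1
      rw [show L.el e0 * (L.y1 V * (w * (q0 * q3)) * (L.y1 V)⁻¹) * (L.el e0)⁻¹ =
        g * L.y1 V * g⁻¹ * (g * (w * (q0 * q3)) * g⁻¹) * (g * L.y1 V * g⁻¹)⁻¹ by rw [hg]; group, hgy] at h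
      rw [show y * u * y⁻¹ = (y * (w * (q0 * q3)) * y⁻¹)⁻¹ * (y * (g * (w * (q0 * q3)) * g⁻¹) * y⁻¹) by
        rw [hu]; group]
      exact mul_mem (inv_mem hx0) h
    have husq : u * u ∈ L.Zt := by
      have h := Usq huU
      rw [show u * u = y⁻¹ * (y * u * y⁻¹ * (y * u * y⁻¹)) * y by group,
        show y⁻¹ * (y * u * y⁻¹ * (y * u * y⁻¹)) * y = y * (y * u * y⁻¹ * (y * u * y⁻¹)) * y⁻¹ by rw [yi],
        t_y h]
      exact h
    have hg0 : Commute g q0 := (L.P'_comm0 hm hq0).symm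
    set p := q3⁻¹ * (g * q3 * g⁻¹) with hp
    have hq3' : g * q3 * g⁻¹ ∈ L.P' m 1 := L.P'_inv hm (Or.inl rfl) hq3
    have hp1 : p ∈ L.P' m 1 := mul_mem (inv_mem hq3) hq3'
    set q := q0 * q3 with hqdef
    have huwp : u = (q⁻¹ * (w⁻¹ * (g * w * g⁻¹)) * q) * p := by
      have e : q⁻¹ * (g * q * g⁻¹) = p := by
        rw [hqdef, hp]
        calc (q0 * q3)⁻¹ * (g * (q0 * q3) * g⁻¹) = q3⁻¹ * q0⁻¹ * ((g * q0) * (q3 * g⁻¹)) := by group
          _ = _ := by rw [hg0.eq]; group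
      rw [← e, hu]; group
    have hwW : q⁻¹ * (w⁻¹ * (g * w * g⁻¹)) * q ∈ L.W := by
      have h1 : w⁻¹ * (g * w * g⁻¹) ∈ L.W :=
        mul_mem (inv_mem hw) ((mem_normalizer_iff.1 (L.plane_norm e01) w).1 hw)
      have h2 := (mem_normalizer_iff.1 (L.R'_norm hm (inv_mem hq)) _).1 h1
      rwa [inv_inv] at h2
    have hgc : Commute g q3 := by
      rcases small hp1 (comp_sq hwW (L.P'_le_R' hm (Or.inr rfl) hp1) (huwp ▸ Ztr husq)) with e | e
      · exact mul_inv_eq_iff_eq_mul.1 (inv_mul_eq_one.1 e).symm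
      · exfalso
        have e1 : g * q3 * g⁻¹ = q3 * r := inv_mul_eq_iff_eq_mul.1 e
        have gr : g * r * g⁻¹ = r := by
          rw [(L.mem_Cg.1 (L.el_Cg V e01 e02) : _).2.eq, mul_inv_cancel_right]
        have e2 : g * (g * q3 * g⁻¹) * g⁻¹ = q3 := by
          rw [e1, show g * (q3 * r) * g⁻¹ = g * q3 * g⁻¹ * (g * r * g⁻¹) by group, e1, gr, mul_assoc,
            V.inner.isR.sq, mul_one]
        have h1 : q3 = q3 * r := by
          calc q3 = g ^ 3 * q3 * (g ^ 3)⁻¹ := by rw [hg, L.el_cube]; group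
            _ = g * (g * (g * q3 * g⁻¹) * g⁻¹) * g⁻¹ := by rw [pow_three]; group
            _ = g * q3 * g⁻¹ := by rw [e2]
            _ = q3 * r := e1
        exact hrne (mul_eq_left.1 h1.symm)
    rcases L.P'_move1 hm hq3 hgc.symm with rfl | rfl
    · exact hrne (by rw [← f3, one_mul])
    · exact hrne (f3.symm.trans V.inner.isR.sq)
  -- the intersection with the moved one
  let A : Subgroup G := U ⊓ U.comap (MulAut.conj y).toMonoidHom
  have memA : ∀ {a : G}, a ∈ A ↔ a ∈ U ∧ y * a * y⁻¹ ∈ U := fun {a} => Iff.rfl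
  have down : ∀ {a : G}, a ∈ U → L.y2 V * a * (L.y2 V)⁻¹ ∈ U → a ∈ A := by
    intro a ha h2
    have e0' : y * (y * a * y⁻¹) * y⁻¹ = a := by
      rw [show y * (y * a * y⁻¹) * y⁻¹ = y * y * a * (y * y)⁻¹ by group, V.inner.y_sq]; group
    refine memA.2 ⟨ha, meetU _ (hyY y (Or.inl rfl) a (mem_inf.1 ha).1) (by rw [e0']; exact ha) ?_⟩
    rw [show L.y1 V * (y * a * y⁻¹) * (L.y1 V)⁻¹ = L.y1 V * y * a * (L.y1 V * y)⁻¹ by group, b2]
    exact h2
  have shift2 : ∀ {a : G}, a ∈ A → L.el ec * (L.el ec * a * (L.el ec)⁻¹) * (L.el ec)⁻¹ ∈ A := by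
    intro a ha
    obtain ⟨h1, h2⟩ := memA.1 ha
    refine down (Uline ec ec1 ec2 _ (Uline ec ec1 ec2 _ h1)) ?_
    have h := Uline ec ec1 ec2 _ (Uline ec ec1 ec2 _ h2)
    rw [y2]
    convert h using 1
    group
  have Aec : ∀ {a : G}, a ∈ A → L.el ec * a * (L.el ec)⁻¹ ∈ A := by
    intro a ha
    have h := shift2 (shift2 ha)
    have e : L.el ec * (L.el ec * (L.el ec * (L.el ec * a * (L.el ec)⁻¹) * (L.el ec)⁻¹) * (L.el ec)⁻¹) * (L.el ec)⁻¹ =
        L.el ec ^ 3 * (L.el ec * a * (L.el ec)⁻¹) * (L.el ec ^ 3)⁻¹ := by rw [pow_three]; group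
    rwa [e, L.el_cube, one_mul, inv_one, mul_one] at h
  have Aci : ∀ {a : G}, a ∈ A → L.el ci * a * (L.el ci)⁻¹ ∈ A := by
    intro a ha
    obtain ⟨h1, h2⟩ := memA.1 ha
    refine memA.2 ⟨Uline ci ci1 ci2 _ h1, ?_⟩
    rw [show y * (L.el ci * a * (L.el ci)⁻¹) * y⁻¹ = (y * L.el ci) * a * (y * L.el ci)⁻¹ by group, V.inner.y_ci.eq,
      show L.el ci * y * a * (L.el ci * y)⁻¹ = L.el ci * (y * a * y⁻¹) * (L.el ci)⁻¹ by group]
    exact Uline ci ci1 ci2 _ h2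
  have Ae3 : ∀ {a : G}, a ∈ A → L.el e3 * a * (L.el e3)⁻¹ ∈ A := by
    intro a ha
    have h := Aec (Aci (Aci ha))
    rw [cmb4, L.el_add, L.el_add]
    convert h using 1
    group
  have tA : L.t ∈ A := memA.2 ⟨RU (L.mem_R.2 ⟨L.t, L.t_mem_P4 0, 1, one_mem _, mul_one _⟩), by
    rw [t_y (mem_zpowers _)]; exact RU (L.mem_R.2 ⟨L.t, L.t_mem_P4 0, 1, one_mem _, mul_one _⟩)⟩
  have Ze0 : ∀ {a : G}, a ∈ A → L.el e0 * a * (L.el e0)⁻¹ ∈ A := by
    intro a ha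
    have h := Aec (Aec (Aci (Aci ha)))
    have e : e0 = ec + ec + ci + ci := by decide +kernel
    rw [e, L.el_add, L.el_add, L.el_add]
    convert h using 1
    group
  -- a non-central element of the pair
  have hz : ∃ z ∈ L.R, z ∈ A ∧ z ∉ L.Zt := by
    by_contra hcon
    push Not at hcon
    have hdec : ∀ z : L.R, ∃ w ∈ L.W, ∃ a : L.P' m 0, ∃ b ∈ L.P' m 1,
        y * (z : G) * y⁻¹ = w * ((a : G) * b) := fun z => by
      obtain ⟨w, hw, q, hq, e⟩ := L.WR_dec V hm (hYW (hyY y (Or.inl rfl) _ (mem_inf.1 (RU z.2)).1))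
      obtain ⟨a, ha, b, hb, rfl, -⟩ := L.R'_parts hm hq
      exact ⟨w, hw, ⟨a, ha⟩, b, hb, e⟩
    choose wf hwf af bf' hbf he using hdec
    have hfib : ∀ z z' : L.R, af z = af z' → (z : G)⁻¹ * z' ∈ L.Zt := by
      intro z z' haf
      set v := (z : G)⁻¹ * z' with hv
      have hvR : v ∈ L.R := mul_mem (inv_mem z.2) z'.2
      have evq : y * v * y⁻¹ = ((af z * bf' z : G))⁻¹ * ((wf z)⁻¹ * wf z') * (af z * bf' z) *
          ((bf' z)⁻¹ * bf' z') := by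
        calc y * v * y⁻¹ = (y * (z : G) * y⁻¹)⁻¹ * (y * (z' : G) * y⁻¹) := by rw [hv]; group
          _ = _ := by rw [he, he, ← haf]; group
      have hpP : (bf' z)⁻¹ * bf' z' ∈ L.P' m 1 := mul_mem (inv_mem (hbf z)) (hbf z')
      have hqR : (af z : G) * bf' z ∈ L.R' m :=
        mul_mem (L.P'_le_R' hm (Or.inl rfl) (af z).2) (L.P'_le_R' hm (Or.inr rfl) (hbf z))
      have hwW : ((af z * bf' z : G))⁻¹ * ((wf z)⁻¹ * wf z') * (af z * bf' z) ∈ L.W := by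
        have h2 := (mem_normalizer_iff.1 (L.R'_norm hm (inv_mem hqR)) _).1 (mul_mem (inv_mem (hwf z)) (hwf z'))
        rwa [inv_inv] at h2
      have hsq : y * v * y⁻¹ * (y * v * y⁻¹) ∈ L.Zt := by
        rw [show y * v * y⁻¹ * (y * v * y⁻¹) = y * (v * v) * y⁻¹ by group, t_y (L.W_sq (L.R_le_W hvR))]
        exact L.W_sq (L.R_le_W hvR)
      refine hcon v hvR (memA.2 ⟨RU hvR, mem_inf.2 ⟨hyY y (Or.inl rfl) v (mem_inf.1 (RU hvR)).1, ?_⟩⟩)
      rw [evq] at hsq ⊢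
      exact L.mem_WP V hm (small hpP (comp_sq hwW (L.P'_le_R' hm (Or.inr rfl) hpP) (Ztr hsq))) hwW
    have hcl : ∀ p : L.P' m 0, ∃ z0 : L.R, (∃ z, af z = p) → af z0 = p := fun p => by
      by_cases h : ∃ z, af z = p
      · obtain ⟨z, hz⟩ := h; exact ⟨z, fun _ => hz⟩
      · exact ⟨1, fun h' => absurd h' h⟩
    choose rep' hrep using hcl
    let F : L.R → L.P' m 0 × L.Zt := fun z =>
      (af z, ⟨((rep' (af z) : L.R) : G)⁻¹ * z, hfib _ _ (hrep _ ⟨z, rfl⟩)⟩)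
    have hF : Function.Injective F := fun z z' e => by
      have e1 : af z = af z' := congrArg Prod.fst e
      have e2 := congrArg (fun x : L.P' m 0 × L.Zt => (x.2 : G)) e
      simp only [F] at e2
      rw [e1] at e2
      exact Subtype.ext (mul_left_cancel e2)
    have hc := Nat.card_le_card_of_injective F hF
    rw [L.card_R, Nat.card_prod, P', Subgroup.card_map_of_injective (MulEquiv.injective _), L.P4_card,
      Nat.card_zpowers, orderOf_eq_prime (show L.t ^ 2 = 1 by rw [pow_two, L.t_sq]) L.t_ne] at hc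
    norm_num at hc
  -- one, hence both, of the quaternion groups
  have hs4 := L.swap_P4 (mem_centralizer_singleton_iff.2 V.inner.isS.comm.eq) V.inner.isS.act
  have si := L.s_inv V
  have ssy : ∀ x : G, s * (y * (s * x * s⁻¹) * y⁻¹) * s⁻¹ = y * x * y⁻¹ := fun x => by
    calc s * (y * (s * x * s⁻¹) * y⁻¹) * s⁻¹ = (s * y * s) * x * (s * y * s)⁻¹ := by rw [si]; group; simp [si]
      _ = _ := by rw [V.inner.y_s.symm.eq, mul_assoc y, V.inner.isS.sq, mul_one]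
  obtain ⟨z, hzR, hzA, hzZ⟩ := hz
  obtain ⟨a, ha, b, hb, rfl⟩ := L.mem_R.1 hzR
  have hab := L.P4_pair two_points.1 ha hb
  have hP : ∀ x ∈ L.P, y * x * y⁻¹ ∈ L.W ⊔ zpowers r := by
    by_cases haZ : a ∈ L.Zt
    · have hbA : b ∈ A := by
        have haA : a ∈ A := by
          rcases L.mem_Zt.1 haZ with e | e <;> rw [e]
          exacts [one_mem _, tA]
        have := mul_mem (inv_mem haA) hzA
        rwa [inv_mul_cancel_left] at this
      have hbZ : b ∉ L.Zt := fun h => hzZ (mul_mem haZ h)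
      let S : Subgroup G := (A ⊓ L.P4 1).map (MulAut.conj s).toMonoidHom
      have hSP : S ≤ L.P := by
        rintro _ ⟨x, hx, rfl⟩
        exact L.P4_zero ▸ hs4.2 x (mem_inf.1 hx).2
      have hSinv : ∀ p ∈ S, L.el e3 * p * (L.el e3)⁻¹ ∈ S := by
        rintro _ ⟨x, hx, rfl⟩
        refine ⟨L.el e0 * x * (L.el e0)⁻¹, mem_inf.2 ⟨Ze0 (mem_inf.1 hx).1, L.P4_inv 1 e0 e01 x (mem_inf.1 hx).2⟩, ?_⟩
        show s * (L.el e0 * x * (L.el e0)⁻¹) * s⁻¹ = L.el e3 * (s * x * s⁻¹) * (L.el e3)⁻¹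
        rw [← L_facts.2.2.2.2.1, ← V.inner.isS.act]; group
      have hsb : s * b * s⁻¹ ∈ S := ⟨b, mem_inf.2 ⟨hbA, hb⟩, rfl⟩
      have hst : s * L.t * s⁻¹ = L.t := by rw [V.inner.isS.comm.eq, mul_inv_cancel_right]
      have hS := L.P_irred hSP hSinv hsb (fun e => hbZ (by
        rw [conj_eq_one_iff] at e; rw [e]; exact one_mem _)) (fun e => hbZ (by
        rw [← hst] at e
        rw [mul_left_cancel (mul_right_cancel e)]; exact mem_zpowers _))
      intro x hx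
      obtain ⟨x', hx', e⟩ := hS.ge hx
      have h := L.s_WP V hm (mem_inf.1 (memA.1 (mem_inf.1 hx').1).2).2
      have e' : x' = s * x * s⁻¹ := by
        rw [← e]
        show x' = s * (s * x' * s⁻¹) * s⁻¹
        rw [show s * (s * x' * s⁻¹) * s⁻¹ = s * s * x' * (s * s)⁻¹ by group, V.inner.isS.sq]; group
      rwa [e', ssy] at h
    · let S : Subgroup G := A ⊓ L.P
      have haP : a ∈ L.P := L.P4_zero ▸ ha
      have hSinv : ∀ p ∈ S, L.el e3 * p * (L.el e3)⁻¹ ∈ S := fun p hp =>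
        mem_inf.2 ⟨Ae3 (mem_inf.1 hp).1, L.P_norm _ (L.el_mem_C0 e31) p (mem_inf.1 hp).2⟩
      have hc : Commute b (L.el e3) := by
        rw [← two_points.2.1]; exact mem_centralizer_singleton_iff.1 (mem_inf.1 (L.P4_le 1 hb)).1
      set u := (L.el e3 * a * (L.el e3)⁻¹) * a⁻¹ with hu
      have huA : u ∈ A := by
        have e : u = (L.el e3 * (a * b) * (L.el e3)⁻¹) * (a * b)⁻¹ := by
          rw [show L.el e3 * (a * b) * (L.el e3)⁻¹ = L.el e3 * a * (b * (L.el e3)⁻¹) by group, hc.inv_right.eq, hu]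
          group
        rw [e]; exact mul_mem (Ae3 hzA) (inv_mem hzA)
      have huP : u ∈ L.P := mul_mem (L.P_norm _ (L.el_mem_C0 e31) a haP) (inv_mem haP)
      have huZ : u ∉ L.Zt := fun h => haZ (L.move_Zt ha e31 two_points.2.2.1 (by
        have e : a⁻¹ * (L.el e3 * a * (L.el e3)⁻¹) = a⁻¹ * u * a := by rw [hu]; group
        rw [e, mul_assoc, (L.Zt_comm h (L.P_le_W haP)).eq, inv_mul_cancel_left]
        exact h))
      have hS := L.P_irred (S := S) inf_le_right hSinv (mem_inf.2 ⟨huA, huP⟩) (fun e => huZ (e ▸ one_mem _))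
        (fun e => huZ (e ▸ mem_zpowers _))
      exact fun x hx => (mem_inf.1 (memA.1 (mem_inf.1 (hS.ge hx)).1).2).2
  -- into `W` itself
  have hP' : ∀ x ∈ L.P, y * x * y⁻¹ ∈ L.W := by
    let S : Subgroup G := L.P ⊓ L.W.comap (MulAut.conj y).toMonoidHom
    have e3P : ∀ p ∈ L.P, L.el e3 * p * (L.el e3)⁻¹ = L.el ci * p * (L.el ci)⁻¹ := fun p hp => by
      have hc : Commute p (L.el e0) := mem_centralizer_singleton_iff.1 (mem_inf.1 (L.P_le hp)).1
      rw [cmb3, L.el_add, L.el_neg, show L.el ci * (L.el e0)⁻¹ * p * (L.el ci * (L.el e0)⁻¹)⁻¹ =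
        L.el ci * ((L.el e0)⁻¹ * p * L.el e0) * (L.el ci)⁻¹ by group, mul_assoc _ p, hc.eq, inv_mul_cancel_left]
    have ycomm : ∀ p : G, y * (L.el ci * p * (L.el ci)⁻¹) * y⁻¹ = L.el ci * (y * p * y⁻¹) * (L.el ci)⁻¹ := fun p => by
      rw [show y * (L.el ci * p * (L.el ci)⁻¹) * y⁻¹ = (y * L.el ci) * p * (y * L.el ci)⁻¹ by group, V.inner.y_ci.eq]
      group
    have hSinv : ∀ p ∈ S, L.el e3 * p * (L.el e3)⁻¹ ∈ S := fun p hp => by
      refine mem_inf.2 ⟨L.P_norm _ (L.el_mem_C0 e31) p (mem_inf.1 hp).1, ?_⟩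
      show y * (L.el e3 * p * (L.el e3)⁻¹) * y⁻¹ ∈ L.W
      rw [e3P p (mem_inf.1 hp).1, ycomm]
      exact (mem_normalizer_iff.1 (L.plane_norm ci1) _).1 (mem_inf.1 hp).2
    obtain ⟨p0, hp0, hp0'⟩ : ∃ q ∈ L.P, q ∉ L.Zt := by
      by_contra h
      push Not at h
      have := Subgroup.card_le_of_le (show L.P ≤ L.Zt from h)
      rw [L.P_card, Nat.card_zpowers,
        orderOf_eq_prime (show L.t ^ 2 = 1 by rw [pow_two, L.t_sq]) L.t_ne] at this
      norm_num at this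
    set u := (L.el e3 * p0 * (L.el e3)⁻¹) * p0⁻¹ with hu
    have huP : u ∈ L.P := mul_mem (L.P_norm _ (L.el_mem_C0 e31) p0 hp0) (inv_mem hp0)
    have huW : y * u * y⁻¹ ∈ L.W := by
      obtain ⟨w, hw, e⟩ := L.WP_dec V hm (hP p0 hp0)
      have hw' := mul_mem ((mem_normalizer_iff.1 (L.plane_norm ci1) w).1 hw) (inv_mem hw)
      have e' : y * u * y⁻¹ = L.el ci * (y * p0 * y⁻¹) * (L.el ci)⁻¹ * (y * p0 * y⁻¹)⁻¹ := by
        rw [hu, e3P p0 hp0, ← ycomm]; group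
      rw [e']
      rcases e with e | e <;> rw [e]
      · exact hw'
      · have hr : Commute r (L.el ci)⁻¹ := (L.mem_Cg.1 (L.el_Cg V ci1 ci2)).2.symm.inv_right
        rw [show L.el ci * (w * r) * (L.el ci)⁻¹ = L.el ci * w * (r * (L.el ci)⁻¹) by group, hr.eq]
        convert hw' using 1
        group
    have huZ : u ∉ L.Zt := fun h => hp0' (L.move_Zt (k := 0) (L.P4_zero ▸ hp0) e31 two_points.2.2.1 (by
      have e : p0⁻¹ * (L.el e3 * p0 * (L.el e3)⁻¹) = p0⁻¹ * u * p0 := by rw [hu]; group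
      rw [e, mul_assoc, (L.Zt_comm h (L.P_le_W hp0)).eq, inv_mul_cancel_left]
      exact h))
    have hS := L.P_irred (S := S) inf_le_left hSinv (mem_inf.2 ⟨huP, huW⟩) (fun e => huZ (e ▸ one_mem _))
      (fun e => huZ (e ▸ mem_zpowers _))
    exact fun x hx => (mem_inf.1 (hS.ge hx)).2
  have hR : ∀ i : Fin 4, (i = 0 ∨ i = 1) → ∀ x ∈ L.P4 i, y * x * y⁻¹ ∈ L.W := by
    rintro i (rfl | rfl) x hx
    · exact hP' x (L.P4_zero ▸ hx)
    · rw [← ssy]
      exact (mem_normalizer_iff.1 (L.s_norm V) _).1 (hP' _ (L.P4_zero ▸ hs4.2 x hx))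
  refine L.mem_norm_W fun i x hx => ?_
  by_cases hi : i = 0 ∨ i = 1
  · exact hR i hi x hx
  have hi23 : i = 2 ∨ i = 3 := by
    have key : ∀ i : Fin 4, ¬ (i = 0 ∨ i = 1) → (i = 2 ∨ i = 3) := by decide
    exact key i hi
  obtain ⟨sp1, sp2, sp3⟩ := swap_pairs
  have ri : r⁻¹ = r := inv_eq_of_mul_eq_one_right V.inner.isR.sq
  set g := s * r with hg
  have gt : g ∈ centralizer ({L.t} : Set G) :=
    mem_centralizer_singleton_iff.2 (V.inner.isS.comm.mul_left V.inner.isR.comm).eq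
  have gact : ∀ v, g * L.el v * g⁻¹ = L.el (reflc (refl2 v)) := fun v => by
    rw [hg, show s * r * L.el v * (s * r)⁻¹ = s * (r * L.el v * r⁻¹) * s⁻¹ by group, V.inner.isR.act, V.inner.isS.act]
  have gp : L.PlaneN g := fun v hv => ⟨_, L_facts.2.2.2.2.2.2.2.2.2.2.1 _ (sp3 v hv).2, gact v⟩
  obtain ⟨j, hj, hj'⟩ := L.P4_conj gt gp i
  rw [gact] at hj
  have hj23 := sp1 i j hi23 (hj.imp (fun e => L.el_inj e) fun e => L.el_inj e)
  have kt : k ∈ centralizer ({L.t} : Set G) := mem_centralizer_singleton_iff.2 hk.comm.eq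
  have kp : L.PlaneN k := fun v hv => ⟨_, (sp3 v hv).1, hk.act v⟩
  obtain ⟨l, hl, hl'⟩ := L.P4_conj kt kp j
  rw [hk.act] at hl
  have hl01 := sp2 j l hj23 (hl.imp (fun e => L.el_inj e) fun e => L.el_inj e)
  have h := (mem_normalizer_iff.1 (L.norm_plane kt kp) _).1 (hR l hl01 _ (hl' _ (hj' x hx)))
  have e : k * (y * (k * (g * x * g⁻¹) * k⁻¹) * y⁻¹) * k⁻¹ = y * x * y⁻¹ := by
    have ki : k⁻¹ = k := inv_eq_of_mul_eq_one_right hk.sq
    have e1 : k * y * k * g = y := by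
      have h := hk.y_y
      rw [ki] at h
      rw [h, hg, show y * r * s * (s * r) = y * r * (s * s) * r by group, V.inner.isS.sq, mul_one, mul_assoc,
        V.inner.isR.sq, mul_one]
    calc _ = (k * y * k * g) * x * (k * y * k * g)⁻¹ := by group
      _ = _ := by rw [e1]
  rwa [e] at h

end Loc

end Cfsg.Agent.Co2Three
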