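import Cfsg.Agent.Lib.Co2Three.Mid.Defs
import Cfsg.Agent.Lib.Co2Three.W.Mover

/-!
What the local analysis at the reflection gives on the signaliser, collected.
-/

set_option autoImplicit false
set_option linter.style.haveILetI false

namespace Cfsg.Agent.Co2Three

open Subgroup

namespace Loc

variable {G : Type*} [Group G] [Finite G] (L : Loc G)

theorem exists_mid : Mid L L.W := by
  obtain ⟨r, s, y, k, hI, hk⟩ := L.exists_inner
  obtain ⟨n, hn⟩ := L.exists_neg hI.isR hI.isS
  obtain ⟨m, hm⟩ := L.exists_isM hI.isR
  obtain ⟨v, hv, hmv⟩ := hI.moves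
  exact {
    le := L.W_le
    extra := L.W_extra
    card := L.card_W
    plane := fun v hv => L.plane_norm hv
    norm_plane := fun g hg h => L.norm_plane hg (PlaneN.of L hg h)
    cent_plane := fun g hg h => L.cent_plane hg h
    P_le := L.P_le_W
    fix_point := fun x hx hc => L.fix_point hx hc
    fix_interior := fun x hx hc => L.fix_interior hx hc
    sig := fun K hK hc hi => L.sig hK hc hi
    cent_singular := L.cent_singular
    cent_exterior := L.cent_exterior
    card_exterior := L.dx_facts.2
    mover := ⟨y, mem_inf.2 ⟨mem_centralizer_singleton_iff.2 hI.y_ci.eq,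
      mem_centralizer_singleton_iff.2 hI.y_t.eq⟩, L.y_norm ⟨hI, hn⟩ hm hk, v, hv, hmv⟩
    card_interior := hI.card_le }

end Loc

end Cfsg.Agent.Co2Three
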