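import Cfsg.Agent.Lib.Co2Three.W.Core
import Cfsg.Agent.Lib.Co2Three.Mid.Defs

/-!
The normaliser of the plane inside the centraliser of the reflection normalises `W`; the fixed points of the central
and of an interior point in `W`; the part of the core commuting with the reflection.
-/

set_option autoImplicit false
set_option maxRecDepth 20000
set_option linter.style.haveILetI false
set_option linter.unusedSectionVars false

namespace Cfsg.Agent.Co2Three

open Subgroup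
open scoped commutatorElement

theorem plane_sing : ∀ w : V4, w 1 = 0 → w ≠ 0 → qf w = 0 → ∃ k, w = cp k ∨ w = -cp k := by decide +kernel

theorem plane_fix : ∀ w : V4, refl1 w = w → w 1 = 0 := by decide +kernel

theorem plane_basis : ∀ v : V4, v 1 = 0 → v = v 0 • e0 + v 2 • e2 + v 3 • e3 := by decide +kernel

theorem plane_line : ∀ v : V4, v 1 = 0 → v 3 = 0 → v = v 0 • e0 + v 2 • e2 := by decide +kernel

theorem plane_triple : ∀ x : ZMod 3, x + x = 0 → x = 0 := by decide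

theorem e_facts : e0 1 = 0 ∧ e2 1 = 0 ∧ e3 1 = 0 ∧ e1 3 = 0 ∧ e1 1 ≠ 0 ∧ e0 3 = 0 ∧ e2 3 = 0 ∧ ci 1 = 0 ∧
    (∀ i, bf ci (cp i) ≠ 0) ∧ (∀ i j : ZMod 3, e1 ≠ i • e0 + j • e2) ∧
    (∀ i : ZMod 3, e2 ≠ i • e0) := by decide +kernel

theorem line_facts : (∀ a b : ZMod 3 × ZMod 3, a.1 • e0 + a.2 • e2 + (0 : ZMod 3) • e3 =
    b.1 • e0 + b.2 • e2 + (0 : ZMod 3) • e3 → a = b) ∧
    ∀ i j : ZMod 3, (i • e0 + j • e2 + (0 : ZMod 3) • e3) 3 = 0 := by decide +kernel

theorem comb_plane : ∀ i j k l : ZMod 3, ∀ w : V4, w 1 = 0 →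
    (i • e0 + k • (j • e0 + e2) + l • (w + e3)) 1 = 0 := by decide +kernel

theorem comb_facts : ∀ i j k : ZMod 3, (i • e0 + j • e2 + k • e3) 1 = 0 := by decide +kernel

namespace Loc

variable {G : Type*} [Group G] [Finite G] (L : Loc G)

/-- An element normalising the plane. -/
def PlaneN (g : G) : Prop := ∀ v : V4, v 1 = 0 → ∃ w : V4, w 1 = 0 ∧ g * L.el v * g⁻¹ = L.el w

theorem plane_of_comm {w : V4} (h : Commute L.t (L.el w)) : w 1 = 0 :=
  plane_fix w (L.el_inj (by rw [← L.t_act, h.eq, mul_inv_cancel_right]))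

theorem PlaneN.of {g : G} (hg : g ∈ centralizer ({L.t} : Set G))
    (h : ∀ v : V4, v 1 = 0 → ∃ w : V4, g * L.el v * g⁻¹ = L.el w) : L.PlaneN g := fun v hv => by
  obtain ⟨w, hw⟩ := h v hv
  refine ⟨w, L.plane_of_comm ?_, hw⟩
  rw [← hw]
  have h1 : Commute g L.t := mem_centralizer_singleton_iff.1 hg
  have h2 : g * L.t * g⁻¹ = L.t := by rw [h1.eq, mul_inv_cancel_right]
  have h3 := (L.t_plane hv).conj g
  rwa [h2] at h3

theorem PlaneN.mul {g h : G} (hg : L.PlaneN g) (hh : L.PlaneN h) : L.PlaneN (g * h) := fun v hv => by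
  obtain ⟨w, hw, e⟩ := hh v hv
  obtain ⟨x, hx, e'⟩ := hg w hw
  exact ⟨x, hx, by rw [← e', ← e]; group⟩

theorem PlaneN.inv {g : G} (hg : L.PlaneN g) : L.PlaneN g⁻¹ := by
  choose f hf hfe using hg
  let F : {v : V4 // v 1 = 0} → {v : V4 // v 1 = 0} := fun v => ⟨f v.1 v.2, hf v.1 v.2⟩
  have hinj : Function.Injective F := fun a b e => Subtype.ext (L.el_inj (by
    have := (hfe a.1 a.2).trans ((congrArg L.el (congrArg Subtype.val e)).trans (hfe b.1 b.2).symm)
    exact mul_left_cancel (mul_right_cancel this)))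
  intro v hv
  obtain ⟨u, hu⟩ := Finite.surjective_of_injective hinj ⟨v, hv⟩
  have hu' : f u.1 u.2 = v := congrArg Subtype.val hu
  exact ⟨u.1, u.2, by rw [← hu', ← hfe]; group⟩

theorem PlaneN.el {v : V4} : L.PlaneN (L.el v) := fun u hu =>
  ⟨u, hu, by rw [(L.el_comm v u).eq, mul_inv_cancel_right]⟩

/-- An element normalising the plane permutes the four quaternion groups. -/
theorem P4_conj {g : G} (hg : g ∈ centralizer ({L.t} : Set G)) (hp : L.PlaneN g) (i : Fin 4) :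
    ∃ k, (g * L.el (cp i) * g⁻¹ = L.el (cp k) ∨ g * L.el (cp i) * g⁻¹ = L.el (-cp k)) ∧
      ∀ x ∈ L.P4 i, g * x * g⁻¹ ∈ L.P4 k := by
  obtain ⟨hne, hq, h1⟩ := cp_facts i
  obtain ⟨w, hw1, hw⟩ := hp (cp i) h1
  have hw0 : w ≠ 0 := fun e => hne (L.el_eq_one.1 (by rwa [e, L.el_zero, conj_eq_one_iff] at hw))
  obtain ⟨k, hk⟩ := plane_sing w hw1 hw0 (L.fused_sing hne hq hw)
  refine ⟨k, by rcases hk with e | e <;> rw [e] at hw <;> simp [hw], ?_⟩
  have h := L.sig_point k (X := (L.P4 i).map (MulAut.conj g).toMonoidHom) (by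
      rintro _ ⟨x, hx, rfl⟩
      obtain ⟨x1, x2⟩ := mem_inf.1 (L.P4_le i hx)
      refine mem_inf.2 ⟨mem_centralizer_singleton_iff.2 ?_, mem_centralizer_singleton_iff.2 ?_⟩
      · have h := (show Commute x (L.el (cp i)) from mem_centralizer_singleton_iff.1 x1).conj g
        rw [hw] at h
        rcases hk with e | e <;> rw [e] at h
        · exact h.eq
        · rw [L.el_neg] at h
          simpa using h.inv_right.eq
      · have h := (show Commute x L.t from mem_centralizer_singleton_iff.1 x2).conj g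
        rw [show g * L.t * g⁻¹ = L.t by rw [mem_centralizer_singleton_iff.1 hg, mul_inv_cancel_right]] at h
        exact h.eq)
    (by rw [Subgroup.card_map_of_injective (MulEquiv.injective _), L.P4_card]; norm_num) (by
      rintro v hv _ ⟨x, hx, rfl⟩
      obtain ⟨u, hu, hue⟩ := hp.inv L v hv
      refine ⟨_, L.P4_inv i u hu x hx, ?_⟩
      rw [← hue]
      simp [mul_assoc])
  exact fun x hx => h ⟨x, hx, rfl⟩

theorem mem_norm_W {g : G} (h : ∀ i, ∀ x ∈ L.P4 i, g * x * g⁻¹ ∈ L.W) : g ∈ normalizer (L.W : Set G) := by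
  have hle : L.W.map (MulAut.conj g).toMonoidHom ≤ L.W := by
    rw [Subgroup.map_le_iff_le_comap]
    exact iSup_le fun i x hx => h i x hx
  have he : L.W.map (MulAut.conj g).toMonoidHom = L.W :=
    Subgroup.eq_of_le_of_card_ge hle (Subgroup.card_map_of_injective (MulEquiv.injective _)).ge
  refine mem_normalizer_iff.2 fun x => ⟨fun hx => hle ⟨x, hx, rfl⟩, fun hx => ?_⟩
  obtain ⟨y, hy, e⟩ := (he.ge : L.W ≤ _) hx
  have : y = x := mul_left_cancel (mul_right_cancel e)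
  exact this ▸ hy

theorem norm_plane {g : G} (hg : g ∈ centralizer ({L.t} : Set G)) (hp : L.PlaneN g) :
    g ∈ normalizer (L.W : Set G) :=
  L.mem_norm_W fun i x hx => by
    obtain ⟨k, -, hk⟩ := L.P4_conj hg hp i
    exact L.P4_le_W k (hk x hx)

theorem plane_norm {v : V4} (hv : v 1 = 0) : L.el v ∈ normalizer (L.W : Set G) :=
  L.mem_norm_W fun i x hx => L.P4_le_W i (L.P4_inv i v hv x hx)

theorem P4_zero : L.P4 0 = L.P := by
  refine (Subgroup.eq_of_le_of_card_ge (L.sig_point 0 (X := L.P) ?_ (by rw [L.P_card]; norm_num) ?_)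
    (by rw [L.P4_card, L.P_card])).symm
  · rw [cp_zero]; exact L.P_le
  · intro v hv p hp
    exact L.P_norm _ (mem_inf.2 ⟨mem_centralizer_singleton_iff.2 (L.el_comm v e0).eq, L.el_mem_Ct hv⟩) p hp

theorem P_le_W : L.P ≤ L.W := L.P4_zero ▸ L.P4_le_W 0

/-- Only the quaternion group at the central point is centralised by it. -/
theorem fix_point {x : G} (hx : x ∈ L.W) (hc : Commute x (L.el e0)) : x ∈ L.P := by
  obtain ⟨p, rfl⟩ := L.W_dec hx
  have h1 : L.Phi (L.disp 0 p) = 1 := by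
    rw [disp, map_mul, map_inv, L.Phi_conjP, cp_zero, hc.symm.eq, mul_inv_cancel_right, inv_mul_cancel]
  have h2 : ∀ k, k ≠ 0 → (p k : G) ∈ L.Zt := fun k hk => by
    by_contra hne
    exact L.disp_out (Ne.symm hk) hne (L.Phi_mem_Zt (h1 ▸ one_mem _) k)
  set q : L.PP := (Pi.mulSingle 0 (p 0))⁻¹ * p with hq
  have hqz : L.Phi q ∈ L.Zt := L.Phi_Zt fun k => by
    by_cases hk : k = 0
    · subst hk; simp [hq]
    · simpa [hq, hk] using h2 k hk
  have e : L.Phi p = (p 0 : G) * L.Phi q := by rw [hq, map_mul, map_inv, L.Phi_single, mul_inv_cancel_left]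
  rw [e, ← L.P4_zero]
  refine mul_mem (p 0).2 ?_
  rcases L.mem_Zt.1 hqz with e | e <;> rw [e]
  exacts [one_mem _, L.t_mem_P4 0]

/-- An interior point fixes only the centre. -/
theorem fix_interior {x : G} (hx : x ∈ L.W) (hc : Commute x (L.el ci)) : x = 1 ∨ x = L.t := by
  obtain ⟨p, rfl⟩ := L.W_dec hx
  have h1 : L.Phi (p⁻¹ * L.conjP e_facts.2.2.2.2.2.2.2.1 p) = 1 := by
    rw [map_mul, map_inv, L.Phi_conjP, hc.symm.eq, mul_inv_cancel_right, inv_mul_cancel]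
  exact L.mem_Zt.1 (L.Phi_Zt fun k => L.move_Zt (p k).2 e_facts.2.2.2.2.2.2.2.1
    (e_facts.2.2.2.2.2.2.2.2.1 k) (L.Phi_mem_Zt (h1 ▸ one_mem _) k))

theorem W_comm {x y : G} (hx : x ∈ L.W) (hy : y ∈ L.W) : x * y * x⁻¹ * y⁻¹ ∈ L.Zt := by
  rw [show x * y * x⁻¹ * y⁻¹ = (x * x) * (x⁻¹ * y * (x⁻¹ * y)) * (y⁻¹ * y⁻¹) by group]
  exact mul_mem (mul_mem (L.W_sq hx) (L.W_sq (mul_mem (inv_mem hx) hy))) (L.W_sq (inv_mem hy))

/-- Commutators in the core are central. -/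
theorem Q_comm {x y : G} (hx : x ∈ L.Q) (hy : y ∈ L.Q) : ∃ j : ZMod 3, x * y * x⁻¹ * y⁻¹ = L.el (j • e0) := by
  have hc : (⁅(⟨x, hx⟩ : L.Q), ⟨y, hy⟩⁆ : L.Q) ∈ center L.Q :=
    L.Q_extra.1.2.2 ▸ commutator_mem_commutator (mem_top _) (mem_top _)
  have hmem : x * y * x⁻¹ * y⁻¹ ∈ L.Q :=
    L.Q.mul_mem (L.Q.mul_mem (L.Q.mul_mem hx hy) (L.Q.inv_mem hx)) (L.Q.inv_mem hy)
  exact L.Q_cases ((L.Q_centre _ hmem).1 fun q hq => (congrArg Subtype.val (mem_center_iff.1 hc ⟨q, hq⟩)).symm)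

/-- The part of the core commuting with the reflection. -/
abbrev Qt : Subgroup G := L.Q ⊓ centralizer {L.t}

theorem el_mem_Qt {v : V4} (h1 : v 1 = 0) (h3 : v 3 = 0) : L.el v ∈ L.Qt :=
  mem_inf.2 ⟨(L.Q_J v).2 h3, L.el_mem_Ct h1⟩

theorem qt_moves : ∃ q ∈ L.Qt, ¬ Commute q (L.el e2) := by
  by_contra h
  push Not at h
  obtain ⟨hcard, hcent⟩ := L.tangent_core e2 e_facts.2.2.2.2.2.2.1 (Or.inr (show e2 2 ≠ 0 by decide +kernel))
  set D : Subgroup G := L.Q ⊓ centralizer {L.el e2} with hD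
  have hle : L.Qt ≤ D := fun q hq =>
    mem_inf.2 ⟨(mem_inf.1 hq).1, mem_centralizer_singleton_iff.2 (h q hq).eq⟩
  have h1D : L.el e1 ∈ D :=
    mem_inf.2 ⟨(L.Q_J e1).2 e_facts.2.2.2.1, mem_centralizer_singleton_iff.2 (L.el_comm e1 e2).eq⟩
  set S : Subgroup G := L.Qt ⊔ zpowers (L.el e1) with hS
  have hSD : S ≤ D := sup_le hle (zpowers_le.2 h1D)
  have h81 : S = D := by
    refine Subgroup.eq_of_le_of_card_ge hSD ?_
    have hdvd : Nat.card S ∣ 81 := hcard ▸ Subgroup.card_dvd_of_le hSD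
    have hgt : 27 < Nat.card S := by
      by_contra hn
      have he : L.Qt = S := Subgroup.eq_of_le_of_card_ge le_sup_left (by rw [L.cQt_card]; omega)
      have : L.el e1 ∈ L.Qt := he ▸ (le_sup_right : _ ≤ S) (mem_zpowers _)
      exact e_facts.2.2.2.2.1 (L.plane_of_comm (mem_centralizer_singleton_iff.1 (mem_inf.1 this).2).symm)
    obtain ⟨a, ha, ha'⟩ := (Nat.dvd_prime_pow Nat.prime_three).1 (show Nat.card S ∣ 3 ^ 4 by norm_num; exact hdvd)
    rw [ha'] at hgt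
    rw [hcard, ha']
    interval_cases a <;> omega
  have hcq : ∀ q ∈ L.Qt, Commute q (L.el e1) := by
    intro q hq
    obtain ⟨j, hj⟩ := L.Q_comm (mem_inf.1 hq).1 ((L.Q_J e1).2 e_facts.2.2.2.1)
    have a1 : q * L.el e1 * q⁻¹ = L.el (j • e0 + e1) := by rw [L.el_add, ← hj]; group
    have qt : L.t * q * L.t⁻¹ = q := by
      rw [(show Commute L.t q from (mem_centralizer_singleton_iff.1 (mem_inf.1 hq).2).symm).eq, mul_inv_cancel_right]
    have a2 : q * L.el (-e1) * q⁻¹ = L.el (refl1 (j • e0 + e1)) := by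
      rw [← L.t_act, ← a1, show -e1 = refl1 e1 from refl1_facts.2.2.2.1.symm, ← L.t_act]
      conv_lhs => rw [← qt]
      group
    have a3 : q * L.el (-e1) * q⁻¹ = L.el (-(j • e0 + e1)) := by rw [L.el_neg, L.el_neg, ← a1]; group
    have key : ∀ j : ZMod 3, refl1 (j • e0 + e1) = -(j • e0 + e1) → j = 0 := by decide +kernel
    have hj0 := key j (L.el_inj (a2.symm.trans a3))
    rw [hj0, zero_smul, zero_add] at a1
    exact mul_inv_eq_iff_eq_mul.1 a1
  obtain ⟨i, j, e⟩ := (hcent _ h1D).1 fun y hy => by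
    have hle2 : S ≤ centralizer {L.el e1} :=
      sup_le (fun q hq => mem_centralizer_singleton_iff.2 (hcq q hq).eq)
        (zpowers_le.2 (mem_centralizer_singleton_iff.2 rfl))
    exact (mem_centralizer_singleton_iff.1 (hle2 (h81.ge hy))).symm
  exact e_facts.2.2.2.2.2.2.2.2.2.1 i j (L.el_inj e)

theorem qt_cent {q : G} (hq : q ∈ L.Qt) (hc : Commute q (L.el e2)) : ∃ w : V4, w 1 = 0 ∧ w 3 = 0 ∧ q = L.el w := by
  set T : Subgroup G := L.Qt ⊓ centralizer {L.el e2} with hT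
  have h9 : Nat.card T ≤ 9 := by
    obtain ⟨a, ha, ha'⟩ := (Nat.dvd_prime_pow Nat.prime_three).1
      (show Nat.card T ∣ 3 ^ 3 by
        rw [show (3 : ℕ) ^ 3 = Nat.card L.Qt by rw [L.cQt_card]; norm_num]
        exact Subgroup.card_dvd_of_le inf_le_left)
    rcases (by omega : a ≤ 2 ∨ a = 3) with h | h
    · rw [ha']; exact (Nat.pow_le_pow_right (by norm_num) h).trans_eq (by norm_num)
    · exfalso
      obtain ⟨r, hr, hne⟩ := L.qt_moves
      have he : T = L.Qt := Subgroup.eq_of_le_of_card_ge inf_le_left (by rw [ha', h, L.cQt_card]; norm_num)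
      exact hne (mem_centralizer_singleton_iff.1 (mem_inf.1 (he.ge hr)).2)
  let f : ZMod 3 × ZMod 3 → T := fun p => ⟨L.el (p.1 • e0 + p.2 • e2 + (0 : ZMod 3) • e3), mem_inf.2
    ⟨L.el_mem_Qt (comb_facts _ _ _) (line_facts.2 _ _),
      mem_centralizer_singleton_iff.2 (L.el_comm _ e2).eq⟩⟩
  have hinj : Function.Injective f := fun a b e => by
    exact line_facts.1 a b (L.el_inj (congrArg Subtype.val e))
  have hbij := hinj.bijective_of_nat_card_le (by rw [Nat.card_prod, Nat.card_zmod]; exact h9)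
  obtain ⟨p, hp⟩ := hbij.2 ⟨q, mem_inf.2 ⟨hq, mem_centralizer_singleton_iff.2 hc.eq⟩⟩
  exact ⟨_, comb_facts _ _ _, line_facts.2 _ _, (congrArg Subtype.val hp).symm⟩

theorem qt_norm {g : G} (hg : g ∈ centralizer ({L.el e0} : Set G) ⊓ centralizer {L.t}) {q : G} (hq : q ∈ L.Qt) :
    g * q * g⁻¹ ∈ L.Qt :=
  mem_inf.2 ⟨L.Q_norm g (mem_inf.1 hg).1 q (mem_inf.1 hq).1,
    mul_mem (mul_mem (mem_inf.1 hg).2 (mem_inf.1 hq).2) (inv_mem (mem_inf.1 hg).2)⟩

theorem el_mem_C0 {v : V4} (h1 : v 1 = 0) : L.el v ∈ centralizer ({L.el e0} : Set G) ⊓ centralizer {L.t} :=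
  mem_inf.2 ⟨mem_centralizer_singleton_iff.2 (L.el_comm v e0).eq, L.el_mem_Ct h1⟩

/-- The part of the core commuting with the reflection normalises the plane. -/
theorem qt_plane {q : G} (hq : q ∈ L.Qt) : L.PlaneN q := by
  have hz : ∀ i : ZMod 3, Commute q (L.el (i • e0)) := fun i => by
    rw [L.el_smul]
    exact (show Commute q (L.el e0) from mem_centralizer_singleton_iff.1 (L.Q_le (mem_inf.1 hq).1)).pow_right _
  obtain ⟨j, hj⟩ := L.Q_comm (mem_inf.1 hq).1 ((L.Q_J e2).2 e_facts.2.2.2.2.2.2.1)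
  have a2 : q * L.el e2 * q⁻¹ = L.el (j • e0 + e2) := by rw [L.el_add, ← hj]; group
  set c := q * L.el e3 * q⁻¹ * (L.el e3)⁻¹ with hc
  have hcQ : c ∈ L.Qt := by
    rw [hc, show q * L.el e3 * q⁻¹ * (L.el e3)⁻¹ = q * (L.el e3 * q⁻¹ * (L.el e3)⁻¹) by group]
    exact mul_mem hq (L.qt_norm (L.el_mem_C0 e_facts.2.2.1) (inv_mem hq))
  have hcc : Commute c (L.el e2) := by
    have h1 : Commute (q * L.el e3 * q⁻¹) (L.el (j • e0 + e2)) := a2 ▸ (L.el_comm e3 e2).conj q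
    have h2 : Commute (q * L.el e3 * q⁻¹) (L.el (j • e0)) := by
      have := (L.el_comm e3 (j • e0)).conj q
      rwa [show q * L.el (j • e0) * q⁻¹ = L.el (j • e0) by rw [(hz j).eq, mul_inv_cancel_right]] at this
    refine Commute.mul_left ?_ (L.el_comm e3 e2).inv_left
    have := h2.inv_right.mul_right h1
    rwa [L.el_add, inv_mul_cancel_left] at this
  obtain ⟨w, hw1, -, hw⟩ := L.qt_cent hcQ hcc
  have a3 : q * L.el e3 * q⁻¹ = L.el (w + e3) := by rw [L.el_add, ← hw, hc]; group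
  intro v hv
  refine ⟨v 0 • e0 + v 2 • (j • e0 + e2) + v 3 • (w + e3), ?_, ?_⟩
  · exact comb_plane _ _ _ _ w hw1
  · conv_lhs => rw [plane_basis v hv, L.el_add, L.el_add]
    rw [L.el_add, L.el_add, L.el_smul (v 2), L.el_smul (v 3), L.el_smul (v 2) (j • e0 + e2),
      L.el_smul (v 3) (w + e3), ← a2, ← a3, conj_pow, conj_pow]
    calc _ = q * L.el (v 0 • e0) * q⁻¹ * (q * L.el e2 ^ (v 2).val * q⁻¹) * (q * L.el e3 ^ (v 3).val * q⁻¹) := by group
      _ = _ := by rw [(hz (v 0)).eq, mul_inv_cancel_right]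

theorem qt_normW {q : G} (hq : q ∈ L.Qt) : q ∈ normalizer (L.W : Set G) :=
  L.norm_plane (mem_inf.1 hq).2 (L.qt_plane hq)

theorem cent_plane {g : G} (hg : g ∈ centralizer ({L.t} : Set G))
    (hc : ∀ v : V4, v 1 = 0 → Commute g (L.el v)) : ∃ v : V4, v 1 = 0 ∧ (g = L.el v ∨ g = L.t * L.el v) := by
  obtain ⟨q, hq, p, hp, k, rfl⟩ := L.centT_stab g
    (mem_inf.2 ⟨mem_centralizer_singleton_iff.2 (hc e0 e_facts.1).eq, hg⟩) (hc e2 e_facts.2.1)
  set n : V4 := k • e3 with hn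
  have hn1 : n 1 = 0 := by rw [hn, Pi.smul_apply, e_facts.2.2.1, smul_zero]
  rw [← L.el_nsmul, ← hn] at hc ⊢
  have hqp : ∀ v : V4, v 1 = 0 → Commute (q * p) (L.el v) := fun v hv => by
    have := (hc v hv).mul_left (L.el_comm n v).inv_left
    rwa [mul_inv_cancel_right] at this
  have hp2 : Commute p (L.el e2) := (L.P_comm p hp _ L.el_e2_mem_Qt : _)
  have hq2 : Commute q (L.el e2) := by
    have := (hqp e2 e_facts.2.1).mul_left hp2.inv_left
    rwa [mul_inv_cancel_right] at this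
  obtain ⟨w, hw1, -, rfl⟩ := L.qt_cent hq hq2
  have hp3 : Commute p (L.el e3) := by
    have := (L.el_comm w e3).inv_left.mul_left (hqp e3 e_facts.2.2.1)
    rwa [inv_mul_cancel_left] at this
  rcases L.P_move e3 e_facts.2.2.1 refl1_facts.2.2.2.2.2.1 p hp hp3 with rfl | rfl
  · exact ⟨w + n, by simp [hw1, hn1], Or.inl (by rw [mul_one, L.el_add])⟩
  · exact ⟨w + n, by simp [hw1, hn1], Or.inr (by rw [L.el_add, ← mul_assoc, (L.t_plane hw1).eq])⟩

end Loc

end Cfsg.Agent.Co2Three
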