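import Cfsg.Agent.Lib.Co2Three.Quot.Exterior

/-!
The quaternion groups at the four singular points of the plane fixed by the reflection: at each point it is the
largest signaliser of the plane inside the centraliser.
-/

set_option autoImplicit false
set_option maxRecDepth 20000
set_option linter.style.haveILetI false
set_option linter.unusedSectionVars false

namespace Cfsg.Agent.Co2Three

open Subgroup

/-- The four singular lines of the plane. -/
def cp : Fin 4 → V4 := ![![1, 0, 0, 0], ![0, 0, 0, 1], ![1, 0, 1, 1], ![1, 0, -1, 1]]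

/-- Maps of the plane moving the central point to each of the four. -/
def mp : Fin 4 → Matrix (Fin 4) (Fin 4) (ZMod 3) :=
  ![!![1, 0, 0, 0; 0, 1, 0, 0; 0, 0, 1, 0; 0, 0, 0, 1],
    !![0, 0, 0, 1; 0, 1, 0, 0; 0, 0, 1, 0; 1, 0, 0, 0],
    !![1, 0, 0, 0; 0, 1, 0, 0; 1, 0, 1, 0; 1, 0, 2, 1],
    !![1, 0, 0, 0; 0, 1, 0, 0; 2, 0, 1, 0; 1, 0, 1, 1]]

/-- Maps of the plane moving two of the points to the standard pair. -/
def np : Fin 4 → Fin 4 → Matrix (Fin 4) (Fin 4) (ZMod 3) :=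
  ![![!![1, 0, 0, 0; 0, 1, 0, 0; 0, 0, 1, 0; 0, 0, 0, 1], !![1, 0, 0, 0; 0, 1, 0, 0; 0, 0, 1, 0; 0, 0, 0, 1], !![1, 0, 1, 1; 0, 1, 0, 0; 0, 0, 1, 2; 0, 0, 0, 1], !![1, 0, 2, 1; 0, 1, 0, 0; 0, 0, 1, 1; 0, 0, 0, 1]],
    ![!![0, 0, 0, 1; 0, 1, 0, 0; 0, 0, 1, 0; 1, 0, 0, 0], !![1, 0, 0, 0; 0, 1, 0, 0; 0, 0, 1, 0; 0, 0, 0, 1], !![1, 0, 1, 1; 0, 1, 0, 0; 1, 0, 2, 0; 1, 0, 0, 0], !![1, 0, 2, 1; 0, 1, 0, 0; 1, 0, 1, 0; 1, 0, 0, 0]],
    ![!![0, 0, 0, 1; 0, 1, 0, 0; 0, 0, 1, 2; 1, 0, 1, 1], !![1, 0, 0, 0; 0, 1, 0, 0; 1, 0, 2, 0; 1, 0, 1, 1], !![1, 0, 0, 0; 0, 1, 0, 0; 0, 0, 1, 0; 0, 0, 0, 1], !![1, 0, 2, 1; 0, 1, 0, 0; 1, 0, 0, 2; 1, 0, 1, 1]],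
    ![!![0, 0, 0, 1; 0, 1, 0, 0; 0, 0, 1, 1; 1, 0, 2, 1], !![1, 0, 0, 0; 0, 1, 0, 0; 1, 0, 1, 0; 1, 0, 2, 1], !![1, 0, 1, 1; 0, 1, 0, 0; 1, 0, 0, 2; 1, 0, 2, 1], !![1, 0, 0, 0; 0, 1, 0, 0; 0, 0, 1, 0; 0, 0, 0, 1]]]

theorem cp_zero : cp 0 = e0 := rfl

theorem cp_facts : ∀ i, cp i ≠ 0 ∧ qf (cp i) = 0 ∧ cp i 1 = 0 := by decide +kernel

theorem mp_refl : ∀ i v, (mp i).mulVec (refl1 v) = refl1 ((mp i).mulVec v) := by decide +kernel

theorem mp_qf : ∀ i v, qf ((mp i).mulVec v) = qf v := by decide +kernel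

theorem mp_pt : ∀ i, (mp i).mulVec e0 = cp i := by decide +kernel

theorem mp_bf : ∀ i v, bf ((mp i).mulVec v) (cp i) = v 3 ∧ (((mp i).mulVec v) 1 = 0 ↔ v 1 = 0) := by decide +kernel

theorem np_refl : ∀ i j v, (np i j).mulVec (refl1 v) = refl1 ((np i j).mulVec v) := by decide +kernel

theorem np_qf : ∀ i j v, qf ((np i j).mulVec v) = qf v := by decide +kernel

theorem np_pts : ∀ i j, i ≠ j → ((np i j).mulVec (cp i) = e0 ∨ (np i j).mulVec (cp i) = -e0) ∧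
    ((np i j).mulVec (cp j) = e3 ∨ (np i j).mulVec (cp j) = -e3) := by decide +kernel

theorem np_pre : ∀ i j, i ≠ j → ∀ v, (np i j).mulVec v = e2 → v 1 = 0 ∧ bf v (cp i) = 0 ∧ bf v (cp j) = 0 := by
  decide +kernel

theorem plane_facts : ∀ v : V4, v 1 = 0 → refl1 v = v := by decide +kernel

theorem refl1_fix : ∀ v : V4, refl1 v = -v → (v + v) + (v + v) = v := by decide +kernel

theorem refl1_refl1 : ∀ v : V4, refl1 (refl1 v) = v := by decide +kernel

theorem qt_point : ∀ v : V4, v 3 = 0 → v 1 = 0 → e2 1 = 0 ∧ e0 1 = 0 ∧ e3 1 = 0 := by decide +kernel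

/-- A subgroup invariant under the plane. -/
def PlaneInv {G : Type*} [Group G] [Finite G] (L : Loc G) (X : Subgroup G) : Prop :=
  ∀ v : V4, v 1 = 0 → ∀ x ∈ X, L.el v * x * (L.el v)⁻¹ ∈ X

namespace Loc

variable {G : Type*} [Group G] [Finite G] (L : Loc G)

theorem t_plane {v : V4} (h : v 1 = 0) : Commute L.t (L.el v) := L.t_comm (plane_facts v h)

theorem el_mem_Ct {v : V4} (h : v 1 = 0) : L.el v ∈ centralizer ({L.t} : Set G) :=
  mem_centralizer_singleton_iff.2 (L.t_plane h).eq.symm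

/-- A similitude commuting with the reflection is induced by an element commuting with it. -/
theorem exists_lift {M : Matrix (Fin 4) (Fin 4) (ZMod 3)} (hM : IsSim M)
    (hc : ∀ v, M.mulVec (refl1 v) = refl1 (M.mulVec v)) :
    ∃ g : G, Commute g L.t ∧ ∀ v, g * L.el v * g⁻¹ = L.el (M.mulVec v) := by
  obtain ⟨g, hg⟩ := L.realise M hM
  have hsurj : Function.Surjective fun v => M.mulVec v := Finite.surjective_of_injective fun a b e => by
    have h : g * L.el a * g⁻¹ = g * L.el b * g⁻¹ := by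
      rw [hg, hg]; exact congrArg L.el e
    exact L.el_inj (mul_left_cancel (mul_right_cancel h))
  obtain ⟨v, hv⟩ := L.cent_J (g * L.t * g⁻¹ * L.t⁻¹) fun w => by
    obtain ⟨u, hu⟩ := hsurj (refl1 w)
    change M.mulVec u = refl1 w at hu
    have e1 : L.t⁻¹ * L.el w * L.t = L.el (refl1 w) := by
      have := L.t_act (refl1 w)
      rw [refl1_refl1] at this
      rw [← this]; group
    refine mul_inv_eq_iff_eq_mul.1 ?_
    have e2 : (M.mulVec (refl1 u)) = w := by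
      rw [hc, hu, refl1_refl1]
    calc g * L.t * g⁻¹ * L.t⁻¹ * L.el w * (g * L.t * g⁻¹ * L.t⁻¹)⁻¹
        = g * L.t * (g⁻¹ * (L.t⁻¹ * L.el w * L.t) * g) * L.t⁻¹ * g⁻¹ := by group
      _ = g * (L.t * L.el u * L.t⁻¹) * g⁻¹ := by
        rw [e1, ← hu, ← hg]; group
      _ = L.el w := by rw [L.t_act, hg, e2]
  have hgt : g * L.t * g⁻¹ = L.el v * L.t := by rw [← hv]; group
  have hsq : L.el (v + refl1 v) = 1 := by
    have ti : L.t⁻¹ = L.t := inv_eq_of_mul_eq_one_right L.t_sq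
    rw [L.el_add, ← L.t_act, ti]
    calc L.el v * (L.t * L.el v * L.t) = L.el v * L.t * (L.el v * L.t) := by group
      _ = g * (L.t * L.t) * g⁻¹ := by rw [← hgt]; group
      _ = 1 := by rw [L.t_sq]; group
  have hr : refl1 v = -v := eq_neg_of_add_eq_zero_right (L.el_eq_one.1 hsq)
  set w : V4 := v + v with hw
  have hw' : L.el w * L.t * (L.el w)⁻¹ = L.el v * L.t := by
    have hrw : refl1 w = -w := by
      funext k
      have := congrFun hr k
      fin_cases k <;> simp [refl1, hw] at this ⊢ <;> linear_combination this + this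
    have e : L.t * (L.el w)⁻¹ = L.el w * L.t := by
      rw [← L.el_neg, ← hrw, ← L.t_act, ← mul_assoc, ← mul_assoc, L.t_sq, one_mul,
        inv_eq_of_mul_eq_one_right L.t_sq]
    rw [mul_assoc, e, ← mul_assoc, ← L.el_add]
    rw [hw, refl1_fix v hr]
  refine ⟨(L.el w)⁻¹ * g, mul_inv_eq_iff_eq_mul.1 ?_, fun u => ?_⟩
  · calc (L.el w)⁻¹ * g * L.t * ((L.el w)⁻¹ * g)⁻¹ = (L.el w)⁻¹ * (g * L.t * g⁻¹) * L.el w := by group
      _ = L.t := by rw [hgt, ← hw']; group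
  · rw [show (L.el w)⁻¹ * g * L.el u * ((L.el w)⁻¹ * g)⁻¹ = (L.el w)⁻¹ * (g * L.el u * g⁻¹) * L.el w by group,
      hg, mul_assoc, (L.el_comm _ w).eq, inv_mul_cancel_left]

/-- The quaternion group is the largest signaliser at the central point. -/
theorem sig_zero {X : Subgroup G} (hX : X ≤ centralizer {L.el e0} ⊓ centralizer {L.t})
    (hcop : (Nat.card X).Coprime 3) (hinv : PlaneInv L X) : X ≤ L.P := by
  obtain ⟨f, hf, hk⟩ := L.centT
  have hcube : ∀ (y : G), y ^ 3 = 1 → y ^ Nat.card X = 1 → y = 1 := fun y h3 hn =>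
    orderOf_eq_one_iff.1 (Nat.eq_one_of_dvd_coprimes hcop (orderOf_dvd_of_pow_eq_one hn)
      (orderOf_dvd_of_pow_eq_one h3))
  have hker : ∀ {q p : G}, q ∈ L.Q ⊓ centralizer {L.t} → p ∈ L.P → (q * p) ^ Nat.card X = 1 → q = 1 := by
    intro q p hq hp hn
    have hc : Commute q p := (L.P_comm p hp q hq).symm
    rw [hc.mul_pow] at hn
    have h4 : (q ^ Nat.card X) ^ 4 = 1 := by
      rw [eq_inv_of_mul_eq_one_left hn, inv_pow, ← pow_mul, mul_comm, pow_mul, L.P_four hp, one_pow, inv_one]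
    have h3 : (q ^ Nat.card X) ^ 3 = 1 := by
      rw [← pow_mul, mul_comm, pow_mul, L.Q_exp q (mem_inf.1 hq).1, one_pow]
    refine hcube q (L.Q_exp q (mem_inf.1 hq).1) ?_
    calc q ^ Nat.card X = (q ^ Nat.card X) ^ 4 * ((q ^ Nat.card X) ^ 3)⁻¹ := by group
      _ = 1 := by rw [h4, h3]; group
  intro x hx
  have hxn : x ^ Nat.card X = 1 := congrArg Subtype.val (pow_card_eq_one' (x := (⟨x, hx⟩ : X)))
  have he : L.el e2 ∈ centralizer ({L.el e0} : Set G) ⊓ centralizer {L.t} :=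
    mem_inf.2 ⟨mem_centralizer_singleton_iff.2 (L.el_comm e2 e0).eq, L.el_mem_Ct (by decide +kernel)⟩
  set c := x * (L.el e2 * x⁻¹ * (L.el e2)⁻¹) with hc
  have hcX : c ∈ X := X.mul_mem hx (hinv e2 (by decide +kernel) _ (X.inv_mem hx))
  have hfe : f ⟨L.el e2, he⟩ = 1 := (hk _).2 ⟨L.el e2, L.el_e2_mem_Qt, 1, L.P.one_mem, by rw [mul_one]⟩
  have hfc : f ⟨c, hX hcX⟩ = 1 := by
    have e : (⟨c, hX hcX⟩ : ↥(centralizer ({L.el e0} : Set G) ⊓ centralizer {L.t})) =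
        ⟨x, hX hx⟩ * (⟨L.el e2, he⟩ * ⟨x, hX hx⟩⁻¹ * ⟨L.el e2, he⟩⁻¹) := Subtype.ext hc
    rw [e, map_mul, map_mul, map_mul, map_inv, map_inv, hfe]
    group
  obtain ⟨q, hq, p, hp, hqp⟩ := (hk _).1 hfc
  change c = q * p at hqp
  have hcn : c ^ Nat.card X = 1 := congrArg Subtype.val (pow_card_eq_one' (x := (⟨c, hcX⟩ : X)))
  have hq1 : q = 1 := hker hq hp (hqp ▸ hcn)
  rw [hq1, one_mul] at hqp
  have hpc : Commute p (L.el e2) := (L.P_comm p hp _ L.el_e2_mem_Qt : _)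
  have hxe : x * L.el e2 * x⁻¹ = p * L.el e2 := by rw [← hqp, hc]; group
  have hp1 : p = 1 := by
    have h := conj_pow (a := x) (b := L.el e2) (i := 3)
    rw [hxe, hpc.mul_pow, L.el_cube, mul_one, mul_one, mul_inv_cancel] at h
    calc p = p ^ 4 * (p ^ 3)⁻¹ := by group
      _ = 1 := by rw [L.P_four hp, h]; group
  rw [hp1, one_mul] at hxe
  obtain ⟨q', hq', p', hp', k, hxk⟩ := L.centT_stab x (hX hx) (mul_inv_eq_iff_eq_mul.1 hxe)
  have hfx : f ⟨x, hX hx⟩ = 1 := by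
    have he3 : L.el e3 ^ k ∈ centralizer ({L.el e0} : Set G) ⊓ centralizer {L.t} :=
      pow_mem (mem_inf.2 ⟨mem_centralizer_singleton_iff.2 (L.el_comm e3 e0).eq, L.el_mem_Ct (by decide +kernel)⟩) k
    have hqp' : q' * p' ∈ centralizer ({L.el e0} : Set G) ⊓ centralizer {L.t} :=
      mul_mem (mem_inf.2 ⟨L.Q_le (mem_inf.1 hq').1, (mem_inf.1 hq').2⟩) (L.P_le hp')
    have h0 : f ⟨q' * p', hqp'⟩ = 1 := (hk _).2 ⟨q', hq', p', hp', rfl⟩
    have e : (⟨x, hX hx⟩ : ↥(centralizer ({L.el e0} : Set G) ⊓ centralizer {L.t})) =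
        ⟨q' * p', hqp'⟩ * ⟨L.el e3 ^ k, he3⟩ := Subtype.ext hxk
    have h3 : f ⟨x, hX hx⟩ ^ 3 = 1 := by
      rw [e, map_mul, h0, one_mul, ← map_pow]
      have : (⟨L.el e3 ^ k, he3⟩ : ↥(centralizer ({L.el e0} : Set G) ⊓ centralizer {L.t})) ^ 3 = 1 :=
        Subtype.ext (by rw [Subgroup.coe_pow, ← pow_mul, mul_comm, pow_mul, L.el_cube, one_pow]; rfl)
      rw [this, map_one]
    have hn : f ⟨x, hX hx⟩ ^ Nat.card X = 1 := by
      rw [← map_pow, show (⟨x, hX hx⟩ : ↥(centralizer ({L.el e0} : Set G) ⊓ centralizer {L.t})) ^ Nat.card X = 1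
        from Subtype.ext (by rw [Subgroup.coe_pow]; exact hxn), map_one]
    exact orderOf_eq_one_iff.1 (Nat.eq_one_of_dvd_coprimes hcop (orderOf_dvd_of_pow_eq_one hn)
      (orderOf_dvd_of_pow_eq_one h3))
  obtain ⟨q'', hq'', p'', hp'', hxq⟩ := (hk _).1 hfx
  change x = q'' * p'' at hxq
  have hq0 : q'' = 1 := hker hq'' hp'' (hxq ▸ hxn)
  rw [hxq, hq0, one_mul]
  exact hp''

/-- An element moving the central point to the given one and commuting with the reflection. -/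
noncomputable def gp (i : Fin 4) : G := (L.exists_lift (Or.inl (mp_qf i)) (mp_refl i)).choose

theorem gp_t (i : Fin 4) : Commute (L.gp i) L.t :=
  (L.exists_lift (Or.inl (mp_qf i)) (mp_refl i)).choose_spec.1

theorem gp_act (i : Fin 4) (v : V4) : L.gp i * L.el v * (L.gp i)⁻¹ = L.el ((mp i).mulVec v) :=
  (L.exists_lift (Or.inl (mp_qf i)) (mp_refl i)).choose_spec.2 v

/-- The quaternion group at a point. -/
noncomputable def P4 (i : Fin 4) : Subgroup G := L.P.map (MulAut.conj (L.gp i)).toMonoidHom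

theorem mem_P4 {i : Fin 4} {x : G} : x ∈ L.P4 i ↔ (L.gp i)⁻¹ * x * L.gp i ∈ L.P := by
  rw [P4, mem_map_equiv, MulAut.conj_symm_apply]

theorem P4_card (i : Fin 4) : Nat.card (L.P4 i) = 8 := by
  rw [P4, Subgroup.card_map_of_injective (MulEquiv.injective _), L.P_card]

theorem P4_le (i : Fin 4) : L.P4 i ≤ centralizer {L.el (cp i)} ⊓ centralizer {L.t} := by
  rintro _ ⟨p, hp, rfl⟩
  obtain ⟨p1, p2⟩ := mem_inf.1 (L.P_le hp)
  refine mem_inf.2 ⟨mem_centralizer_singleton_iff.2 ?_, mem_centralizer_singleton_iff.2 ?_⟩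
  · rw [← mp_pt, ← L.gp_act]
    exact ((show Commute p (L.el e0) from mem_centralizer_singleton_iff.1 p1).conj (L.gp i)).eq
  · have h := (show Commute p L.t from mem_centralizer_singleton_iff.1 p2).conj (L.gp i)
    rw [(L.gp_t i).eq, mul_inv_cancel_right] at h
    exact h.eq

theorem t_mem_P4 (i : Fin 4) : L.t ∈ L.P4 i := L.mem_P4.2 (by
  rw [mul_assoc, ← (L.gp_t i).eq, inv_mul_cancel_left]
  exact L.t_mem)

theorem P4_invol {i : Fin 4} {x : G} (hx : x ∈ L.P4 i) (h2 : x * x = 1) : x = 1 ∨ x = L.t := by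
  rcases L.P_invol _ (L.mem_P4.1 hx) (by
    rw [show (L.gp i)⁻¹ * x * L.gp i * ((L.gp i)⁻¹ * x * L.gp i) = (L.gp i)⁻¹ * (x * x) * L.gp i by group,
      h2, mul_one, inv_mul_cancel]) with e | e
  · left
    calc x = L.gp i * ((L.gp i)⁻¹ * x * L.gp i) * (L.gp i)⁻¹ := by group
      _ = 1 := by rw [e]; group
  · right
    calc x = L.gp i * ((L.gp i)⁻¹ * x * L.gp i) * (L.gp i)⁻¹ := by group
      _ = L.t := by rw [e, (L.gp_t i).eq, mul_inv_cancel_right]

theorem P4_four {i : Fin 4} {x : G} (hx : x ∈ L.P4 i) : x ^ 4 = 1 := by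
  have h := L.P_four (L.mem_P4.1 hx)
  rw [show x = L.gp i * ((L.gp i)⁻¹ * x * L.gp i) * (L.gp i)⁻¹ by group, conj_pow, h, mul_one, mul_inv_cancel]

include L in
theorem exists_pre (i : Fin 4) (v : V4) : ∃ u, (mp i).mulVec u = v := by
  have hinj : Function.Injective fun u => (mp i).mulVec u := fun a b e => L.el_inj (by
    have h : L.gp i * L.el a * (L.gp i)⁻¹ = L.gp i * L.el b * (L.gp i)⁻¹ := by
      rw [L.gp_act, L.gp_act]; exact congrArg L.el e
    exact mul_left_cancel (mul_right_cancel h))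
  exact Finite.surjective_of_injective hinj v

/-- The point acts trivially on the quaternion group exactly at the tangent plane. -/
theorem P4_comm {i : Fin 4} {x : G} (hx : x ∈ L.P4 i) {v : V4} (hv : v 1 = 0) (hb : bf v (cp i) = 0) :
    Commute x (L.el v) := by
  obtain ⟨u, rfl⟩ := L.exists_pre i v
  rw [(mp_bf i u).1] at hb
  have hu1 := (mp_bf i u).2.1 hv
  have hQ : L.el u ∈ L.Q ⊓ centralizer {L.t} := mem_inf.2 ⟨(L.Q_J u).2 hb, L.el_mem_Ct hu1⟩
  rw [← L.gp_act, show x = L.gp i * ((L.gp i)⁻¹ * x * L.gp i) * (L.gp i)⁻¹ by group]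
  exact (show Commute ((L.gp i)⁻¹ * x * L.gp i) (L.el u) from L.P_comm _ (L.mem_P4.1 hx) _ hQ).conj _

theorem P4_move {i : Fin 4} {x : G} (hx : x ∈ L.P4 i) {v : V4} (hv : v 1 = 0) (hb : bf v (cp i) ≠ 0)
    (hc : Commute x (L.el v)) : x = 1 ∨ x = L.t := by
  obtain ⟨u, rfl⟩ := L.exists_pre i v
  rw [(mp_bf i u).1] at hb
  have hu1 := (mp_bf i u).2.1 hv
  have hc' : Commute ((L.gp i)⁻¹ * x * L.gp i) (L.el u) := by
    have h := hc.conj (L.gp i)⁻¹
    rw [inv_inv, ← L.gp_act] at h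
    simpa [mul_assoc] using h
  rcases L.P_move u hu1 hb _ (L.mem_P4.1 hx) hc' with e | e
  · left
    calc x = L.gp i * ((L.gp i)⁻¹ * x * L.gp i) * (L.gp i)⁻¹ := by group
      _ = 1 := by rw [e]; group
  · right
    calc x = L.gp i * ((L.gp i)⁻¹ * x * L.gp i) * (L.gp i)⁻¹ := by group
      _ = L.t := by rw [e, (L.gp_t i).eq, mul_inv_cancel_right]

theorem P4_inv (i : Fin 4) : PlaneInv L (L.P4 i) := by
  intro v hv x hx
  obtain ⟨u, rfl⟩ := L.exists_pre i v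
  have hu1 := (mp_bf i u).2.1 hv
  rw [mem_P4, ← L.gp_act]
  have : (L.gp i)⁻¹ * (L.gp i * L.el u * (L.gp i)⁻¹ * x * (L.gp i * L.el u * (L.gp i)⁻¹)⁻¹) * L.gp i =
      L.el u * ((L.gp i)⁻¹ * x * L.gp i) * (L.el u)⁻¹ := by group
  rw [this]
  exact L.P_norm _ (mem_inf.2 ⟨mem_centralizer_singleton_iff.2 (L.el_comm u e0).eq, L.el_mem_Ct hu1⟩) _
    (L.mem_P4.1 hx)

/-- The quaternion group is the largest signaliser at its point. -/
theorem sig_point (i : Fin 4) {X : Subgroup G} (hX : X ≤ centralizer {L.el (cp i)} ⊓ centralizer {L.t})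
    (hcop : (Nat.card X).Coprime 3) (hinv : PlaneInv L X) : X ≤ L.P4 i := by
  set g := L.gp i with hg
  have h := L.sig_zero (X := X.map (MulAut.conj g⁻¹).toMonoidHom) (by
      rintro _ ⟨x, hx, rfl⟩
      obtain ⟨x1, x2⟩ := mem_inf.1 (hX hx)
      refine mem_inf.2 ⟨mem_centralizer_singleton_iff.2 ?_, mem_centralizer_singleton_iff.2 ?_⟩
      · have h := (show Commute x (L.el (cp i)) from mem_centralizer_singleton_iff.1 x1).conj g⁻¹
        rw [← mp_pt, ← L.gp_act, ← hg] at h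
        simpa [mul_assoc] using h.eq
      · have h := (show Commute x L.t from mem_centralizer_singleton_iff.1 x2).conj g⁻¹
        rw [inv_inv, show g⁻¹ * L.t * g = L.t by rw [mul_assoc, ← (L.gp_t i).eq, inv_mul_cancel_left]] at h
        simpa [mul_assoc] using h.eq)
    (by rwa [Subgroup.card_map_of_injective (MulEquiv.injective _)]) (by
      intro u hu y hy
      obtain ⟨x, hx, rfl⟩ := hy
      refine ⟨_, hinv _ ((mp_bf i u).2.2 hu) x hx, ?_⟩
      rw [← L.gp_act, ← hg]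
      simp [mul_assoc])
  intro x hx
  rw [L.mem_P4, ← hg]
  have := h ⟨x, hx, rfl⟩
  simpa [mul_assoc] using this

end Loc

end Cfsg.Agent.Co2Three
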