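import Cfsg.Agent.Lib.Co2Three.W.Sides

/-!
The core at the exterior point of the line orthogonal to both reflections.
-/

set_option autoImplicit false
set_option maxRecDepth 20000
set_option synthInstance.maxSize 1000
set_option linter.style.haveILetI false
set_option linter.unusedSectionVars false

namespace Cfsg.Agent.Co2Three

open Subgroup

theorem kc_more : (∀ v, kc.mulVec (kc.mulVec v) = v) ∧ (∀ v, kc.mulVec (-v) = -(kc.mulVec v)) ∧
    kc.mulVec ci = ci ∧ kc.mulVec e2 = ec := by decide +kernel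

theorem sx_line : (∀ k, ((sx k).mulVec ci = ci ∨ (sx k).mulVec ci = -ci) ∧
      ((sx k).mulVec ec = ec ∨ (sx k).mulVec ec = -ec)) ∧
    (∀ k v, (sx k).mulVec (reflc v) = reflc ((sx k).mulVec v)) ∧ (∀ v, reflc (reflc v) = v) ∧
    refl2 ci = ci ∧ refl2 ec = ec ∧ refl2 e2 = -e2 ∧ reflv ci e2 = e2 ∧ reflv ci (-ci) = ci ∧
    reflv ci (-e2) = -e2 := by decide +kernel

theorem refl2_fix : ∀ u : V4, refl2 u = u → u 2 = 0 := by decide +kernel

namespace Loc

variable {G : Type*} [Group G] [Finite G] (L : Loc G) {r s y n : G} (V : L.Data r s y n)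
include V

/-- The core at the exterior point. -/
def Kc : Subgroup G where
  carrier := {x | ∃ z ∈ L.Zg r V.inner.isR, ∃ w ∈ L.W, Commute w (L.el ec) ∧ Commute w r ∧ x = z * w}
  one_mem' := ⟨1, one_mem _, 1, one_mem _, Commute.one_left _, Commute.one_left _, (mul_one _).symm⟩
  mul_mem' := by
    rintro _ _ ⟨z, hz, w, hw, we, wr, rfl⟩ ⟨z', hz', w', hw', we', wr', rfl⟩
    refine ⟨z * z', mul_mem hz hz', w * w', mul_mem hw hw', we.mul_left we', wr.mul_left wr', ?_⟩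
    have hwC : w ∈ L.Cg r := L.mem_Cg.2 ⟨mem_centralizer_singleton_iff.1 (L.W_le hw), wr⟩
    calc z * w * (z' * w') = z * (w * z') * w' := by group
      _ = _ := by rw [(L.Zg_central V.inner.isR hz' hwC).symm.eq]; group
  inv_mem' := by
    rintro _ ⟨z, hz, w, hw, we, wr, rfl⟩
    have hwC : w ∈ L.Cg r := L.mem_Cg.2 ⟨mem_centralizer_singleton_iff.1 (L.W_le hw), wr⟩
    refine ⟨z⁻¹, inv_mem hz, w⁻¹, inv_mem hw, we.inv_left, wr.inv_left, ?_⟩
    rw [_root_.mul_inv_rev, ((L.Zg_central V.inner.isR hz hwC).inv_inv).eq]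

theorem W_mem_Cg {w : G} (hw : w ∈ L.W) (wr : Commute w r) : w ∈ L.Cg r :=
  L.mem_Cg.2 ⟨mem_centralizer_singleton_iff.1 (L.W_le hw), wr⟩

theorem el_pow {g : G} {u : V4} (hg : g * L.el u * g⁻¹ = L.el u) (a : ℕ) : Commute (g ^ a) (L.el u) :=
  (show Commute g (L.el u) from mul_inv_eq_iff_eq_mul.1 hg).pow_left a

theorem Kc_facts : L.Kc V ≤ L.Cg r ⊓ centralizer {L.el ec} ∧ L.Zg r V.inner.isR ≤ L.Kc V ∧
    (∀ x ∈ L.Kc V, x * x ∈ L.Zg r V.inner.isR) ∧
    (∀ x ∈ L.Cg r, Commute x (L.el ec) → ∀ k ∈ L.Kc V, x * k * x⁻¹ ∈ L.Kc V) ∧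
    (∀ x ∈ L.Cg r, Commute x (L.el ec) → ∃ k ∈ L.Kc V, ∃ (a : ℕ) (v : V4),
      v 1 = 0 ∧ v 2 = 0 ∧ a < 2 ∧ x = k * n ^ a * L.el v) := by
  obtain ⟨kq, kr, kec, kpl, krf⟩ := kc_facts
  obtain ⟨k2, kneg, kci, ke2⟩ := kc_more
  obtain ⟨sxl, sxc, rcc, f2i, f2c, f22, n2, nci, n2'⟩ := sx_line
  obtain ⟨h, ht, hact⟩ := L.exists_lift (Or.inl kq) kr
  have hN : h ∈ normalizer (L.W : Set G) :=
    L.norm_plane (mem_centralizer_singleton_iff.2 ht.eq) fun v hv => ⟨_, kpl v hv, hact v⟩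
  have hback : ∀ v, h⁻¹ * L.el v * h = L.el (kc.mulVec v) := fun v => by
    calc h⁻¹ * L.el v * h = h⁻¹ * (h * L.el (kc.mulVec v) * h⁻¹) * h := by rw [hact, k2]
      _ = _ := by group
  set r' := h * r * h⁻¹ with hr'
  have r'act : ∀ w, r' * L.el w * r'⁻¹ = L.el (reflc w) := fun w => by
    calc r' * L.el w * r'⁻¹ = h * (r * (h⁻¹ * L.el w * h) * r⁻¹) * h⁻¹ := by rw [hr']; group
      _ = L.el (reflc w) := by rw [hback, V.inner.isR.act, hact, krf, k2]
  have r'sq : r' * r' = 1 := by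
    rw [hr', show h * r * h⁻¹ * (h * r * h⁻¹) = h * (r * r) * h⁻¹ by group, V.inner.isR.sq]; group
  have r't : r' ∈ centralizer ({L.t} : Set G) := by
    have := V.inner.isR.comm.conj h
    rw [ht.eq, mul_inv_cancel_right] at this
    exact mem_centralizer_singleton_iff.2 (by rw [hr']; exact this.eq)
  have down : ∀ {x : G}, x ∈ L.Cg r → Commute x (L.el ec) →
      h * x * h⁻¹ ∈ L.Dx ∧ Commute (h * x * h⁻¹) r' := fun {x} hx hc => by
    obtain ⟨xt, xr⟩ := L.mem_Cg.1 hx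
    refine ⟨mem_inf.2 ⟨mem_centralizer_singleton_iff.2 ?_, mem_centralizer_singleton_iff.2 ?_⟩, xr.conj h⟩
    · have := hc.conj h
      rw [hact, kec] at this
      exact this.eq
    · have := xt.conj h
      rw [ht.eq, mul_inv_cancel_right] at this
      exact this.eq
  have normW : ∀ {x : G}, x ∈ L.Cg r → Commute x (L.el ec) → x ∈ normalizer (L.W : Set G) := fun {x} hx hc => by
    have := mul_mem (mul_mem (inv_mem hN) (L.cent_exterior (down hx hc).1)) hN
    rwa [show h⁻¹ * (h * x * h⁻¹) * h = x by group] at this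
  have hecC : L.el ec ∈ L.Cg r := L.el_Cg V L_facts.2.2.2.2.2.2.2.1 L_facts.2.2.2.2.2.2.2.2.1
  refine ⟨?_, ?_, ?_, ?_, ?_⟩
  · rintro _ ⟨z, hz, w, hw, we, wr, rfl⟩
    exact mem_inf.2 ⟨mul_mem (L.Zg_le V.inner.isR hz) (L.W_mem_Cg V hw wr),
      mem_centralizer_singleton_iff.2 ((L.Zg_central V.inner.isR hz hecC).mul_left we).eq⟩
  · exact fun z hz => ⟨z, hz, 1, one_mem _, Commute.one_left _, Commute.one_left _, (mul_one _).symm⟩
  · rintro _ ⟨z, hz, w, hw, -, wr, rfl⟩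
    rw [show z * w * (z * w) = z * (w * z) * w by group,
      (L.Zg_central V.inner.isR hz (L.W_mem_Cg V hw wr)).symm.eq, show z * (z * w) * w = z * z * (w * w) by group,
      L.Zg_sq V.inner.isR hz, one_mul]
    exact L.Zt_le_Zg V.inner.isR (L.W_sq hw)
  · rintro x hx hc _ ⟨z, hz, w, hw, we, wr, rfl⟩
    refine ⟨z, hz, x * w * x⁻¹, (mem_normalizer_iff.1 (normW hx hc) w).1 hw, ?_, ?_, ?_⟩
    · have := we.conj x
      rwa [hc.eq, mul_inv_cancel_right] at this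
    · have := wr.conj x
      rwa [(L.mem_Cg.1 hx).2.eq, mul_inv_cancel_right] at this
    · calc x * (z * w) * x⁻¹ = x * z * w * x⁻¹ := by group
        _ = z * x * w * x⁻¹ := by rw [(L.Zg_central V.inner.isR hz hx).symm.eq]
        _ = _ := by group
  intro x hx hc
  obtain ⟨hD, hr'c⟩ := down hx hc
  obtain ⟨ρ, hρ, k, v, hv, hxe⟩ := L.dx_facts.1 _ hD
  set g0 := L.gk k * L.el v with hg0
  have hxe' : h * x * h⁻¹ = ρ * g0 := by rw [hxe, hg0, mul_assoc]
  have g0act : ∀ u, g0 * L.el u * g0⁻¹ = L.el ((sx k).mulVec u) := fun u => by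
    rw [show g0 * L.el u * g0⁻¹ = L.gk k * (L.el v * L.el u * (L.el v)⁻¹) * (L.gk k)⁻¹ by rw [hg0]; group,
      (L.el_comm v u).eq, mul_inv_cancel_right, L.gk_act]
  have g0t : g0 ∈ centralizer ({L.t} : Set G) := mul_mem (L.gk_t k) (L.el_mem_Ct hv)
  have sw := L.swap_P4 r't r'act
  obtain ⟨a, ha, b, hb, hab⟩ := L.mem_R.1 hρ
  have ri : r'⁻¹ = r' := inv_eq_of_mul_eq_one_right r'sq
  -- the part in the pair is fixed
  set d := ρ⁻¹ * (r' * ρ * r'⁻¹) with hd
  have hdR : d ∈ L.R := by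
    refine mul_mem (inv_mem hρ) (L.mem_R.2 ⟨_, sw.2 b hb, _, sw.1 a ha, ?_⟩)
    rw [← hab, (L.P4_pair two_points.1 ha hb).eq]
    group
  have hde : d = g0 * (r' * g0 * r'⁻¹)⁻¹ := by
    calc d = ρ⁻¹ * (r' * (ρ * g0) * r'⁻¹) * (r' * g0 * r'⁻¹)⁻¹ := by rw [hd]; group
      _ = ρ⁻¹ * (ρ * g0) * (r' * g0 * r'⁻¹)⁻¹ := by rw [← hxe', hr'c.symm.eq, mul_inv_cancel_right]
      _ = _ := by group
  have hdact : ∀ u : V4, d * L.el u * d⁻¹ = L.el u := fun u => by
    have e1 : (r' * g0 * r'⁻¹) * L.el u * (r' * g0 * r'⁻¹)⁻¹ = L.el ((sx k).mulVec u) := by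
      calc _ = r' * (g0 * (r'⁻¹ * L.el u * r') * g0⁻¹) * r'⁻¹ := by group
        _ = r' * (g0 * L.el (reflc u) * g0⁻¹) * r'⁻¹ := by rw [← r'act u, ri]
        _ = _ := by rw [g0act, r'act, sxc, rcc]
    have hsurj : ∃ u', (sx k).mulVec u' = u :=
      Finite.surjective_of_injective (fun a b e => L.el_inj (by
        have h : g0 * L.el a * g0⁻¹ = g0 * L.el b * g0⁻¹ := by rw [g0act, g0act]; exact congrArg L.el e
        exact mul_left_cancel (mul_right_cancel h))) u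
    obtain ⟨u', hu'⟩ := hsurj
    have e2 : (r' * g0 * r'⁻¹) * L.el u' * (r' * g0 * r'⁻¹)⁻¹ = L.el u := by
      calc _ = r' * (g0 * (r'⁻¹ * L.el u' * r') * g0⁻¹) * r'⁻¹ := by group
        _ = r' * (g0 * L.el (reflc u') * g0⁻¹) * r'⁻¹ := by rw [← r'act u', ri]
        _ = _ := by rw [g0act, r'act, sxc, rcc, hu']
    rw [hde, ← e2]
    calc _ = g0 * L.el u' * g0⁻¹ := by group
      _ = _ := by rw [e2, g0act, hu']
  obtain ⟨u0, hu0, hd0⟩ := L.cent_plane (mem_inf.1 (L.R_le_Dx hdR)).2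
    fun u _ => mul_inv_eq_iff_eq_mul.1 (hdact u)
  have htR : L.t ∈ L.R := L.mem_R.2 ⟨L.t, L.t_mem_P4 0, 1, one_mem _, mul_one _⟩
  have hdZ : d ∈ L.Zt := by
    rcases hd0 with e | e
    · rw [e, L.R_el' hdR hu0 e, L.el_zero]; exact one_mem _
    · rw [e, L.R_el' (mul_mem htR hdR) hu0 (by rw [e, ← mul_assoc, L.t_sq, one_mul]), L.el_zero, mul_one]
      exact mem_zpowers _
  have hρr : Commute ρ r' := by
    have e : d = a⁻¹ * (r' * b * r'⁻¹) * (b⁻¹ * (r' * a * r'⁻¹)) := by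
      calc d = b⁻¹ * a⁻¹ * ((r' * b * r'⁻¹) * (r' * a * r'⁻¹)) := by
            rw [hd, ← hab]
            conv_lhs => rw [show r' * (a * b) * r'⁻¹ = r' * (b * a) * r'⁻¹ by
              rw [(L.P4_pair two_points.1 ha hb).eq]]
            group
        _ = a⁻¹ * b⁻¹ * ((r' * b * r'⁻¹) * (r' * a * r'⁻¹)) := by
            rw [((L.P4_pair two_points.1 ha hb).inv_inv).eq]
        _ = a⁻¹ * (b⁻¹ * (r' * b * r'⁻¹)) * (r' * a * r'⁻¹) := by group
        _ = _ := by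
            rw [(L.P4_pair two_points.1 (sw.2 b hb) (inv_mem hb)).symm.eq]; group
    have m0 : a⁻¹ * (r' * b * r'⁻¹) ∈ L.P4 0 := mul_mem (inv_mem ha) (sw.2 b hb)
    have m1 : b⁻¹ * (r' * a * r'⁻¹) ∈ L.P4 1 := mul_mem (inv_mem hb) (sw.1 a ha)
    have hZ : a⁻¹ * (r' * b * r'⁻¹) ∈ L.Zt := by
      refine L.meet01 m0 ?_
      rw [show a⁻¹ * (r' * b * r'⁻¹) = d * (b⁻¹ * (r' * a * r'⁻¹))⁻¹ by rw [e, mul_inv_cancel_right]]
      refine mul_mem ?_ (inv_mem m1)
      rcases L.mem_Zt.1 hdZ with e' | e' <;> rw [e']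
      exacts [one_mem _, L.t_mem_P4 1]
    set z := a⁻¹ * (r' * b * r'⁻¹) with hz
    have hzr : Commute z r' := by
      rcases L.mem_Zt.1 hZ with e' | e' <;> rw [e']
      exacts [Commute.one_left _, (mem_centralizer_singleton_iff.1 r't : Commute r' L.t).symm]
    have ea : r' * b * r' = a * z := by rw [hz, ri]; group
    have eb : b = r' * a * r' * z := by
      calc b = r' * (r' * b * r') * r' := by
            rw [show r' * (r' * b * r') * r' = r' * r' * b * (r' * r') by group, r'sq, one_mul, mul_one]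
        _ = r' * a * (z * r') := by rw [ea]; group
        _ = _ := by rw [hzr.eq]; group
    have hc : Commute a (r' * a * r') := L.P4_pair two_points.1 ha (by
      have := sw.1 a ha
      rwa [ri] at this)
    have fix : Commute (a * (r' * a * r')) r' := by
      show a * (r' * a * r') * r' = r' * (a * (r' * a * r'))
      calc a * (r' * a * r') * r' = a * r' * a * (r' * r') := by group
        _ = a * r' * a := by rw [r'sq, mul_one]
        _ = r' * (r' * a * r') * a := by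
          rw [show r' * (r' * a * r') = r' * r' * a * r' by group, r'sq, one_mul]
        _ = r' * (r' * a * r' * a) := by group
        _ = _ := by rw [hc.eq]
    rw [← hab, eb, show a * (r' * a * r' * z) = a * (r' * a * r') * z by group]
    exact fix.mul_left hzr
  set k0 := h⁻¹ * ρ * h with hk0
  have k0W : k0 ∈ L.W := by
    have := (mem_normalizer_iff.1 (inv_mem hN) ρ).1 (L.R_le_W hρ)
    rwa [inv_inv] at this
  have k0r : Commute k0 r := by
    have := hρr.conj h⁻¹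
    rw [inv_inv, show h⁻¹ * r' * h = r by rw [hr']; group] at this
    exact this
  have k0e : Commute k0 (L.el ec) := by
    have := (show Commute ρ (L.el e2) from mem_centralizer_singleton_iff.1 (mem_inf.1 (L.R_le_Dx hρ)).1).conj h⁻¹
    rw [inv_inv, hback, ke2] at this
    exact this
  have k0K : k0 ∈ L.Kc V := ⟨1, one_mem _, k0, k0W, k0e, k0r, (one_mul _).symm⟩
  -- the part normalising the plane
  set g := h⁻¹ * g0 * h with hg
  have hxk : x = k0 * g := by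
    calc x = h⁻¹ * (h * x * h⁻¹) * h := by group
      _ = _ := by rw [hxe', hk0, hg]; group
  have gC : g ∈ L.Cg r := by
    rw [show g = k0⁻¹ * x by rw [hxk, inv_mul_cancel_left]]
    exact mul_mem (inv_mem (L.W_mem_Cg V k0W k0r)) hx
  have gec : g * L.el ec * g⁻¹ = L.el ec := mul_inv_eq_iff_eq_mul.2 (by
    rw [show g = k0⁻¹ * x by rw [hxk, inv_mul_cancel_left]]
    exact (k0e.inv_left.mul_left hc).eq)
  have gact : ∀ u, g * L.el u * g⁻¹ = L.el (kc.mulVec ((sx k).mulVec (kc.mulVec u))) := fun u => by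
    calc g * L.el u * g⁻¹ = h⁻¹ * (g0 * (h * L.el u * h⁻¹) * g0⁻¹) * h := by rw [hg]; group
      _ = _ := by rw [hact, g0act, hback]
  have nact : ∀ (a : ℕ), a < 2 → ∀ u, n ^ a * L.el u * (n ^ a)⁻¹ = L.el (if a = 0 then u else reflv ci u) := by
    intro a ha u
    interval_cases a
    · simp
    · simp [V.neg.act u]
  obtain ⟨a, c, ha2, hfin⟩ : ∃ a c : ℕ, a < 2 ∧ ∀ u : V4, u = ci ∨ u = ec ∨ u = e2 →
      Commute ((n ^ a)⁻¹ * g * r ^ c) (L.el u) := by
    have gci : g * L.el ci * g⁻¹ = L.el ci ∨ g * L.el ci * g⁻¹ = L.el (-ci) := by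
      rw [gact, kci]
      rcases (sxl k).1 with e | e <;> rw [e]
      · left; rw [kci]
      · right; rw [kneg, kci]
    have ge2 : g * L.el e2 * g⁻¹ = L.el e2 ∨ g * L.el e2 * g⁻¹ = L.el (-e2) := by
      rw [gact, ke2]
      rcases (sxl k).2 with e | e <;> rw [e]
      · left; rw [kec]
      · right; rw [kneg, kec]
    have mk : ∀ (a c : ℕ) (u w w' : V4), a < 2 → g * L.el w * g⁻¹ = L.el w' → r ^ c * L.el u * (r ^ c)⁻¹ = L.el w →
        (if a = 0 then u else reflv ci u) = w' → Commute ((n ^ a)⁻¹ * g * r ^ c) (L.el u) := by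
      intro a c u w w' ha hgw hru hn
      refine mul_inv_eq_iff_eq_mul.1 ?_
      calc _ = (n ^ a)⁻¹ * (g * (r ^ c * L.el u * (r ^ c)⁻¹) * g⁻¹) * n ^ a := by group
        _ = L.el u := by rw [hru, hgw, ← hn, ← nact a ha u]; group
    have r0 : ∀ u : V4, r ^ 0 * L.el u * (r ^ 0)⁻¹ = L.el u := fun u => by simp
    have r1 : ∀ u : V4, r ^ 1 * L.el u * (r ^ 1)⁻¹ = L.el (refl2 u) := fun u => by
      rw [pow_one, V.inner.isR.act]
    rcases gci with g1 | g1 <;> rcases ge2 with g2 | g2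
    · refine ⟨0, 0, by norm_num, ?_⟩
      rintro u (rfl | rfl | rfl)
      exacts [mk 0 0 _ _ _ (by norm_num) g1 (r0 _) rfl, mk 0 0 _ _ _ (by norm_num) gec (r0 _) rfl,
        mk 0 0 _ _ _ (by norm_num) g2 (r0 _) rfl]
    · refine ⟨0, 1, by norm_num, ?_⟩
      rintro u (rfl | rfl | rfl)
      · exact mk 0 1 _ ci _ (by norm_num) g1 (by rw [r1, f2i]) rfl
      · exact mk 0 1 _ ec _ (by norm_num) gec (by rw [r1, f2c]) rfl
      · refine mk 0 1 _ (-e2) _ (by norm_num) ?_ (by rw [r1, f22]) rfl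
        rw [L.el_neg, ← conj_inv, g2, L.el_neg, inv_inv]
        rfl
    · refine ⟨1, 0, by norm_num, ?_⟩
      rintro u (rfl | rfl | rfl)
      · exact mk 1 0 _ _ _ (by norm_num) g1 (r0 _) sx3_facts.2.1
      · exact mk 1 0 _ _ _ (by norm_num) gec (r0 _) sx3_facts.2.2.1
      · exact mk 1 0 _ _ _ (by norm_num) g2 (r0 _) n2
    · refine ⟨1, 1, by norm_num, ?_⟩
      rintro u (rfl | rfl | rfl)
      · exact mk 1 1 _ ci _ (by norm_num) g1 (by rw [r1, f2i]) sx3_facts.2.1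
      · exact mk 1 1 _ ec _ (by norm_num) gec (by rw [r1, f2c]) sx3_facts.2.2.1
      · refine mk 1 1 _ (-e2) _ (by norm_num) ?_ (by rw [r1, f22]) n2
        rw [L.el_neg, ← conj_inv, g2, L.el_neg, inv_inv]
  set g' := (n ^ a)⁻¹ * g * r ^ c with hg'
  have rC : r ∈ L.Cg r := L.Zg_le V.inner.isR (L.r_mem_Zg V.inner.isR)
  have g'C : g' ∈ L.Cg r := mul_mem (mul_mem (inv_mem (pow_mem (L.n_mem_Cg V) a)) gC) (pow_mem rC c)
  obtain ⟨u, hu, hgu⟩ := L.cent_plane (g := g') (mem_inf.1 g'C).1 fun w hw => by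
    have key : ∀ v : V4, v 1 = 0 → ∃ i j l : ZMod 3, v = i • ci + j • ec + l • e2 := line_facts2.2.2.1
    obtain ⟨i, j, l, rfl⟩ := key w hw
    rw [L.el_add, L.el_add, L.el_smul, L.el_smul, L.el_smul]
    exact (((hfin _ (Or.inl rfl)).pow_right _).mul_right ((hfin _ (Or.inr (Or.inl rfl))).pow_right _)).mul_right
      ((hfin _ (Or.inr (Or.inr rfl))).pow_right _)
  have tC : L.t ∈ L.Cg r := L.Zg_le V.inner.isR (L.t_mem_Zg V.inner.isR)
  have huC : L.el u ∈ L.Cg r := by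
    rcases hgu with e | e
    · exact e ▸ g'C
    · rw [show L.el u = L.t⁻¹ * g' by rw [e, inv_mul_cancel_left]]; exact mul_mem (inv_mem tC) g'C
  have hu2 : u 2 = 0 := by
    refine refl2_fix u (L.el_inj ?_)
    rw [← V.inner.isR.act, (L.mem_Cg.1 huC).2.symm.eq, mul_inv_cancel_right]
  obtain ⟨b, hgb⟩ : ∃ b : ℕ, g' = L.t ^ b * L.el u := by
    rcases hgu with e | e
    · exact ⟨0, by rw [e, pow_zero, one_mul]⟩
    · exact ⟨1, by rw [e, pow_one]⟩
  set z := L.t ^ b * (r ^ c)⁻¹ with hz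
  have hzZ : z ∈ L.Zg r V.inner.isR :=
    mul_mem (pow_mem (L.t_mem_Zg V.inner.isR) b) (inv_mem (pow_mem (L.r_mem_Zg V.inner.isR) c))
  have hne : n ^ a * L.el u ∈ L.Cg r := mul_mem (pow_mem (L.n_mem_Cg V) a) huC
  refine ⟨k0 * z, mul_mem k0K ⟨z, hzZ, 1, one_mem _, Commute.one_left _, Commute.one_left _,
    (mul_one _).symm⟩, a, u, hu, hu2, ha2, ?_⟩
  rw [hxk, mul_assoc (k0 * z), mul_assoc k0 z, (L.Zg_central V.inner.isR hzZ hne).eq]
  congr 1
  calc g = n ^ a * g' * (r ^ c)⁻¹ := by rw [hg']; group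
    _ = n ^ a * (L.t ^ b * L.el u) * (r ^ c)⁻¹ := by rw [hgb]
    _ = n ^ a * (L.el u * L.t ^ b) * (r ^ c)⁻¹ := by
      rw [((L.t_plane hu).pow_left b).eq]
    _ = _ := by rw [hz]; group

end Loc

end Cfsg.Agent.Co2Three
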