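import Cfsg.Agent.Lib.Co2Three.W.Cores
import Cfsg.Agent.Lib.HeisSLThree.Abstract

/-!
The cores at the two singular points and at the exterior point of the line orthogonal to both reflections.
-/

set_option autoImplicit false
set_option maxRecDepth 20000
set_option synthInstance.maxSize 1000
set_option linter.style.haveILetI false
set_option linter.unusedSectionVars false

namespace Cfsg.Agent.Co2Three

open Subgroup

theorem kc_facts : (∀ v, qf (kc.mulVec v) = qf v) ∧ (∀ v, kc.mulVec (refl1 v) = refl1 (kc.mulVec v)) ∧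
    kc.mulVec ec = e2 ∧ (∀ v, v 1 = 0 → (kc.mulVec v) 1 = 0) ∧ (∀ v, kc.mulVec (refl2 v) = reflc (kc.mulVec v)) := by
  decide +kernel

theorem line_facts2 : (∀ w : V4, w 1 = 0 → refl2 w = -w → w ≠ 0 → w = e2 ∨ w = -e2) ∧
    (∀ w : V4, w 1 = 0 → refl2 w = w → qf (-(w + ec)) = 0 → qf (-(w - ec)) = 0 → w = ci ∨ w = -ci) ∧
    (∀ v : V4, v 1 = 0 → ∃ i j k : ZMod 3, v = i • ci + j • ec + k • e2) ∧
    (∀ v : V4, refl2 v = v → v 2 = 0) ∧ reflv ci (-ci) = ci ∧ qf e0 = 0 ∧ qf e3 = 0 ∧ e3 ≠ 0 := by decide +kernel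

theorem swap_index : ∀ k : Fin 4, ((reflc (cp 0) = cp k ∨ reflc (cp 0) = -cp k) → k = 1) ∧
    ((reflc (cp 1) = cp k ∨ reflc (cp 1) = -cp k) → k = 0) := by decide +kernel

theorem plane_line9 : Nat.card {v : V4 // v 1 = 0 ∧ v 2 = 0} = 9 := by
  rw [Nat.card_eq_fintype_card]; decide +kernel

theorem plane_only : ∀ v : V4, v 1 = 0 → v 3 = 0 → refl2 v = v → v = v 0 • e0 := by decide +kernel

namespace Loc

variable {G : Type*} [Group G] [Finite G] (L : Loc G) {r s y n m : G}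

/-- An element acting as the exchange of the two singular points exchanges their quaternion groups. -/
theorem swap_P4 {g : G} (hg : g ∈ centralizer ({L.t} : Set G)) (ha : ∀ v, g * L.el v * g⁻¹ = L.el (reflc v)) :
    (∀ x ∈ L.P4 0, g * x * g⁻¹ ∈ L.P4 1) ∧ ∀ x ∈ L.P4 1, g * x * g⁻¹ ∈ L.P4 0 := by
  have hp : L.PlaneN g := fun v hv => ⟨_, L_facts.2.2.2.2.2.2.2.2.2.2.1 v hv, ha v⟩
  obtain ⟨k, hk, hk'⟩ := L.P4_conj hg hp 0
  obtain ⟨l, hl, hl'⟩ := L.P4_conj hg hp 1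
  rw [ha] at hk hl
  have ek : k = 1 := (swap_index k).1 (hk.imp (fun e => L.el_inj e) fun e => L.el_inj e)
  have el' : l = 0 := (swap_index l).2 (hl.imp (fun e => L.el_inj e) fun e => L.el_inj e)
  exact ⟨ek ▸ hk', el' ▸ hl'⟩

theorem meet01 {x : G} (h0 : x ∈ L.P4 0) (h1 : x ∈ L.P4 1) : x ∈ L.Zt :=
  L.mem_Zt.2 (L.P4_move h1 e_facts.1 two_points.2.2.2.1
    (by have := mem_centralizer_singleton_iff.1 (mem_inf.1 (L.P4_le 0 h0)).1; rwa [cp_zero] at this))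

theorem r_fixes_P (hr : L.IsR r) {p : G} (hp : p ∈ L.P) : Commute r p :=
  L.P_fixed hr.sq hr.comm (L.t_fixes hr (Or.inl rfl)) (L.t_fixes hr (Or.inr rfl)) hp

variable (V : L.Data r s y n) (hm : L.IsM r m)
include V hm

theorem P'_le0 {q : G} (hq : q ∈ L.P' m 0) :
    q ∈ L.Cg r ∧ Commute q (L.el e0) ∧ q ∈ centralizer ({L.el e0} : Set G) ⊓ centralizer {L.t} := by
  have hqR := L.P'_le_R' hm (Or.inl rfl) hq
  have h0 := L.P'_comm0 hm hq
  exact ⟨L.mem_Cg.2 ⟨L.R'_comm_t hm hqR, L.R'_comm_r hm hqR⟩, h0,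
    mem_inf.2 ⟨mem_centralizer_singleton_iff.2 h0.eq,
      mem_centralizer_singleton_iff.2 (L.R'_comm_t hm hqR).eq⟩⟩

theorem P'_norm0 {x : G} (x0 : Commute x (L.el e0)) (xr : Commute x r) {q : G} (hq : q ∈ L.P' m 0) :
    x * q * x⁻¹ ∈ L.P' m 0 := by
  obtain ⟨p, hp, rfl⟩ := hq
  have h0 : Commute (m⁻¹ * x * m) (L.el e0) := by
    rw [← hm.fix_pt L (Or.inl rfl)] at x0
    have := x0.conj m⁻¹
    simpa [mul_assoc] using this
  have ht : Commute (m⁻¹ * x * m) L.t := by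
    rw [← hm.conj] at xr
    have := xr.conj m⁻¹
    simpa [mul_assoc] using this
  refine ⟨m⁻¹ * x * m * p * (m⁻¹ * x * m)⁻¹, ?_, ?_⟩
  · rw [L.P4_zero]
    exact L.P_norm _ (mem_inf.2 ⟨mem_centralizer_singleton_iff.2 h0.eq, mem_centralizer_singleton_iff.2 ht.eq⟩) p
      (L.P4_zero ▸ hp)
  · simp [mul_assoc]

theorem P_mem_Cg {p : G} (hp : p ∈ L.P) : p ∈ L.Cg r :=
  L.mem_Cg.2 ⟨mem_centralizer_singleton_iff.1 (mem_inf.1 (L.P_le hp)).2, (L.r_fixes_P hm.isR hp).symm⟩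

theorem PP'_comm {p q : G} (hp : p ∈ L.P) (hq : q ∈ L.P' m 0) : Commute p q := by
  have hp0 : Commute p (L.el e0) := mem_centralizer_singleton_iff.1 (mem_inf.1 (L.P_le hp)).1
  have h1 := L.P'_norm0 V hm hp0 (L.r_fixes_P hm.isR hp).symm hq
  have h2 : q * p⁻¹ * q⁻¹ ∈ L.P := L.P_norm q (L.P'_le0 V hm hq).2.2 _ (inv_mem hp)
  have hc : p * q * p⁻¹ * q⁻¹ = 1 := by
    refine L.meet_P4 hm (i := 0) ?_ (mul_mem h1 (inv_mem hq))
    rw [L.P4_zero, show p * q * p⁻¹ * q⁻¹ = p * (q * p⁻¹ * q⁻¹) by group]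
    exact mul_mem hp h2
  exact mul_inv_eq_iff_eq_mul.1 (mul_inv_eq_one.1 hc)

/-- The core at the central point. -/
def K0 : Subgroup G where
  carrier := {x | ∃ p ∈ L.P, ∃ q ∈ L.P' m 0, x = p * q}
  one_mem' := ⟨1, one_mem _, 1, one_mem _, (mul_one _).symm⟩
  mul_mem' := by
    rintro _ _ ⟨p, hp, q, hq, rfl⟩ ⟨p', hp', q', hq', rfl⟩
    refine ⟨p * p', mul_mem hp hp', q * q', mul_mem hq hq', ?_⟩
    calc p * q * (p' * q') = p * (q * p') * q' := by group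
      _ = _ := by rw [(L.PP'_comm V hm hp' hq).symm.eq]; group
  inv_mem' := by
    rintro _ ⟨p, hp, q, hq, rfl⟩
    exact ⟨p⁻¹, inv_mem hp, q⁻¹, inv_mem hq, by rw [_root_.mul_inv_rev, ((L.PP'_comm V hm hp hq).inv_inv).eq]⟩

theorem K0_facts : L.K0 V hm ≤ L.Cg r ⊓ centralizer {L.el e0} ∧ L.Zg r V.inner.isR ≤ L.K0 V hm ∧
    (∀ x ∈ L.K0 V hm, x * x ∈ L.Zg r V.inner.isR) ∧
    (∀ x ∈ L.Cg r, Commute x (L.el e0) → ∀ k ∈ L.K0 V hm, x * k * x⁻¹ ∈ L.K0 V hm) ∧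
    (∀ x ∈ L.Cg r, Commute x (L.el e0) → ∃ k ∈ L.K0 V hm, ∃ v : V4, v 1 = 0 ∧ v 2 = 0 ∧ x = k * L.el v) := by
  classical
  have hle : L.K0 V hm ≤ L.Cg r ⊓ centralizer {L.el e0} := by
    rintro _ ⟨p, hp, q, hq, rfl⟩
    obtain ⟨qC, q0, -⟩ := L.P'_le0 V hm hq
    exact mem_inf.2 ⟨mul_mem (L.P_mem_Cg V hm hp) qC, mem_centralizer_singleton_iff.2
      ((show Commute p (L.el e0) from mem_centralizer_singleton_iff.1 (mem_inf.1 (L.P_le hp)).1).mul_left q0).eq⟩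
  refine ⟨hle, ?_, ?_, ?_, ?_⟩
  · rintro _ ⟨a, b, rfl⟩
    refine mul_mem (pow_mem ?_ a) (pow_mem ?_ b)
    · exact ⟨L.t, L.t_mem, 1, one_mem _, (mul_one _).symm⟩
    · exact ⟨1, one_mem _, r, ⟨L.t, L.t_mem_P4 0, hm.conj⟩, (one_mul _).symm⟩
  · rintro _ ⟨p, hp, q, hq, rfl⟩
    rw [show p * q * (p * q) = p * (q * p) * q by group, (L.PP'_comm V hm hp hq).symm.eq,
      show p * (p * q) * q = p * p * (q * q) by group]
    refine mul_mem (L.Zt_le_Zg V.inner.isR ?_) ?_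
    · exact L.P4_sq (i := 0) (by rw [L.P4_zero]; exact hp)
    · rcases (L.P'_invol hm hq).1 with e | e <;> rw [e]
      exacts [one_mem _, L.r_mem_Zg V.inner.isR]
  · rintro x hx x0 _ ⟨p, hp, q, hq, rfl⟩
    obtain ⟨xt, xr⟩ := L.mem_Cg.1 hx
    exact ⟨x * p * x⁻¹, L.P_norm x (mem_inf.2 ⟨mem_centralizer_singleton_iff.2 x0.eq,
      mem_centralizer_singleton_iff.2 xt.eq⟩) p hp, x * q * x⁻¹, L.P'_norm0 V hm x0 xr hq, by group⟩
  -- counting
  set X : Subgroup G := L.Cg r ⊓ centralizer {L.el e0} with hX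
  obtain ⟨f, -, hk⟩ := L.centT
  have hXle : X ≤ centralizer ({L.el e0} : Set G) ⊓ centralizer {L.t} := fun x hx =>
    mem_inf.2 ⟨(mem_inf.1 hx).2, (mem_inf.1 (mem_inf.1 hx).1).1⟩
  let f' : X →* Matrix.SpecialLinearGroup (Fin 2) (ZMod 3) := f.comp (Subgroup.inclusion hXle)
  have hker : Nat.card f'.ker ≤ 24 := by
    refine (Nat.card_le_card_of_surjective (fun a : ZMod 3 × L.P =>
      (⟨⟨L.el (a.1 • e0) * a.2.1, ?_⟩, ?_⟩ : f'.ker)) ?_).trans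
      (by rw [Nat.card_prod, Nat.card_zmod, L.P_card])
    · have h1 : (a.1 • e0) 1 = 0 := by rw [Pi.smul_apply, e_facts.1, smul_zero]
      have h2 : (a.1 • e0) 2 = 0 := by rw [Pi.smul_apply, show e0 2 = 0 from refl1_facts.2.2.2.2.2.2.2.2.1, smul_zero]
      exact mul_mem (mem_inf.2 ⟨L.el_Cg V h1 h2, mem_centralizer_singleton_iff.2 (L.el_comm _ _).eq⟩)
        (mem_inf.2 ⟨L.P_mem_Cg V hm a.2.2, (mem_inf.1 (L.P_le a.2.2)).1⟩)
    · refine (hk _).2 ⟨_, L.el_mem_Qt ?_ ?_, a.2.1, a.2.2, rfl⟩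
      · rw [Pi.smul_apply, e_facts.1, smul_zero]
      · rw [Pi.smul_apply, e_facts.2.2.2.2.2.1, smul_zero]
    · rintro ⟨⟨x, hx⟩, hxk⟩
      obtain ⟨q, hq, p, hp, e⟩ := (hk _).1 hxk
      change x = q * p at e
      have hqr : Commute q r := by
        have h := (L.mem_Cg.1 (mem_inf.1 hx).1).2.mul_left (L.P_mem_Cg V hm hp |> L.mem_Cg.1 |>.2).inv_left
        rwa [e, mul_inv_cancel_right] at h
      obtain ⟨j, hj⟩ := L.Q_comm (mem_inf.1 hq).1 ((L.Q_J e2).2 e_facts.2.2.2.2.2.2.1)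
      have b1 : q * L.el e2 * q⁻¹ = L.el (j • e0 + e2) := by rw [L.el_add, ← hj]; group
      have b2 : q * L.el (-e2) * q⁻¹ = L.el (refl2 (j • e0 + e2)) := by
        rw [← hm.isR.act, ← b1, ← M12_facts.2.2.2.2.2.1, ← hm.isR.act]
        calc q * (r * L.el e2 * r⁻¹) * q⁻¹ = q * r * L.el e2 * (r⁻¹ * q⁻¹) := by group
          _ = r * q * L.el e2 * (q⁻¹ * r⁻¹) := by rw [hqr.eq, hqr.inv_inv.symm.eq]
          _ = _ := by group
      have b3 : q * L.el (-e2) * q⁻¹ = L.el (-(j • e0 + e2)) := by rw [L.el_neg, L.el_neg, ← b1]; group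
      have key : ∀ j : ZMod 3, refl2 (j • e0 + e2) = -(j • e0 + e2) → j = 0 := by decide +kernel
      have hj0 := key j (L.el_inj (b2.symm.trans b3))
      rw [hj0, zero_smul, zero_add] at b1
      obtain ⟨w, hw1, hw3, rfl⟩ := L.qt_cent hq (mul_inv_eq_iff_eq_mul.1 b1)
      have hw : refl2 w = w := L.el_inj (by
        rw [← hm.isR.act, hqr.symm.eq, mul_inv_cancel_right])
      refine ⟨(w 0, ⟨p, hp⟩), Subtype.ext (Subtype.ext ?_)⟩
      show L.el (w 0 • e0) * p = x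
      rw [e, ← plane_only w hw1 hw3 hw]
  have hXc : Nat.card X ≤ 576 := by
    have h := f'.ker.card_mul_index
    rw [Subgroup.index_ker] at h
    rw [← h]
    exact (Nat.mul_le_mul hker ((Subgroup.card_le_card_group _).trans HeisSLThree.card_sl.le)).trans (by norm_num)
  let F : L.P × L.P' m 0 × {v : V4 // v 1 = 0 ∧ v 2 = 0} → X := fun a =>
    ⟨a.1.1 * a.2.1.1 * L.el a.2.2.1, mul_mem (hle ⟨_, a.1.2, _, a.2.1.2, rfl⟩)
      (mem_inf.2 ⟨L.el_Cg V a.2.2.2.1 a.2.2.2.2, mem_centralizer_singleton_iff.2 (L.el_comm _ _).eq⟩)⟩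
  have hF : Function.Injective F := by
    rintro ⟨⟨p, hp⟩, ⟨q, hq⟩, ⟨v, hv1, hv2⟩⟩ ⟨⟨p', hp'⟩, ⟨q', hq'⟩, ⟨v', hv1', hv2'⟩⟩ e
    have e' : p * q * L.el v = p' * q' * L.el v' := congrArg Subtype.val e
    set a := p'⁻¹ * p with ha
    set b := q' * (L.el (v' - v) * q⁻¹ * (L.el (v' - v))⁻¹) with hb
    have hd1 : (v' - v) 1 = 0 := by rw [Pi.sub_apply, hv1, hv1', sub_zero]
    have hd2 : (v' - v) 2 = 0 := by rw [Pi.sub_apply, hv2, hv2', sub_zero]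
    have hdC := L.el_Cg V hd1 hd2
    have hbP : b ∈ L.P' m 0 := mul_mem hq'
      (L.P'_norm0 V hm (L.el_comm _ _) (L.mem_Cg.1 hdC).2 (inv_mem hq))
    have hab : a = b * L.el (v' - v) := by
      calc a = p'⁻¹ * (p * q * L.el v) * (L.el v)⁻¹ * q⁻¹ := by rw [ha]; group
        _ = _ := by rw [e', hb, L.el_sub]; group
    have haP : a ∈ L.P := mul_mem (inv_mem hp') hp
    have hc : Commute b⁻¹ a := (L.PP'_comm V hm haP (inv_mem hbP)).symm
    have hel : L.el (v' - v) = b⁻¹ * a := by rw [hab]; group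
    have hb4 : b⁻¹ ^ 4 = 1 := by
      obtain ⟨u, hu, hue⟩ := inv_mem hbP
      rw [← hue, ← map_pow, L.P4_four hu, map_one]
    have h4 : L.el (v' - v) ^ 4 = 1 := by rw [hel, hc.mul_pow, L.P_four haP, hb4, mul_one]
    have h0 : L.el (v' - v) = 1 := by
      calc L.el (v' - v) = L.el (v' - v) ^ 4 * (L.el (v' - v) ^ 3)⁻¹ := by group
        _ = 1 := by rw [h4, L.el_cube, inv_one, mul_one]
    have hv : v = v' := (sub_eq_zero.1 (L.el_eq_one.1 h0)).symm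
    subst hv
    rw [h0, mul_one] at hab
    have hpq : p * q = p' * q' := mul_right_cancel e'
    have ha1 : a = 1 := L.meet_P4 hm (i := 0) (by rw [L.P4_zero]; exact haP) (hab ▸ hbP)
    have hpp : p = p' := (inv_mul_eq_one.1 ha1).symm
    subst hpp
    have hqq : q = q' := mul_left_cancel hpq
    subst hqq
    rfl
  have hdom : Nat.card (L.P × L.P' m 0 × {v : V4 // v 1 = 0 ∧ v 2 = 0}) = 576 := by
    rw [Nat.card_prod, Nat.card_prod, L.P_card, plane_line9, P',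
      Subgroup.card_map_of_injective (MulEquiv.injective _), L.P4_card]
  have hbij := hF.bijective_of_nat_card_le (by rw [hdom]; exact hXc)
  intro x hx x0
  obtain ⟨⟨p, q, v⟩, he⟩ := hbij.2 ⟨x, mem_inf.2 ⟨hx, mem_centralizer_singleton_iff.2 x0.eq⟩⟩
  exact ⟨p.1 * q.1, ⟨_, p.2, _, q.2, rfl⟩, v.1, v.2.1, v.2.2, (congrArg Subtype.val he).symm⟩

/-- The core at the opposite point. -/
noncomputable def K3 : Subgroup G := (L.K0 V hm).map (MulAut.conj s).toMonoidHom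

theorem K3_facts : L.K3 V hm ≤ L.Cg r ⊓ centralizer {L.el e3} ∧ L.Zg r V.inner.isR ≤ L.K3 V hm ∧
    (∀ x ∈ L.K3 V hm, x * x ∈ L.Zg r V.inner.isR) ∧
    (∀ x ∈ L.Cg r, Commute x (L.el e3) → ∀ k ∈ L.K3 V hm, x * k * x⁻¹ ∈ L.K3 V hm) ∧
    (∀ x ∈ L.Cg r, Commute x (L.el e3) → ∃ k ∈ L.K3 V hm, ∃ v : V4, v 1 = 0 ∧ v 2 = 0 ∧ x = k * L.el v) := by
  obtain ⟨h1, h2, h3, h4, h5⟩ := L.K0_facts V hm
  have si := L.s_inv V
  have sC := L.s_mem_Cg V
  have se : s * L.el e3 * s⁻¹ = L.el e0 := by rw [V.inner.isS.act, L_facts.2.2.2.2.2.2.2.2.2.1]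
  have se' : s * L.el e0 * s⁻¹ = L.el e3 := by rw [V.inner.isS.act, L_facts.2.2.2.2.1]
  have hz : ∀ {z : G}, z ∈ L.Zg r V.inner.isR → s * z * s⁻¹ = z := fun hz => by
    rw [(L.Zg_central V.inner.isR hz sC).symm.eq, mul_inv_cancel_right]
  have down : ∀ {x : G}, x ∈ L.Cg r → Commute x (L.el e3) → s * x * s⁻¹ ∈ L.Cg r ∧ Commute (s * x * s⁻¹) (L.el e0) :=
    fun hx hc => ⟨mul_mem (mul_mem sC hx) (inv_mem sC), se ▸ hc.conj s⟩
  refine ⟨?_, fun z hz' => ⟨z, h2 hz', hz hz'⟩, ?_, ?_, ?_⟩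
  · rintro _ ⟨k, hk, rfl⟩
    obtain ⟨k1, k2⟩ := mem_inf.1 (h1 hk)
    exact mem_inf.2 ⟨mul_mem (mul_mem sC k1) (inv_mem sC), mem_centralizer_singleton_iff.2
      (se' ▸ ((show Commute k (L.el e0) from mem_centralizer_singleton_iff.1 k2).conj s)).eq⟩
  · rintro _ ⟨k, hk, rfl⟩
    have e : (MulAut.conj s).toMonoidHom k * (MulAut.conj s).toMonoidHom k = s * (k * k) * s⁻¹ := by simp [mul_assoc]
    rw [e, hz (h3 k hk)]
    exact h3 k hk
  · rintro x hx hc _ ⟨k, hk, rfl⟩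
    obtain ⟨hx', hc'⟩ := down hx hc
    refine ⟨_, h4 _ hx' hc' k hk, ?_⟩
    show s * (s * x * s⁻¹ * k * (s * x * s⁻¹)⁻¹) * s⁻¹ = x * (s * k * s⁻¹) * x⁻¹
    calc _ = (s * s) * x * (s⁻¹ * k * s) * x⁻¹ * (s * s)⁻¹ := by group
      _ = _ := by rw [V.inner.isS.sq, si, inv_one, one_mul, mul_one]
  · intro x hx hc
    obtain ⟨hx', hc'⟩ := down hx hc
    obtain ⟨k, hk, v, v1, v2, e⟩ := h5 _ hx' hc'
    refine ⟨s * k * s⁻¹, ⟨k, hk, rfl⟩, reflc v, L_facts.2.2.2.2.2.2.2.2.2.2.1 v v1,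
      L_facts.2.2.2.2.2.2.2.2.2.2.2 v v2, ?_⟩
    rw [← V.inner.isS.act, show s * k * s⁻¹ * (s * L.el v * s⁻¹) = s * (k * L.el v) * s⁻¹ by group, ← e]
    calc x = (s * s) * x * (s * s)⁻¹ := by rw [V.inner.isS.sq]; group
      _ = _ := by group

theorem sides_le_WR : L.K0 V hm ≤ L.W ⊔ L.R' m ∧ L.K3 V hm ≤ L.W ⊔ L.R' m := by
  refine ⟨?_, ?_⟩
  · rintro _ ⟨p, hp, q, hq, rfl⟩
    exact mul_mem (le_sup_left (α := Subgroup G) (L.P_le_W hp))
      (le_sup_right (α := Subgroup G) (L.P'_le_R' hm (Or.inl rfl) hq))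
  · rintro _ ⟨_, ⟨p, hp, q, hq, rfl⟩, rfl⟩
    show s * (p * q) * s⁻¹ ∈ _
    rw [show s * (p * q) * s⁻¹ = s * p * s⁻¹ * (s * q * s⁻¹) by group]
    refine mul_mem (le_sup_left (α := Subgroup G) ((mem_normalizer_iff.1 (L.s_norm V) p).1 (L.P_le_W hp)))
      (le_sup_right (α := Subgroup G) ?_)
    obtain ⟨u, hu, rfl⟩ := hq
    set g := m⁻¹ * s * m with hg
    have M12c : ∀ v, M12.mulVec (reflc v) = reflc (M12.mulVec v) := by decide +kernel
    have gact : ∀ v, g * L.el v * g⁻¹ = L.el (reflc v) := fun v => by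
      calc g * L.el v * g⁻¹ = m⁻¹ * (s * (m * L.el v * m⁻¹) * s⁻¹) * m := by rw [hg]; group
        _ = _ := by rw [hm.act, V.inner.isS.act, ← M12c, ← hm.act]; group
    have gt : g ∈ centralizer ({L.t} : Set G) := by
      refine mem_centralizer_singleton_iff.2 ?_
      have := V.inner.rs.symm.conj m⁻¹
      rw [← hm.conj] at this
      simpa [hg, mul_assoc] using this.eq
    refine L.P'_le_R' hm (Or.inr rfl) ⟨g * u * g⁻¹, (L.swap_P4 gt gact).1 u hu, ?_⟩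
    simp [hg, mul_assoc]

end Loc

end Cfsg.Agent.Co2Three
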