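import Cfsg.Agent.Lib.Co2Three.W.Exterior
import Cfsg.Agent.Lib.Solvable.Coprime

/-!
`W` is the largest signaliser of the plane, and the centraliser of the central point and the reflection normalises it.
-/

set_option autoImplicit false
set_option maxRecDepth 20000
set_option linter.style.haveILetI false
set_option linter.unusedSectionVars false

namespace Cfsg.Agent.Co2Three

open Subgroup
open scoped Pointwise

/-- The maps fixing the central point and moving a tangent to the standard exterior point. -/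
def mr (a : ZMod 3) : Matrix (Fin 4) (Fin 4) (ZMod 3) :=
  !![1, 0, -a, a * a; 0, 1, 0, 0; 0, 0, 1, a; 0, 0, 0, 1]

theorem mr_qf : ∀ a v, qf ((mr a).mulVec v) = qf v := by decide +kernel

theorem mr_refl : ∀ a v, (mr a).mulVec (refl1 v) = refl1 ((mr a).mulVec v) := by decide +kernel

theorem mr_facts : (∀ a, (mr a).mulVec e0 = e0) ∧ (∀ a, (mr a).mulVec (e2 + a • e0) = e2) ∧
    (∀ a v, v 1 = 0 → ((mr a).mulVec v) 1 = 0) ∧
    ((mr 2).mulVec (cp 2) = cp 1 ∨ (mr 2).mulVec (cp 2) = -cp 1) ∧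
    ((mr 1).mulVec (cp 3) = cp 1 ∨ (mr 1).mulVec (cp 3) = -cp 1) := by decide +kernel

theorem line_cases : ∀ v : V4, v 1 = 0 → v 3 = 0 → v ≠ 0 →
    v = e0 ∨ v = -e0 ∨ ∃ a : ZMod 3, v = e2 + a • e0 ∨ v = -(e2 + a • e0) := by decide +kernel

theorem line_card : Nat.card {v : V4 // v 1 = 0 ∧ v 3 = 0} = 9 := by
  rw [Nat.card_eq_fintype_card]; decide +kernel

theorem cp_signs : ∀ i k : Fin 4, (cp i = cp k ∨ cp i = -cp k) → i = k := by decide +kernel

namespace Loc

variable {G : Type*} [Group G] [Finite G] (L : Loc G)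

/-- The part of the plane in the core. -/
def A9 : Subgroup G where
  carrier := {x | ∃ v : V4, v 1 = 0 ∧ v 3 = 0 ∧ L.el v = x}
  one_mem' := ⟨0, rfl, rfl, L.el_zero⟩
  mul_mem' := by
    rintro _ _ ⟨u, u1, u3, rfl⟩ ⟨v, v1, v3, rfl⟩
    exact ⟨u + v, by simp [u1, v1], by simp [u3, v3], L.el_add u v⟩
  inv_mem' := by
    rintro _ ⟨v, v1, v3, rfl⟩
    exact ⟨-v, by simp [v1], by simp [v3], L.el_neg v⟩

theorem card_A9 : Nat.card L.A9 = 9 := by
  rw [← line_card]
  exact (Nat.card_eq_of_bijective (fun v : {v : V4 // v 1 = 0 ∧ v 3 = 0} => (⟨L.el v, v.1, v.2.1, v.2.2, rfl⟩ : L.A9))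
    ⟨fun a b e => Subtype.ext (L.el_inj (congrArg Subtype.val e)), fun ⟨_, v, v1, v3, e⟩ =>
      ⟨⟨v, v1, v3⟩, Subtype.ext e⟩⟩).symm

theorem A9_cube {x : G} (hx : x ∈ L.A9) : x ^ 3 = 1 := by
  obtain ⟨v, -, -, rfl⟩ := hx; exact L.el_cube v

theorem A9_comm {x y : G} (hx : x ∈ L.A9) (hy : y ∈ L.A9) : x * y = y * x := by
  obtain ⟨v, -, -, rfl⟩ := hx; obtain ⟨w, -, -, rfl⟩ := hy; exact (L.el_comm v w).eq

omit [Finite G] in
/-- A subgroup of order nine and exponent three is not cyclic. -/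
theorem not_cyclic {A : Subgroup G} (h9 : Nat.card A = 9) (h3 : ∀ x ∈ A, x ^ 3 = 1) : ¬ IsCyclic A := fun h => by
  obtain ⟨g, hg⟩ := h.exists_generator
  have h1 : orderOf g = 9 := by rw [← h9]; exact orderOf_eq_card_of_forall_mem_zpowers hg
  have h2 := orderOf_dvd_of_pow_eq_one (show g ^ 3 = 1 from Subtype.ext (h3 g g.2))
  rw [h1] at h2
  norm_num at h2

/-- The lifts of these maps. -/
noncomputable def hr (a : ZMod 3) : G := (L.exists_lift (Or.inl (mr_qf a)) (mr_refl a)).choose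

theorem hr_t (a : ZMod 3) : L.hr a ∈ centralizer ({L.t} : Set G) :=
  mem_centralizer_singleton_iff.2 (L.exists_lift (Or.inl (mr_qf a)) (mr_refl a)).choose_spec.1.eq

theorem hr_act (a : ZMod 3) (v : V4) : L.hr a * L.el v * (L.hr a)⁻¹ = L.el ((mr a).mulVec v) :=
  (L.exists_lift (Or.inl (mr_qf a)) (mr_refl a)).choose_spec.2 v

theorem hr_plane (a : ZMod 3) : L.PlaneN (L.hr a) := fun v hv => ⟨_, mr_facts.2.2.1 a v hv, L.hr_act a v⟩

theorem hr_C0 (a : ZMod 3) : L.hr a ∈ centralizer ({L.el e0} : Set G) ⊓ centralizer {L.t} :=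
  mem_inf.2 ⟨mem_centralizer_singleton_iff.2 (mul_inv_eq_iff_eq_mul.1 (by rw [L.hr_act, mr_facts.1])), L.hr_t a⟩

/-- `W` is the largest signaliser of the plane. -/
theorem sig {K : Subgroup G} (hK : K ≤ centralizer {L.t}) (hcop : (Nat.card K).Coprime 3)
    (hinv : ∀ v : V4, v 1 = 0 → ∀ k ∈ K, L.el v * k * (L.el v)⁻¹ ∈ K) : K ≤ L.W := by
  haveI : IsMulCommutative L.A9 := ⟨⟨fun a b => Subtype.ext (L.A9_comm a.2 b.2)⟩⟩
  have hA : L.A9 ≤ normalizer (K : Set G) := by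
    rintro _ ⟨v, v1, -, rfl⟩
    refine mem_normalizer_iff.2 fun k => ⟨hinv v v1 k, fun h => ?_⟩
    have := hinv (-v) (by simp [v1]) _ h
    rw [L.el_neg] at this
    simpa [mul_assoc] using this
  rw [← CoprimeAct.generated_by_centralizers (not_cyclic L.card_A9 fun x hx => L.A9_cube hx) hA
    (by rw [L.card_A9, show (9 : ℕ) = 3 ^ 2 from rfl]; exact hcop.symm.pow_left 2)]
  refine iSup₂_le fun x hx => ?_
  obtain ⟨⟨v, v1, v3, rfl⟩, hne⟩ := hx
  have hneg : ∀ u : V4, centralizer ({L.el (-u)} : Set G) = centralizer {L.el u} := fun u => by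
    ext y
    rw [mem_centralizer_singleton_iff, mem_centralizer_singleton_iff, L.el_neg]
    exact ⟨fun h => by simpa using (show Commute y _ from h).inv_right.eq,
      fun h => (show Commute y _ from h).inv_right.eq⟩
  have case0 : K ⊓ centralizer {L.el e0} ≤ L.W := by
    refine le_trans ?_ (L.P4_le_W 0)
    refine L.sig_point 0 (fun y hy => mem_inf.2 ⟨?_, hK (mem_inf.1 hy).1⟩)
      (hcop.coprime_dvd_left (Subgroup.card_dvd_of_le inf_le_left)) fun u hu y hy => ?_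
    · rw [cp_zero]; exact (mem_inf.1 hy).2
    · exact mem_inf.2 ⟨hinv u hu y (mem_inf.1 hy).1, mem_centralizer_singleton_iff.2 (by
        have h := (show Commute y (L.el e0) from mem_centralizer_singleton_iff.1 (mem_inf.1 hy).2).conj (L.el u)
        rw [(L.el_comm u e0).eq, mul_inv_cancel_right] at h
        exact h.eq)⟩
  have case2 : ∀ a : ZMod 3, K ⊓ centralizer {L.el (e2 + a • e0)} ≤ L.W := by
    intro a y hy
    obtain ⟨yK, yc⟩ := mem_inf.1 hy
    set h := L.hr a with hh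
    have ht : h * L.t * h⁻¹ = L.t := by rw [mem_centralizer_singleton_iff.1 (L.hr_t a), mul_inv_cancel_right]
    have he : h * L.el e0 * h⁻¹ = L.el e0 := by rw [L.hr_act, mr_facts.1]
    have hD : h * y * h⁻¹ ∈ L.Dx := by
      refine mem_inf.2 ⟨mem_centralizer_singleton_iff.2 ?_, mem_centralizer_singleton_iff.2 ?_⟩
      · have := (show Commute y _ from mem_centralizer_singleton_iff.1 yc).conj h
        rw [L.hr_act, mr_facts.2.1] at this
        exact this.eq
      · have := (show Commute y L.t from mem_centralizer_singleton_iff.1 (hK yK)).conj h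
        rw [ht] at this
        exact this.eq
    have hpow : ∀ z ∈ K, (h * z * h⁻¹) ^ Nat.card K = 1 := fun z hz => by
      rw [conj_pow, show z ^ Nat.card K = 1 from congrArg Subtype.val (pow_card_eq_one' (x := (⟨z, hz⟩ : K))),
        mul_one, mul_inv_cancel]
    have hc : (h * y * h⁻¹ * L.el e0 * (h * y * h⁻¹)⁻¹ * (L.el e0)⁻¹) ^ Nat.card K = 1 := by
      have := hpow _ (mul_mem yK (hinv e0 e_facts.1 _ (inv_mem yK)))
      rw [show h * (y * (L.el e0 * y⁻¹ * (L.el e0)⁻¹)) * h⁻¹ =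
        h * y * h⁻¹ * (h * L.el e0 * h⁻¹) * (h * y * h⁻¹)⁻¹ * (h * L.el e0 * h⁻¹)⁻¹ by group, he] at this
      exact this
    have hW := L.R_le_W (L.exterior_core hD hcop (hpow y yK) hc)
    exact (mem_normalizer_iff.1 (L.norm_plane (L.hr_t a) (L.hr_plane a)) y).2 hW
  rcases line_cases v v1 v3 (fun e => hne (by rw [e, L.el_zero])) with rfl | rfl | ⟨a, rfl | rfl⟩
  · exact case0
  · rw [hneg]; exact case0
  · exact case2 a
  · rw [hneg]; exact case2 a

theorem qt_trans (a : ZMod 3) : ∃ q ∈ L.Qt, q * L.el e2 * q⁻¹ = L.el (e2 + a • e0) := by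
  obtain ⟨q, hq, hne⟩ := L.qt_moves
  obtain ⟨j, hj⟩ := L.Q_comm (mem_inf.1 hq).1 ((L.Q_J e2).2 e_facts.2.2.2.2.2.2.1)
  have h0 : q * L.el (j • e0) * q⁻¹ = L.el (j • e0) := by
    rw [L.el_smul, ((show Commute q (L.el e0) from
      mem_centralizer_singleton_iff.1 (L.Q_le (mem_inf.1 hq).1)).pow_right _).eq, mul_inv_cancel_right]
  have h1 : q * L.el e2 * q⁻¹ = L.el (e2 + j • e0) := by rw [add_comm, L.el_add, ← hj]; group
  have hj0 : j ≠ 0 := fun e => hne (mul_inv_eq_iff_eq_mul.1 (by rw [h1, e, zero_smul, add_zero]))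
  have hm : ∀ m : ℕ, q ^ m * L.el e2 * (q ^ m)⁻¹ = L.el (e2 + m • (j • e0)) := by
    intro m
    induction m with
    | zero => simp
    | succ m ih =>
      have : q * L.el (m • (j • e0)) * q⁻¹ = L.el (m • (j • e0)) := by
        rw [L.el_nsmul, ← conj_pow, h0]
      calc q ^ (m + 1) * L.el e2 * (q ^ (m + 1))⁻¹ = q * (q ^ m * L.el e2 * (q ^ m)⁻¹) * q⁻¹ := by
            rw [pow_succ']; group
        _ = (q * L.el e2 * q⁻¹) * (q * L.el (m • (j • e0)) * q⁻¹) := by rw [ih, L.el_add]; group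
        _ = _ := by rw [h1, this, ← L.el_add, succ_nsmul, add_assoc, add_comm (j • e0)]
  refine ⟨q ^ (a * j).val, pow_mem hq _, ?_⟩
  rw [hm]
  refine congrArg L.el (congrArg (e2 + ·) ?_)
  have : ∀ a j : ZMod 3, j ≠ 0 → (a * j).val • (j • e0) = a • e0 := by decide +kernel
  exact this a j hj0

/-- The centraliser of the central point and the reflection moves the product at the exterior point into `W`. -/
theorem conj_R {g : G} (hg : g ∈ centralizer ({L.el e0} : Set G) ⊓ centralizer {L.t}) {r : G} (hr : r ∈ L.R) :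
    g * r * g⁻¹ ∈ L.W := by
  classical
  have g0 : g * L.el e0 * g⁻¹ = L.el e0 := by
    rw [mem_centralizer_singleton_iff.1 (mem_inf.1 hg).1, mul_inv_cancel_right]
  have gt : g * L.t * g⁻¹ = L.t := by
    rw [mem_centralizer_singleton_iff.1 (mem_inf.1 hg).2, mul_inv_cancel_right]
  let b : ZMod 3 → G := fun a => g * L.el (e2 + a • e0) * g⁻¹
  have hb : ∀ a, b a ∈ L.Qt := fun a => L.qt_norm hg (L.el_mem_Qt
    (by simp [e_facts.1, e_facts.2.1]) (by simp [e_facts.2.2.2.2.2.1, e_facts.2.2.2.2.2.2.1]))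
  let C : ZMod 3 → Subgroup G := fun a => L.W ⊓ centralizer {b a}
  have hPC : ∀ a, L.P ≤ C a := fun a p hp => mem_inf.2 ⟨L.P_le_W hp,
    mem_centralizer_singleton_iff.2 (L.P_comm p hp _ (hb a))⟩
  have hCn : ∀ (a : ZMod 3) (x : G), x ∈ L.W → ∀ y ∈ C a, x * y * x⁻¹ ∈ C a := fun a x hx y hy => by
    rw [show x * y * x⁻¹ = (x * y * x⁻¹ * y⁻¹) * y by group]
    refine mul_mem (hPC a ?_) hy
    rcases L.mem_Zt.1 (L.W_comm hx (mem_inf.1 hy).1) with e | e <;> rw [e]
    exacts [one_mem _, L.t_mem]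
  -- generation
  set A : Subgroup G := L.A9.map (MulAut.conj g).toMonoidHom with hAdef
  haveI : IsMulCommutative A := ⟨⟨by
    rintro ⟨_, x, hx, rfl⟩ ⟨_, y, hy, rfl⟩
    exact Subtype.ext (((map_mul _ x y).symm.trans (congrArg _ (L.A9_comm hx hy))).trans (map_mul _ y x))⟩⟩
  have hAc : Nat.card A = 9 := by rw [Subgroup.card_map_of_injective (MulEquiv.injective _), L.card_A9]
  have hA3 : ∀ x ∈ A, x ^ 3 = 1 := by
    rintro _ ⟨x, hx, rfl⟩; rw [← map_pow, L.A9_cube hx, map_one]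
  have hAN : A ≤ normalizer (L.W : Set G) := by
    rintro _ ⟨x, ⟨v, v1, v3, rfl⟩, rfl⟩
    exact L.qt_normW (L.qt_norm hg (L.el_mem_Qt v1 v3))
  have hgen := CoprimeAct.generated_by_centralizers (not_cyclic hAc hA3) hAN
    (by rw [hAc, L.card_W]; norm_num)
  have hWle : L.W ≤ C 0 ⊔ C 1 ⊔ C 2 := by
    refine hgen.ge.trans (iSup₂_le fun x hx => ?_)
    obtain ⟨⟨_, ⟨v, v1, v3, rfl⟩, rfl⟩, hne⟩ := hx
    have hneg : ∀ u : V4, centralizer ({g * L.el (-u) * g⁻¹} : Set G) = centralizer {g * L.el u * g⁻¹} := fun u => by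
      ext y
      rw [mem_centralizer_singleton_iff, mem_centralizer_singleton_iff,
        show g * L.el (-u) * g⁻¹ = (g * L.el u * g⁻¹)⁻¹ by rw [L.el_neg]; group]
      exact ⟨fun h => by simpa using (show Commute y _ from h).inv_right.eq,
        fun h => (show Commute y _ from h).inv_right.eq⟩
    have case0 : L.W ⊓ centralizer {g * L.el e0 * g⁻¹} ≤ C 0 ⊔ C 1 ⊔ C 2 := by
      rw [g0]
      exact fun y hy => le_sup_left (α := Subgroup G) (le_sup_left (α := Subgroup G) (hPC 0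
        (L.fix_point (mem_inf.1 hy).1 (mem_centralizer_singleton_iff.1 (mem_inf.1 hy).2))))
    have case2 : ∀ a : ZMod 3, L.W ⊓ centralizer {g * L.el (e2 + a • e0) * g⁻¹} ≤ C 0 ⊔ C 1 ⊔ C 2 := fun a => by
      fin_cases a
      exacts [le_sup_of_le_left le_sup_left, le_sup_of_le_left le_sup_right, le_sup_right]
    show L.W ⊓ centralizer {g * L.el v * g⁻¹} ≤ _
    rcases line_cases v v1 v3 (fun e => hne (by simp [e, L.el_zero])) with rfl | rfl | ⟨a, rfl | rfl⟩
    · exact case0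
    · rw [hneg]; exact case0
    · exact case2 a
    · rw [hneg]; exact case2 a
  have hn1 : C 1 ≤ normalizer (C 0 : Set G) := fun x hx => mem_normalizer_iff.2 fun y =>
    ⟨hCn 0 x (mem_inf.1 hx).1 y, fun h => by simpa [mul_assoc] using hCn 0 x⁻¹ (inv_mem (mem_inf.1 hx).1) _ h⟩
  have hn2 : C 2 ≤ normalizer ((C 0 ⊔ C 1 : Subgroup G) : Set G) := fun x hx => by
    have hmap : ∀ x' ∈ C 2, ∀ y ∈ C 0 ⊔ C 1, x' * y * x'⁻¹ ∈ C 0 ⊔ C 1 := by
      intro x' hx' y hy
      rw [← SetLike.mem_coe, coe_mul_of_right_le_normalizer_left _ _ hn1] at hy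
      obtain ⟨u, hu, w, hw, rfl⟩ := hy
      rw [show x' * (u * w) * x'⁻¹ = x' * u * x'⁻¹ * (x' * w * x'⁻¹) by group]
      exact mul_mem (le_sup_left (α := Subgroup G) (hCn 0 x' (mem_inf.1 hx').1 u hu))
        (le_sup_right (α := Subgroup G) (hCn 1 x' (mem_inf.1 hx').1 w hw))
    exact mem_normalizer_iff.2 fun y => ⟨hmap x hx y, fun h => by
      simpa [mul_assoc] using hmap x⁻¹ (inv_mem hx) _ h⟩
  have hdec : ∀ w : L.W, ∃ p : C 0 × C 1 × C 2, (p.1 : G) * p.2.1 * p.2.2 = w := by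
    intro w
    have h := hWle w.2
    rw [← SetLike.mem_coe, coe_mul_of_right_le_normalizer_left _ _ hn2,
      coe_mul_of_right_le_normalizer_left _ _ hn1] at h
    obtain ⟨_, ⟨u, hu, v, hv, rfl⟩, z, hz, e⟩ := h
    exact ⟨(⟨u, hu⟩, ⟨v, hv⟩, ⟨z, hz⟩), e⟩
  choose dec hdecE using hdec
  let Ψ : ↥L.W × ↥L.P × ↥L.P → C 0 × C 1 × C 2 := fun s =>
    (⟨(dec s.1).1 * s.2.1, mul_mem (dec s.1).1.2 (hPC 0 s.2.1.2)⟩,
     ⟨(s.2.1 : G)⁻¹ * (dec s.1).2.1 * s.2.2, mul_mem (mul_mem (inv_mem (hPC 1 s.2.1.2)) (dec s.1).2.1.2) (hPC 1 s.2.2.2)⟩,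
     ⟨(s.2.2 : G)⁻¹ * (dec s.1).2.2, mul_mem (inv_mem (hPC 2 s.2.2.2)) (dec s.1).2.2.2⟩)
  have hΨ : Function.Injective Ψ := by
    rintro ⟨w, p, p'⟩ ⟨w', q, q'⟩ e
    simp only [Ψ, Prod.ext_iff, Subtype.ext_iff] at e
    obtain ⟨e1, e2, e3⟩ := e
    have hw : w = w' := Subtype.ext (by
      rw [← hdecE w, ← hdecE w']
      calc _ = (dec w).1 * (p : G) * ((p : G)⁻¹ * (dec w).2.1 * p') * ((p' : G)⁻¹ * (dec w).2.2) := by group
        _ = _ := by rw [e1, e2, e3]; group)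
    subst hw
    have hp : p = q := Subtype.ext (mul_left_cancel e1)
    subst hp
    have hp' : p' = q' := Subtype.ext (mul_left_cancel e2)
    subst hp'
    rfl
  have hcard := Nat.card_le_card_of_injective Ψ hΨ
  simp only [Nat.card_prod, L.card_W, L.P_card] at hcard
  have hsame : ∀ a, Nat.card (C a) ≤ Nat.card (C 0) := fun a => by
    obtain ⟨q, hq, hqe⟩ := L.qt_trans a
    set u := g * q⁻¹ * g⁻¹ with hu
    have hub : u * b a * u⁻¹ = b 0 := by
      simp only [b, hu]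
      rw [zero_smul, add_zero, ← hqe]; group
    refine Nat.card_le_card_of_injective (fun x : C a => (⟨u * x.1 * u⁻¹, mem_inf.2 ⟨?_, ?_⟩⟩ : C 0))
      fun x y e => Subtype.ext (mul_left_cancel (mul_right_cancel (congrArg Subtype.val e)))
    · exact (mem_normalizer_iff.1 (L.qt_normW (L.qt_norm hg (inv_mem hq))) x.1).1 (mem_inf.1 x.2).1
    · rw [← hub]
      exact mem_centralizer_singleton_iff.2
        ((show Commute x.1 (b a) from mem_centralizer_singleton_iff.1 (mem_inf.1 x.2).2).conj u).eq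
  have h32 : 32 ≤ Nat.card (C 0) := by
    have h := hcard.trans (Nat.mul_le_mul le_rfl (Nat.mul_le_mul (hsame 1) (hsame 2)))
    by_contra hlt
    have := Nat.mul_le_mul (show Nat.card (C 0) ≤ 31 by omega)
      (Nat.mul_le_mul (show Nat.card (C 0) ≤ 31 by omega) (show Nat.card (C 0) ≤ 31 by omega))
    omega
  -- back at the exterior point
  have hback : ∀ x : C 0, g⁻¹ * x.1 * g ∈ L.R := fun x => by
    obtain ⟨xW, xb⟩ := mem_inf.1 x.2
    have pw : ∀ z ∈ L.W, (g⁻¹ * z * g) ^ 512 = 1 := fun z hz => by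
      have := conj_pow (a := g⁻¹) (b := z) (i := 512)
      rw [inv_inv] at this
      have hz' := congrArg Subtype.val (pow_card_eq_one' (x := (⟨z, hz⟩ : L.W)))
      rw [Subgroup.coe_pow, L.card_W] at hz'
      rw [this, hz', OneMemClass.coe_one, mul_one, inv_mul_cancel]
    refine L.exterior_core ?_ (n := 512) (by norm_num) (pw _ xW) ?_
    · refine mem_inf.2 ⟨mem_centralizer_singleton_iff.2 ?_, mul_mem (mul_mem (inv_mem (mem_inf.1 hg).2) (L.W_le xW))
        (mem_inf.1 hg).2⟩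
      have h := (show Commute x.1 _ from mem_centralizer_singleton_iff.1 xb).conj g⁻¹
      simp only [b, zero_smul, add_zero] at h
      simpa [mul_assoc] using h.eq
    · have gi0 : g⁻¹ * L.el e0 * g = L.el e0 := by
        calc g⁻¹ * L.el e0 * g = g⁻¹ * (g * L.el e0 * g⁻¹) * g := by rw [g0]
          _ = L.el e0 := by group
      have hc : x.1 * L.el e0 * x.1⁻¹ * (L.el e0)⁻¹ ∈ L.W := by
        rw [show x.1 * L.el e0 * x.1⁻¹ * (L.el e0)⁻¹ = x.1 * (L.el e0 * x.1⁻¹ * (L.el e0)⁻¹) by group]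
        exact mul_mem xW ((mem_normalizer_iff.1 (L.plane_norm e_facts.1) _).1 (inv_mem xW))
      have := pw _ hc
      rwa [show g⁻¹ * (x.1 * L.el e0 * x.1⁻¹ * (L.el e0)⁻¹) * g =
        g⁻¹ * x.1 * g * (g⁻¹ * L.el e0 * g) * (g⁻¹ * x.1 * g)⁻¹ * (g⁻¹ * L.el e0 * g)⁻¹ by group, gi0] at this
  have hbij : Function.Bijective fun x : C 0 => (⟨g⁻¹ * x.1 * g, hback x⟩ : L.R) :=
    Function.Injective.bijective_of_nat_card_le (fun x y e => Subtype.ext
      (mul_left_cancel (mul_right_cancel (congrArg Subtype.val e)))) (by rw [L.card_R]; exact h32)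
  obtain ⟨x, hx⟩ := hbij.2 ⟨r, hr⟩
  have hxe : g⁻¹ * x.1 * g = r := congrArg Subtype.val hx
  rw [← hxe, show g * (g⁻¹ * x.1 * g) * g⁻¹ = x.1 by group]
  exact (mem_inf.1 x.2).1

/-- The centraliser of the central point and the reflection normalises `W`. -/
theorem cent_singular : centralizer ({L.el e0} : Set G) ⊓ centralizer {L.t} ≤ normalizer (L.W : Set G) := by
  intro g hg
  have hone : ∀ {g' : G}, g' ∈ centralizer ({L.el e0} : Set G) ⊓ centralizer {L.t} → ∀ x ∈ L.P4 1,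
      g' * x * g'⁻¹ ∈ L.W := fun hg' x hx =>
    L.conj_R hg' (L.mem_R.2 ⟨1, one_mem _, x, hx, one_mul x⟩)
  have htwo : ∀ (a : ZMod 3) (i : Fin 4), ((mr a).mulVec (cp i) = cp 1 ∨ (mr a).mulVec (cp i) = -cp 1) →
      ∀ x ∈ L.P4 i, g * x * g⁻¹ ∈ L.W := fun a i hi x hx => by
    obtain ⟨k, hk, hk'⟩ := L.P4_conj (L.hr_t a) (L.hr_plane a) i
    have hk1 : k = 1 := by
      rw [L.hr_act] at hk
      refine cp_signs k 1 ?_
      rcases hk with e | e <;> have e' := L.el_inj e <;> rw [e'] at hi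
      · exact hi
      · rcases hi with e | e
        · exact Or.inr (by rw [← e, neg_neg])
        · exact Or.inl (neg_inj.1 e)
    subst hk1
    have := hone (mul_mem hg (inv_mem (L.hr_C0 a))) _ (hk' x hx)
    rwa [show g * (L.hr a)⁻¹ * (L.hr a * x * (L.hr a)⁻¹) * (g * (L.hr a)⁻¹)⁻¹ = g * x * g⁻¹ by group] at this
  refine L.mem_norm_W fun i x hx => ?_
  fin_cases i
  · exact L.P_le_W (L.P_norm g hg x (L.P4_zero ▸ hx))
  · exact hone hg x hx
  · exact htwo 2 2 mr_facts.2.2.2.1 x hx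
  · exact htwo 1 3 mr_facts.2.2.2.2 x hx

end Loc

end Cfsg.Agent.Co2Three
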